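import Cfsg.Prelude.Def_Local
import Cfsg.Agent.Lib.Helper76.PSolvable
import Cfsg.Agent.Lib.Helper30.PPrimeCore
import Cfsg.Agent.Lib.Helper32.PPrimeP

set_option autoImplicit false
open Cfsg

/-!
# `p`-constraint: basic facts about `O_{p',p}(G)` and its Sylow `p`-subgroups.
-/

namespace Cfsg.Agent.Lib.Helper11

open Cfsg.Agent.Lib.Helper76 Cfsg.Agent.Lib.Helper30

variable {G : Type*} [Group G]

theorem pCore_map_equiv_le' {A B : Type*} [Group A] [Group B] (p : ℕ) (e : A ≃* B) :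
    (pCore p A).map e.toMonoidHom ≤ pCore p B := by
  rw [Subgroup.map_le_iff_le_comap]
  apply sSup_le
  rintro N ⟨hNn, hNc⟩
  rw [← Subgroup.map_le_iff_le_comap]
  apply le_sSup
  exact ⟨hNn.map _ e.surjective, hNc.map _⟩

theorem pCore_map_equiv' {A B : Type*} [Group A] [Group B] (p : ℕ) (e : A ≃* B) :
    (pCore p A).map e.toMonoidHom = pCore p B := by
  apply le_antisymm (pCore_map_equiv_le' p e)
  intro y hy
  have h := pCore_map_equiv_le' p e.symm (Subgroup.mem_map_of_mem _ hy)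
  exact ⟨e.symm y, h, by simp⟩

theorem pCore_characteristic' (p : ℕ) (X : Type*) [Group X] : (pCore p X).Characteristic :=
  Subgroup.characteristic_iff_map_le.mpr fun ϕ => pCore_map_equiv_le' p ϕ

theorem le_pCore' {p : ℕ} {N : Subgroup G} (hN : N.Normal) (hp : IsPGroup p N) : N ≤ pCore p G :=
  le_sSup ⟨hN, hp⟩

/-- Lemma A: in a finite group `X` with `O_{p'}(X) = 1`, a normal `p`-solvable subgroup
centralizing `O_p(X)` lies in `O_p(X)`. -/
theorem le_pCore_of_isPSolvable_of_le_centralizer {X : Type*} [Group X] [Finite X] {p : ℕ}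
    [Fact p.Prime] (hO : pPrimeCore p X = ⊥) (D : Subgroup X) [hDn : D.Normal]
    (hsol : IsPSolvable p ↥D) (hcent : D ≤ Subgroup.centralizer (pCore p X : Set X)) :
    D ≤ pCore p X := by
  have hOD : pPrimeCore p ↥D = ⊥ := by
    have h := pPrimeCore_normal_le p D
    rw [hO, le_bot_iff] at h
    exact (Subgroup.map_eq_bot_iff_of_injective _ D.subtype_injective).mp h
  have hHH := centralizer_pCore_le_of_isPSolvable hsol hOD
  have : (pCore p ↥D).Characteristic := pCore_characteristic' p ↥D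
  have hTn : ((pCore p ↥D).map D.subtype).Normal := ConjAct.normal_of_characteristic_of_normal
  have hDp : IsPGroup p (pCore p ↥D) := Cfsg.Agent.Lib.Helper55.pCore_isPGroup p
  have hTp : IsPGroup p ((pCore p ↥D).map D.subtype) := hDp.map _
  have hT : (pCore p ↥D).map D.subtype ≤ pCore p X := le_pCore' hTn hTp
  have htop : (⊤ : Subgroup ↥D) ≤ Subgroup.centralizer (pCore p ↥D : Set ↥D) := by
    intro d _
    rw [Subgroup.mem_centralizer_iff]
    intro t ht
    have h1 : (t : X) ∈ pCore p X := hT (Subgroup.mem_map_of_mem D.subtype ht)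
    have h2 := hcent d.2
    rw [Subgroup.mem_centralizer_iff] at h2
    exact Subtype.ext (h2 _ h1)
  intro d hd
  have h3 : (⟨d, hd⟩ : ↥D) ∈ pCore p ↥D := hHH (htop (Subgroup.mem_top _))
  exact hT ⟨⟨d, hd⟩, h3, rfl⟩

/-- The image of a Sylow `p`-subgroup of `O_{p',p}(G)` in `G / O_{p'}(G)` is `O_p(G / O_{p'}(G))`. -/
theorem map_sylow_pPrimePCore [Finite G] {p : ℕ} [Fact p.Prime] (P : Sylow p ↥(pPrimePCore p G)) :
    ((P : Subgroup ↥(pPrimePCore p G)).map (pPrimePCore p G).subtype).map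
        (QuotientGroup.mk' (pPrimeCore p G)) = pCore p (G ⧸ pPrimeCore p G) := by
  set O := pPrimeCore p G with hO
  set P₀ : Subgroup G := (P : Subgroup ↥(pPrimePCore p G)).map (pPrimePCore p G).subtype with hP₀
  set Q := pCore p (G ⧸ O) with hQ
  have hRdef : pPrimePCore p G = Q.comap (QuotientGroup.mk' O) := rfl
  have hP₀R : P₀ ≤ pPrimePCore p G := Subgroup.map_subtype_le _
  have hle : P₀.map (QuotientGroup.mk' O) ≤ Q := by
    rw [Subgroup.map_le_iff_le_comap]
    exact hP₀R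
  have hP₀p : IsPGroup p P₀ := P.isPGroup'.map _
  have c1 : Nat.card ((P₀.map (QuotientGroup.mk' O)).comap (QuotientGroup.mk' O)) =
      Nat.card O * Nat.card (P₀.map (QuotientGroup.mk' O)) := card_comap_mk' O _
  have c2 : (P₀.map (QuotientGroup.mk' O)).comap (QuotientGroup.mk' O) = O ⊔ P₀ := by
    rw [Subgroup.comap_map_eq, QuotientGroup.ker_mk', sup_comm]
  have c3 : Nat.card (O ⊔ P₀ : Subgroup G) = Nat.card O * Nat.card P₀ :=
    Cfsg.Agent.Lib.Helper32.card_pPrimeCore_sup hP₀p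
  have c4 : Nat.card (P₀.map (QuotientGroup.mk' O)) = Nat.card P₀ := by
    rw [c2, c3] at c1
    exact (Nat.eq_of_mul_eq_mul_left Nat.card_pos c1).symm
  have c5 : Nat.card P₀ = Nat.card (P : Subgroup ↥(pPrimePCore p G)) :=
    Subgroup.card_map_of_injective (pPrimePCore p G).subtype_injective
  have c6 : Nat.card (pPrimePCore p G) = Nat.card O * Nat.card Q := by
    rw [hRdef]; exact card_comap_mk' O Q
  have c7 : Nat.card (P : Subgroup ↥(pPrimePCore p G)) * (P : Subgroup ↥(pPrimePCore p G)).index =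
      Nat.card (pPrimePCore p G) :=
    Subgroup.card_mul_index _
  have hQp : IsPGroup p Q := Cfsg.Agent.Lib.Helper55.pCore_isPGroup p
  obtain ⟨k, hk⟩ := IsPGroup.iff_card.mp hQp
  have hnd : ¬ p ∣ (P : Subgroup ↥(pPrimePCore p G)).index := P.not_dvd_index
  have hcop : (p ^ k).Coprime (P : Subgroup ↥(pPrimePCore p G)).index :=
    Nat.Coprime.pow_left k ((Nat.Prime.coprime_iff_not_dvd Fact.out).mpr hnd)
  have hdvd : p ^ k ∣ Nat.card (P : Subgroup ↥(pPrimePCore p G)) *
      (P : Subgroup ↥(pPrimePCore p G)).index := by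
    rw [c7, c6, hk]; exact Dvd.intro_left _ rfl
  have hdvd2 : p ^ k ∣ Nat.card (P : Subgroup ↥(pPrimePCore p G)) :=
    hcop.dvd_of_dvd_mul_right hdvd
  refine Subgroup.eq_of_le_of_card_ge hle ?_
  rw [c4, c5, hk]
  exact Nat.le_of_dvd Nat.card_pos hdvd2

/-- Frattini: the normalizer of a Sylow `p`-subgroup of `O_{p',p}(G)` covers `G / O_{p'}(G)`. -/
theorem map_normalizer_sylow_pPrimePCore [Finite G] {p : ℕ} [Fact p.Prime]
    (P : Sylow p ↥(pPrimePCore p G)) :
    (Subgroup.normalizer (((P : Subgroup ↥(pPrimePCore p G)).map (pPrimePCore p G).subtype :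
      Subgroup G) : Set G)).map (QuotientGroup.mk' (pPrimeCore p G)) = ⊤ := by
  have : (pPrimePCore p G).Normal := Cfsg.Agent.Lib.Helper32.pPrimePCore_normal p G
  have h1 := Sylow.normalizer_sup_eq_top P
  have h2 := congrArg (Subgroup.map (QuotientGroup.mk' (pPrimeCore p G))) h1
  rw [Subgroup.map_sup, Subgroup.map_top_of_surjective _ (QuotientGroup.mk'_surjective _)] at h2
  have h3 : (pPrimePCore p G).map (QuotientGroup.mk' (pPrimeCore p G)) =
      pCore p (G ⧸ pPrimeCore p G) :=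
    Subgroup.map_comap_eq_self_of_surjective (QuotientGroup.mk'_surjective _) _
  rw [h3, ← map_sylow_pPrimePCore P] at h2
  rw [← h2, eq_comm, sup_eq_left]
  exact Subgroup.map_mono Subgroup.le_normalizer

/-- `C_G(P) O_{p'}(G) / O_{p'}(G) = C(O_p(G / O_{p'}(G)))` for a Sylow `p`-subgroup `P` of
`O_{p',p}(G)`. -/
theorem map_centralizer_sylow_pPrimePCore [Finite G] {p : ℕ} [Fact p.Prime]
    (P : Sylow p ↥(pPrimePCore p G)) :
    (Subgroup.centralizer (((P : Subgroup ↥(pPrimePCore p G)).map (pPrimePCore p G).subtype :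
      Subgroup G) : Set G)).map (QuotientGroup.mk' (pPrimeCore p G)) =
      Subgroup.centralizer (pCore p (G ⧸ pPrimeCore p G) : Set (G ⧸ pPrimeCore p G)) := by
  have hmap := map_sylow_pPrimePCore P
  have hnorm := map_normalizer_sylow_pPrimePCore P
  set O := pPrimeCore p G with hO
  set P₀ : Subgroup G := (P : Subgroup ↥(pPrimePCore p G)).map (pPrimePCore p G).subtype with hP₀
  have hP₀p : IsPGroup p P₀ := P.isPGroup'.map _
  apply le_antisymm
  · rintro _ ⟨c, hc, rfl⟩
    rw [Subgroup.mem_centralizer_iff]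
    intro y hy
    rw [SetLike.mem_coe, ← hmap] at hy
    obtain ⟨y₀, hy₀, rfl⟩ := hy
    rw [SetLike.mem_coe, Subgroup.mem_centralizer_iff] at hc
    have := hc y₀ hy₀
    rw [← map_mul, ← map_mul, this]
  · intro x hx
    have hx' : x ∈ (Subgroup.normalizer (P₀ : Set G)).map (QuotientGroup.mk' O) := by
      rw [hnorm]; trivial
    obtain ⟨n, hn, rfl⟩ := hx'
    rw [SetLike.mem_coe] at hn
    refine ⟨n, ?_, rfl⟩
    rw [SetLike.mem_coe, Subgroup.mem_centralizer_iff]
    intro y hy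
    have hy' : y ∈ P₀ := hy
    have h1 : n * y * n⁻¹ ∈ P₀ := (Subgroup.mem_normalizer_iff.mp hn y).mp hy'
    have h2 : n * y * n⁻¹ * y⁻¹ ∈ P₀ := P₀.mul_mem h1 (P₀.inv_mem hy')
    rw [Subgroup.mem_centralizer_iff] at hx
    have hyQ : (QuotientGroup.mk' O y) ∈ (pCore p (G ⧸ O) : Set (G ⧸ O)) := by
      rw [SetLike.mem_coe, ← hmap]
      exact Subgroup.mem_map_of_mem _ hy'
    have h3 := hx _ hyQ
    have h4 : (QuotientGroup.mk' O) (n * y * n⁻¹ * y⁻¹) = 1 := by
      simp only [map_mul, map_inv]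
      rw [← h3]
      group
    have h5 : n * y * n⁻¹ * y⁻¹ ∈ O := by
      rw [← QuotientGroup.ker_mk' O]; exact h4
    have h6 : n * y * n⁻¹ * y⁻¹ ∈ O ⊓ P₀ := ⟨h5, h2⟩
    rw [Cfsg.Agent.Lib.Helper32.pPrimeCore_inf_eq_bot hP₀p, Subgroup.mem_bot] at h6
    calc y * n = (n * y * n⁻¹ * y⁻¹)⁻¹ * (n * y) := by group
      _ = n * y := by rw [h6, inv_one, one_mul]

end Cfsg.Agent.Lib.Helper11
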