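import Mathlib.GroupTheory.Sylow
import Mathlib.GroupTheory.Commutator.Basic
import Mathlib.GroupTheory.Subgroup.Centralizer
import Cfsg.Prelude.Def_Solvable

set_option autoImplicit false

namespace Cfsg.Agent.Lib.Helper11

open Cfsg
open scoped commutatorElement

variable {G : Type*} [Group G]

/-- elementwise form of quadratic action of `a` on `V` -/
def QuadOn (V : Subgroup G) (a : G) : Prop := ∀ v ∈ V, Commute a ⁅v, a⁆

theorem mem_centralizer_iff_commutator_zpowers_eq_bot (V : Subgroup G) (a : G) :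
    ⁅V, Subgroup.zpowers a⁆ = ⊥ ↔ a ∈ Subgroup.centralizer (V : Set G) := by
  rw [Subgroup.commutator_eq_bot_iff_le_centralizer, Subgroup.le_centralizer_iff,
    Subgroup.zpowers_le]

theorem quadOn_of_commutator_eq_bot (V : Subgroup G) (a : G)
    (h : ⁅⁅V, Subgroup.zpowers a⁆, Subgroup.zpowers a⁆ = ⊥) : QuadOn V a := by
  intro v hv
  rw [Subgroup.commutator_eq_bot_iff_le_centralizer] at h
  have h1 : ⁅v, a⁆ ∈ ⁅V, Subgroup.zpowers a⁆ :=
    Subgroup.commutator_mem_commutator hv (Subgroup.mem_zpowers a)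
  exact h h1 a (Subgroup.mem_zpowers a)

theorem commute_commutator_zpow (a v : G) (h : Commute a ⁅v, a⁆) (i : ℤ) :
    Commute a ⁅v, a ^ i⁆ := by
  have hinv : Commute a ⁅v, a⁻¹⁆ := by
    rw [commutatorElement_inv_right, ← commutatorElement_inv v a]
    have h1 : Commute a ⁅v, a⁆⁻¹ := h.inv_right
    have h2 : Commute a a⁻¹ := (Commute.refl a).inv_right
    exact (h2.mul_right h1).mul_right (Commute.refl a)
  induction i using Int.induction_on with
  | zero => simp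
  | succ n ih =>
    rw [zpow_add_one, commutatorElement_mul_right_eq_mul_conj]
    have h2 : Commute a (a ^ (n : ℤ)) := (Commute.refl a).zpow_right _
    exact ((ih.mul_right h2).mul_right h).mul_right h2.inv_right
  | pred n ih =>
    rw [zpow_sub_one, commutatorElement_mul_right_eq_mul_conj]
    have h2 : Commute a (a ^ (-(n : ℤ))) := (Commute.refl a).zpow_right _
    exact ((ih.mul_right h2).mul_right hinv).mul_right h2.inv_right

theorem commutator_eq_bot_of_quadOn (V : Subgroup G) (a : G) (h : QuadOn V a) :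
    ⁅⁅V, Subgroup.zpowers a⁆, Subgroup.zpowers a⁆ = ⊥ := by
  rw [Subgroup.commutator_eq_bot_iff_le_centralizer, Subgroup.commutator_le]
  intro v hv g hg
  obtain ⟨i, rfl⟩ := Subgroup.mem_zpowers_iff.mp hg
  intro k hk
  obtain ⟨j, rfl⟩ := Subgroup.mem_zpowers_iff.mp hk
  exact ((commute_commutator_zpow a v (h v hv) i).symm.zpow_right j).symm.eq

theorem quadOn_iff (V : Subgroup G) (a : G) :
    QuadOn V a ↔ ⁅⁅V, Subgroup.zpowers a⁆, Subgroup.zpowers a⁆ = ⊥ :=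
  ⟨commutator_eq_bot_of_quadOn V a, quadOn_of_commutator_eq_bot V a⟩

theorem QuadOn.mono {V U : Subgroup G} {a : G} (h : QuadOn V a) (hUV : U ≤ V) : QuadOn U a :=
  fun v hv => h v (hUV hv)

/-- conjugation invariance for a normal subgroup -/
theorem QuadOn.conj {V : Subgroup G} (hV : V.Normal) {a : G} (h : QuadOn V a) (g : G) :
    QuadOn V (g * a * g⁻¹) := by
  intro v hv
  have hv' : g⁻¹ * v * g⁻¹⁻¹ ∈ V := hV.conj_mem v hv g⁻¹
  have h1 := h _ hv'
  have h2 : ⁅v, g * a * g⁻¹⁆ = g * ⁅g⁻¹ * v * g⁻¹⁻¹, a⁆ * g⁻¹ := by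
    rw [commutatorElement_def, commutatorElement_def]; group
  rw [h2]
  change g * a * g⁻¹ * (g * ⁅g⁻¹ * v * g⁻¹⁻¹, a⁆ * g⁻¹) = g * ⁅g⁻¹ * v * g⁻¹⁻¹, a⁆ * g⁻¹ * (g * a * g⁻¹)
  calc g * a * g⁻¹ * (g * ⁅g⁻¹ * v * g⁻¹⁻¹, a⁆ * g⁻¹)
      = g * (a * ⁅g⁻¹ * v * g⁻¹⁻¹, a⁆) * g⁻¹ := by group
    _ = g * (⁅g⁻¹ * v * g⁻¹⁻¹, a⁆ * a) * g⁻¹ := by rw [h1.eq]
    _ = g * ⁅g⁻¹ * v * g⁻¹⁻¹, a⁆ * g⁻¹ * (g * a * g⁻¹) := by group

/-- quadratic action only depends on the element modulo the centralizer -/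
theorem QuadOn.of_mul_centralizer {V : Subgroup G} (hV : V.Normal) {s c : G}
    (hc : c ∈ Subgroup.centralizer (V : Set G)) (h : QuadOn V (s * c)) : QuadOn V s := by
  intro v hv
  have hvinv : c * v⁻¹ = v⁻¹ * c := (hc v⁻¹ (inv_mem hv)).symm
  have h1 : ⁅v, s * c⁆ = ⁅v, s⁆ := by
    rw [commutatorElement_def, commutatorElement_def]
    calc v * (s * c) * v⁻¹ * (s * c)⁻¹ = v * s * (c * v⁻¹) * c⁻¹ * s⁻¹ := by group
      _ = v * s * (v⁻¹ * c) * c⁻¹ * s⁻¹ := by rw [hvinv]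
      _ = v * s * v⁻¹ * s⁻¹ := by group
  have h2 := h v hv
  rw [h1] at h2
  have hw : ⁅v, s⁆ ∈ V := by
    rw [commutatorElement_def]
    have : v * s * v⁻¹ * s⁻¹ = v * (s * v⁻¹ * s⁻¹) := by group
    rw [this]
    exact mul_mem hv (hV.conj_mem _ (inv_mem hv) s)
  have hcw : Commute c ⁅v, s⁆ := (hc _ hw).symm
  change s * ⁅v, s⁆ = ⁅v, s⁆ * s
  calc s * ⁅v, s⁆ = (s * c) * (c⁻¹ * ⁅v, s⁆) := by group
    _ = (s * c) * (⁅v, s⁆ * c⁻¹) := by rw [hcw.inv_left.eq]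
    _ = ((s * c) * ⁅v, s⁆) * c⁻¹ := by group
    _ = (⁅v, s⁆ * (s * c)) * c⁻¹ := by rw [h2.eq]
    _ = ⁅v, s⁆ * s := by group

/-- transport of quadratic action along an injective homomorphism -/
theorem quadOn_map_iff {H : Type*} [Group H] (f : G →* H) (hf : Function.Injective f)
    (U : Subgroup G) (y : G) : QuadOn (U.map f) (f y) ↔ QuadOn U y := by
  constructor
  · intro h u hu
    have := h (f u) (Subgroup.mem_map_of_mem f hu)
    rw [← map_commutatorElement] at this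
    change y * ⁅u, y⁆ = ⁅u, y⁆ * y
    apply hf
    rw [map_mul, map_mul]
    exact this.eq
  · rintro h _ ⟨u, hu, rfl⟩
    rw [← map_commutatorElement]
    change f y * f ⁅u, y⁆ = f ⁅u, y⁆ * f y
    rw [← map_mul, ← map_mul, (h u hu).eq]

theorem normal_pGroup_le_sylow {p : ℕ} [Fact p.Prime] [Finite G]
    {N : Subgroup G} (hN : N.Normal) (hp : IsPGroup p N) (P : Sylow p G) : N ≤ P := by
  obtain ⟨Q, hQ⟩ := hp.exists_le_sylow
  obtain ⟨g, hg⟩ := MulAction.exists_smul_eq G Q P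
  intro x hx
  have h1 : g⁻¹ * x * g⁻¹⁻¹ ∈ N := hN.conj_mem x hx g⁻¹
  have h2 : g⁻¹ * x * g⁻¹⁻¹ ∈ (Q : Subgroup G) := hQ h1
  have h3 : x ∈ ((g • Q : Sylow p G) : Subgroup G) := by
    rw [Sylow.coe_subgroup_smul, Subgroup.mem_pointwise_smul_iff_inv_smul_mem, ← map_inv,
      MulAut.smul_def, MulAut.conj_apply]
    exact h2
  rw [hg] at h3
  exact h3

theorem pCore_le_sylow {p : ℕ} [Fact p.Prime] [Finite G] (P : Sylow p G) :
    Cfsg.pCore p G ≤ P := by
  unfold Cfsg.pCore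
  exact sSup_le (fun N hN => normal_pGroup_le_sylow hN.1 hN.2 P)

theorem pCore_isPGroup (p : ℕ) [Fact p.Prime] (G : Type*) [Group G] [Finite G] :
    IsPGroup p (Cfsg.pCore p G) := by
  obtain ⟨P⟩ : Nonempty (Sylow p G) := inferInstance
  exact P.2.to_le (pCore_le_sylow P)

theorem le_pCore {p : ℕ} {N : Subgroup G} (hN : N.Normal) (hp : IsPGroup p N) :
    N ≤ Cfsg.pCore p G := by
  unfold Cfsg.pCore
  exact le_sSup ⟨hN, hp⟩

end Cfsg.Agent.Lib.Helper11
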