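import Cfsg.Prelude.Def_Local
import Cfsg.Prelude.Def_PLocal
import Cfsg.Agent.Lib.Helper11.Quad
import Cfsg.Agent.Lib.Helper54.PConstr1

set_option autoImplicit false
open Cfsg

/-!
# From `Cfsg.IsPStable` (with trivial `p'`-core) to `Cfsg.IsPStableOn` on normal `p`-subgroups.
-/

namespace Cfsg.Agent.Lib.Helper11

open scoped commutatorElement

variable {X : Type*} [Group X]

theorem mem_of_pow_mem_of_coprime' (S : Subgroup X) {r : X} {m n : ℕ}
    (h : Nat.Coprime m n) (hm : r ^ m ∈ S) (hn : r ^ n ∈ S) : r ∈ S := by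
  have hb := Nat.gcd_eq_gcd_ab m n
  rw [h] at hb
  have : r = (r ^ m) ^ (Nat.gcdA m n) * (r ^ n) ^ (Nat.gcdB m n) := by
    rw [← zpow_natCast r m, ← zpow_natCast r n, ← zpow_mul, ← zpow_mul, ← zpow_add, ← hb]
    simp
  rw [this]
  exact S.mul_mem (S.zpow_mem hm _) (S.zpow_mem hn _)

/-- quadratic action: `v a^k v⁻¹ = [v,a]^k a^k` -/
theorem conj_pow_of_quadOn {V : Subgroup X} {a : X} (h : QuadOn V a) {v : X} (hv : v ∈ V) (k : ℕ) :
    v * a ^ k * v⁻¹ = ⁅v, a⁆ ^ k * a ^ k := by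
  have h1 : v * a * v⁻¹ = ⁅v, a⁆ * a := by
    rw [commutatorElement_def]; group
  have h2 : v * a ^ k * v⁻¹ = (v * a * v⁻¹) ^ k := by
    rw [conj_pow]
  rw [h2, h1]
  exact ((h v hv).symm).mul_pow k

/-- If `a` acts quadratically on the normal `p`-subgroup `V` and `orderOf a = p^j * m`, then
`a^(p^j)` centralizes `V`. -/
theorem pow_mem_centralizer_of_quadOn [Finite X] {p : ℕ} [Fact p.Prime] {V : Subgroup X}
    (hVn : V.Normal) (hV : IsPGroup p V) {a : X} (h : QuadOn V a) {j m : ℕ}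
    (hjm : orderOf a = p ^ j * m) (hm : ¬ p ∣ m) :
    a ^ (p ^ j) ∈ Subgroup.centralizer (V : Set X) := by
  rw [Subgroup.mem_centralizer_iff]
  intro v hv
  have hv' : v ∈ V := hv
  have hcV : ⁅v, a⁆ ∈ V := by
    rw [commutatorElement_def]
    have := hVn.conj_mem v⁻¹ (inv_mem hv') a
    have h3 : v * a * v⁻¹ * a⁻¹ = v * (a * v⁻¹ * a⁻¹) := by group
    rw [h3]; exact mul_mem hv' this
  have h1 := conj_pow_of_quadOn h hv' (orderOf a)
  rw [pow_orderOf_eq_one, mul_one, mul_inv_cancel, mul_one] at h1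
  -- `[v,a]` has `p`-power order dividing `p^j * m`
  obtain ⟨i, hi⟩ := (IsPGroup.iff_orderOf.mp hV) ⟨⁅v, a⁆, hcV⟩
  rw [Subgroup.orderOf_mk] at hi
  have h2 : orderOf ⁅v, a⁆ ∣ p ^ j * m := by
    rw [← hjm]; exact orderOf_dvd_of_pow_eq_one h1.symm
  have hcop : (p ^ i).Coprime m :=
    Nat.Coprime.pow_left i ((Nat.Prime.coprime_iff_not_dvd Fact.out).mpr hm)
  have h3 : orderOf ⁅v, a⁆ ∣ p ^ j := by
    rw [hi] at h2 ⊢
    exact hcop.dvd_of_dvd_mul_right h2
  have h4 : ⁅v, a⁆ ^ (p ^ j) = 1 := orderOf_dvd_iff_pow_eq_one.mp h3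
  have h5 := conj_pow_of_quadOn h hv' (p ^ j)
  rw [h4, one_mul] at h5
  calc v * a ^ p ^ j = (v * a ^ p ^ j * v⁻¹) * v := by group
    _ = a ^ p ^ j * v := by rw [h5]

/-- In a finite group with `O_{p'}(X) = 1`, `p`-stability (Gorenstein's form) implies that the
conjugation action on every normal `p`-subgroup is `p`-stable. -/
theorem isPStableOn_of_isPStable [Finite X] {p : ℕ} [Fact p.Prime] (h0 : pPrimeCore p X = ⊥)
    (hs : IsPStable p X) (V : Subgroup X) [hVn : V.Normal] (hV : IsPGroup p V) :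
    IsPStableOn p V := by
  intro a hquad
  have hq : QuadOn V a := (quadOn_iff V a).mpr hquad
  obtain ⟨j, m, hm, hjm⟩ := Nat.exists_eq_pow_mul_and_not_dvd (orderOf_pos a).ne' p
    (Fact.out : p.Prime).ne_one
  have hN : ∀ g : X, g ∈ Subgroup.normalizer (V : Set X) := fun g => by
    rw [Subgroup.normalizer_eq_top_iff.mpr hVn]; trivial
  -- the `p`-part `a ^ m`
  have hA : IsPGroup p (Subgroup.zpowers (a ^ m)) := by
    have h1 : (a ^ m) ^ (p ^ j) = 1 := by
      rw [← pow_mul, mul_comm, ← hjm, pow_orderOf_eq_one]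
    obtain ⟨k, -, hk⟩ := (Nat.dvd_prime_pow Fact.out).mp (orderOf_dvd_of_pow_eq_one h1)
    apply IsPGroup.of_card (n := k)
    rw [Nat.card_zpowers, hk]
  have hAle : Subgroup.zpowers (a ^ m) ≤ Subgroup.zpowers a :=
    Subgroup.zpowers_le.mpr (Subgroup.pow_mem _ (Subgroup.mem_zpowers a) m)
  have hconc := hs.2.2 (Subgroup.zpowers (a ^ m)) V hA hV
    (fun g _ x hx => hVn.conj_mem x hx g)
    (by
      rw [Cfsg.Agent.Lib.Helper54.pPrimePCore_eq_pCore_of_pPrimeCore_eq_bot p h0]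
      exact le_pCore hVn hV)
    (by rw [h0, bot_sup_eq]; exact hVn)
    (by
      rw [eq_bot_iff, ← hquad]
      exact Subgroup.commutator_mono (Subgroup.commutator_mono le_rfl hAle) hAle)
  have h1 : (QuotientGroup.mk (⟨a ^ m, hN _⟩ : Subgroup.normalizer (V : Set X)) :
      ↥(Subgroup.normalizer (V : Set X)) ⧸
        (Subgroup.centralizer (V : Set X)).subgroupOf (Subgroup.normalizer (V : Set X))) ∈
      pCore p _ := by
    apply hconc
    refine Subgroup.mem_map_of_mem _ ?_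
    rw [Subgroup.mem_subgroupOf]
    exact Subgroup.mem_zpowers _
  let f : ↥(Subgroup.normalizer (V : Set X)) ⧸
      (Subgroup.centralizer (V : Set X)).subgroupOf (Subgroup.normalizer (V : Set X)) →*
      X ⧸ Subgroup.centralizer (V : Set X) :=
    QuotientGroup.map _ _ (Subgroup.normalizer (V : Set X)).subtype (le_refl _)
  have hf : Function.Surjective f := by
    intro x
    obtain ⟨g, rfl⟩ := QuotientGroup.mk_surjective x
    exact ⟨QuotientGroup.mk ⟨g, hN g⟩, rfl⟩
  have h2 := Subgroup.mem_map_of_mem f h1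
  have h3 : (pCore p (↥(Subgroup.normalizer (V : Set X)) ⧸
      (Subgroup.centralizer (V : Set X)).subgroupOf (Subgroup.normalizer (V : Set X)))).map f ≤
      pCore p (X ⧸ Subgroup.centralizer (V : Set X)) :=
    le_pCore (Subgroup.Normal.map inferInstance f hf) ((pCore_isPGroup p _).map f)
  have h4 : (QuotientGroup.mk (a ^ m) : X ⧸ Subgroup.centralizer (V : Set X)) ∈
      pCore p (X ⧸ Subgroup.centralizer (V : Set X)) := h3 h2
  have h5 : (QuotientGroup.mk (a ^ (p ^ j)) : X ⧸ Subgroup.centralizer (V : Set X)) ∈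
      pCore p (X ⧸ Subgroup.centralizer (V : Set X)) := by
    have := pow_mem_centralizer_of_quadOn hVn hV hq hjm hm
    rw [(QuotientGroup.eq_one_iff _).mpr this]
    exact one_mem _
  have hcop : Nat.Coprime m (p ^ j) :=
    (Nat.Coprime.pow_left j ((Nat.Prime.coprime_iff_not_dvd Fact.out).mpr hm)).symm
  exact mem_of_pow_mem_of_coprime' _ hcop h4 h5

end Cfsg.Agent.Lib.Helper11
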