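import Cfsg.Prelude.Def_Transfer
import Cfsg.Agent.Lib.Helper11.PStableOn

set_option autoImplicit false
set_option linter.unusedSectionVars false
set_option linter.style.haveILetI false
open Cfsg

/-!
# Normal `p`-complements: witness form and transfer lemmas.
-/

namespace Cfsg.Agent.Lib.Helper11

/-- `K` is a normal `p`-complement of `G`, in elementwise form. -/
def NPCWit (p : ℕ) {G : Type*} [Group G] (K : Subgroup G) : Prop :=
  K.Normal ∧ (∀ x ∈ K, (orderOf x).Coprime p) ∧ ∀ g : G, ∃ n : ℕ, g ^ p ^ n ∈ K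

section

variable {G : Type*} [Group G] {p : ℕ} [hp : Fact p.Prime]

theorem coprime_card_of_forall_orderOf [Finite G] (K : Subgroup G)
    (h : ∀ x ∈ K, (orderOf x).Coprime p) : (Nat.card K).Coprime p := by
  rw [Nat.coprime_comm, Nat.Prime.coprime_iff_not_dvd hp.out]
  intro hdvd
  obtain ⟨x, hx⟩ := exists_prime_orderOf_dvd_card' p hdvd
  have h1 := h (x : G) x.2
  rw [Subgroup.orderOf_coe, hx] at h1
  exact hp.out.one_lt.ne' ((Nat.coprime_self p).mp h1)

theorem forall_orderOf_of_coprime_card [Finite G] (K : Subgroup G)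
    (h : (Nat.card K).Coprime p) : ∀ x ∈ K, (orderOf x).Coprime p := by
  intro x hx
  have h1 : orderOf (⟨x, hx⟩ : K) ∣ Nat.card K := orderOf_dvd_natCard _
  rw [← Subgroup.orderOf_coe] at h1
  exact Nat.Coprime.coprime_dvd_left h1 h

theorem NPCWit.isPGroup_quotient {K : Subgroup G} (h : NPCWit p K) :
    haveI := h.1
    IsPGroup p (G ⧸ K) := by
  haveI := h.1
  intro q
  obtain ⟨g, rfl⟩ := QuotientGroup.mk_surjective q
  obtain ⟨n, hn⟩ := h.2.2 g
  exact ⟨n, by rw [← QuotientGroup.mk_pow]; exact (QuotientGroup.eq_one_iff _).mpr hn⟩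

theorem hasNPC_of_wit [Finite G] {K : Subgroup G} (h : NPCWit p K) :
    HasNormalPComplement p G := by
  haveI := h.1
  let P : Sylow p G := default
  refine ⟨P, K, h.1, ?_⟩
  have hKc : (Nat.card K).Coprime p := coprime_card_of_forall_orderOf K h.2.1
  have hdisj : Disjoint K (P : Subgroup G) := by
    apply Subgroup.disjoint_of_coprime_natCard
    obtain ⟨j, hj⟩ := IsPGroup.iff_card.mp P.2
    rw [hj]; exact Nat.Coprime.pow_right j hKc
  obtain ⟨m, hm⟩ := IsPGroup.iff_card.mp h.isPGroup_quotient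
  have hidx : K.index = p ^ m := by rw [Subgroup.index_eq_card]; exact hm
  have htop : K ⊔ (P : Subgroup G) = ⊤ := by
    rw [← Subgroup.index_eq_one]
    have h1 : (K ⊔ (P : Subgroup G)).index ∣ K.index := Subgroup.index_dvd_of_le le_sup_left
    have h2 : (K ⊔ (P : Subgroup G)).index ∣ (P : Subgroup G).index :=
      Subgroup.index_dvd_of_le le_sup_right
    rw [hidx] at h1
    have h3 : ((P : Subgroup G).index).Coprime p := by
      rw [Nat.coprime_comm, Nat.Prime.coprime_iff_not_dvd hp.out]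
      exact P.not_dvd_index
    have h4 : ((K ⊔ (P : Subgroup G)).index).Coprime (p ^ m) :=
      Nat.Coprime.pow_right m (Nat.Coprime.coprime_dvd_left h2 h3)
    exact Nat.Coprime.eq_one_of_dvd h4 h1
  apply Subgroup.isComplement'_of_disjoint_and_mul_eq_univ hdisj
  rw [← Subgroup.normal_mul, htop]; rfl

theorem exists_wit_of_hasNPC [Finite G] (h : HasNormalPComplement p G) :
    ∃ K : Subgroup G, NPCWit p K := by
  obtain ⟨P, N, hN, hc⟩ := h
  haveI := hN
  refine ⟨N, hN, ?_, ?_⟩
  · apply forall_orderOf_of_coprime_card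
    have h1 : (P : Subgroup G).index = Nat.card N := hc.index_eq_card
    rw [← h1, Nat.coprime_comm, Nat.Prime.coprime_iff_not_dvd hp.out]
    exact P.not_dvd_index
  · intro g
    obtain ⟨k, hk⟩ := IsPGroup.iff_card.mp P.2
    have h1 : N.index = Nat.card (P : Subgroup G) := hc.symm.index_eq_card
    refine ⟨k, ?_⟩
    rw [← QuotientGroup.eq_one_iff, QuotientGroup.mk_pow, ← hk, ← h1, Subgroup.index_eq_card]
    exact pow_card_eq_one'

theorem hasNPC_iff_wit [Finite G] :
    HasNormalPComplement p G ↔ ∃ K : Subgroup G, NPCWit p K :=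
  ⟨exists_wit_of_hasNPC, fun ⟨_, h⟩ => hasNPC_of_wit h⟩

/-- `p'`-elements lie in the normal `p`-complement. -/
theorem NPCWit.mem_of_coprime {K : Subgroup G} (h : NPCWit p K) {g : G}
    (hg : (orderOf g).Coprime p) : g ∈ K := by
  obtain ⟨n, hn⟩ := h.2.2 g
  apply mem_of_pow_mem_of_coprime' K (m := p ^ n) (n := orderOf g)
  · exact (Nat.Coprime.pow_right n hg).symm
  · exact hn
  · rw [pow_orderOf_eq_one]; exact K.one_mem

/-- The witness is unique: it consists exactly of the `p'`-elements. -/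
theorem NPCWit.mem_iff {K : Subgroup G} (h : NPCWit p K) {g : G} :
    g ∈ K ↔ (orderOf g).Coprime p :=
  ⟨h.2.1 g, fun hg => h.mem_of_coprime hg⟩

theorem NPCWit.comap {G' : Type*} [Group G'] {K : Subgroup G'} (h : NPCWit p K) (f : G →* G')
    (hf : Function.Injective f) : NPCWit p (K.comap f) := by
  haveI := h.1
  refine ⟨inferInstance, ?_, ?_⟩
  · intro x hx
    have := h.2.1 (f x) hx
    rwa [orderOf_injective f hf] at this
  · intro g
    obtain ⟨n, hn⟩ := h.2.2 (f g)
    exact ⟨n, by rw [Subgroup.mem_comap, map_pow]; exact hn⟩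

theorem NPCWit.map {G' : Type*} [Group G'] {K : Subgroup G} (h : NPCWit p K) (f : G →* G')
    (hf : Function.Surjective f) : NPCWit p (K.map f) := by
  haveI := h.1
  refine ⟨Subgroup.Normal.map inferInstance f hf, ?_, ?_⟩
  · rintro _ ⟨x, hx, rfl⟩
    exact Nat.Coprime.coprime_dvd_left (orderOf_map_dvd f x) (h.2.1 x hx)
  · intro g'
    obtain ⟨g, rfl⟩ := hf g'
    obtain ⟨n, hn⟩ := h.2.2 g
    exact ⟨n, by rw [← map_pow]; exact Subgroup.mem_map_of_mem f hn⟩

theorem hasNPC_of_injective [Finite G] {G' : Type*} [Group G'] [Finite G'] (f : G →* G')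
    (hf : Function.Injective f) (h : HasNormalPComplement p G') : HasNormalPComplement p G := by
  obtain ⟨K, hK⟩ := exists_wit_of_hasNPC h
  exact hasNPC_of_wit (hK.comap f hf)

theorem hasNPC_of_surjective [Finite G] {G' : Type*} [Group G'] [Finite G'] (f : G →* G')
    (hf : Function.Surjective f) (h : HasNormalPComplement p G) : HasNormalPComplement p G' := by
  obtain ⟨K, hK⟩ := exists_wit_of_hasNPC h
  exact hasNPC_of_wit (hK.map f hf)

theorem hasNPC_of_mulEquiv [Finite G] {G' : Type*} [Group G'] [Finite G'] (e : G ≃* G')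
    (h : HasNormalPComplement p G) : HasNormalPComplement p G' :=
  hasNPC_of_surjective e.toMonoidHom e.surjective h

theorem hasNPC_subgroup [Finite G] (Y : Subgroup G) (h : HasNormalPComplement p G) :
    HasNormalPComplement p ↥Y :=
  hasNPC_of_injective Y.subtype Y.subtype_injective h

theorem hasNPC_of_le [Finite G] {Y Z : Subgroup G} (hYZ : Y ≤ Z)
    (h : HasNormalPComplement p ↥Z) : HasNormalPComplement p ↥Y :=
  hasNPC_of_injective (Subgroup.inclusion hYZ) (Subgroup.inclusion_injective hYZ) h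

theorem hasNPC_top_iff [Finite G] :
    HasNormalPComplement p ↥(⊤ : Subgroup G) ↔ HasNormalPComplement p G :=
  ⟨hasNPC_of_mulEquiv Subgroup.topEquiv, hasNPC_of_mulEquiv Subgroup.topEquiv.symm⟩

theorem hasNPC_of_isPGroup [Finite G] (h : IsPGroup p G) : HasNormalPComplement p G := by
  apply hasNPC_of_wit (K := ⊥)
  refine ⟨inferInstance, ?_, ?_⟩
  · intro x hx
    rw [Subgroup.mem_bot] at hx
    rw [hx, orderOf_one]; exact Nat.coprime_one_left p
  · intro g
    obtain ⟨n, hn⟩ := h g
    exact ⟨n, by rw [hn]; exact Subgroup.one_mem _⟩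

theorem hasNPC_of_coprime_card [Finite G] (h : (Nat.card G).Coprime p) :
    HasNormalPComplement p G := by
  apply hasNPC_of_wit (K := ⊤)
  refine ⟨inferInstance, ?_, fun g => ⟨0, Subgroup.mem_top _⟩⟩
  intro x _
  exact Nat.Coprime.coprime_dvd_left (orderOf_dvd_natCard x) h

/-- Lifting a normal `p`-complement through a normal `p'`-subgroup. -/
theorem hasNPC_of_quotient [Finite G] (N : Subgroup G) [N.Normal]
    (hN : (Nat.card N).Coprime p) (h : HasNormalPComplement p (G ⧸ N)) :
    HasNormalPComplement p G := by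
  obtain ⟨K, hK⟩ := exists_wit_of_hasNPC h
  haveI := hK.1
  apply hasNPC_of_wit (K := K.comap (QuotientGroup.mk' N))
  refine ⟨inferInstance, ?_, ?_⟩
  · intro x hx
    have h1 : (orderOf (QuotientGroup.mk' N x)).Coprime p := hK.2.1 _ hx
    -- x ^ (order of image) lies in N
    have h2 : x ^ orderOf (QuotientGroup.mk' N x) ∈ N := by
      rw [← QuotientGroup.eq_one_iff, QuotientGroup.mk_pow]
      exact pow_orderOf_eq_one _
    have h3 : (orderOf (x ^ orderOf (QuotientGroup.mk' N x))).Coprime p :=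
      forall_orderOf_of_coprime_card N hN _ h2
    have h4 : orderOf x ∣ orderOf (QuotientGroup.mk' N x) *
        orderOf (x ^ orderOf (QuotientGroup.mk' N x)) := by
      apply orderOf_dvd_of_pow_eq_one
      rw [pow_mul]; exact pow_orderOf_eq_one _
    exact Nat.Coprime.coprime_dvd_left h4 (Nat.Coprime.mul_left h1 h3)
  · intro g
    obtain ⟨n, hn⟩ := hK.2.2 (QuotientGroup.mk' N g)
    exact ⟨n, by rw [Subgroup.mem_comap, map_pow]; exact hn⟩

/-- The normal `p`-complement centralizes every normal `p`-subgroup. -/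
theorem NPCWit.le_centralizer {K : Subgroup G} (h : NPCWit p K) {Q : Subgroup G}
    (hQn : Q.Normal) (hQ : IsPGroup p Q) : K ≤ Subgroup.centralizer (Q : Set G) := by
  haveI := h.1
  intro k hk
  rw [Subgroup.mem_centralizer_iff]
  intro q hq
  -- the commutator lies in `K ⊓ Q = ⊥`
  have h1 : q * k * q⁻¹ * k⁻¹ ∈ K := K.mul_mem (h.1.conj_mem k hk q) (K.inv_mem hk)
  have h2 : q * k * q⁻¹ * k⁻¹ ∈ Q := by
    have : q * k * q⁻¹ * k⁻¹ = q * (k * q⁻¹ * k⁻¹) := by group
    rw [this]
    exact Q.mul_mem hq (hQn.conj_mem _ (Q.inv_mem hq) k)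
  have h3 : q * k * q⁻¹ * k⁻¹ = 1 := by
    have hc := h.2.1 _ h1
    obtain ⟨n, hn⟩ := (IsPGroup.iff_orderOf.mp hQ) ⟨_, h2⟩
    rw [Subgroup.orderOf_mk] at hn
    rw [hn] at hc
    have : p ^ n = 1 := by
      rcases Nat.eq_zero_or_pos n with h0 | hpos
      · rw [h0, pow_zero]
      · exfalso
        have h5 : p.Coprime p := Nat.Coprime.coprime_dvd_left (dvd_pow_self p hpos.ne') hc
        exact hp.out.one_lt.ne' ((Nat.coprime_self p).mp h5)
    rw [this] at hn
    exact orderOf_eq_one_iff.mp hn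
  calc q * k = (q * k * q⁻¹ * k⁻¹) * (k * q) := by group
    _ = k * q := by rw [h3, one_mul]

end

end Cfsg.Agent.Lib.Helper11
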