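import Mathlib.GroupTheory.Sylow
import Mathlib.GroupTheory.Commutator.Basic
import Mathlib.GroupTheory.Subgroup.Centralizer
import Mathlib.GroupTheory.QuotientGroup.Basic
import Mathlib.GroupTheory.Index

set_option autoImplicit false

namespace Cfsg.Agent.Lib.Helper11

open scoped commutatorElement

variable {S : Type*} [Group S]

/-- if conjugation by `g` maps a finite subgroup into itself then `g` normalizes it -/
theorem mem_normalizer_of_conj_mem [Finite S] (H : Subgroup S) (g : S)
    (h : ∀ x ∈ H, g * x * g⁻¹ ∈ H) : g ∈ Subgroup.normalizer (H : Set S) := by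
  have hinj : Function.Injective (fun x : H => (⟨g * x * g⁻¹, h x x.2⟩ : H)) := by
    intro x y hxy
    have := congrArg Subtype.val hxy
    simp only [mul_left_inj, mul_right_inj] at this
    exact Subtype.ext this
  have hsurj := Finite.surjective_of_injective hinj
  rw [Subgroup.mem_normalizer_iff]
  intro x
  constructor
  · exact h x
  · intro hx
    obtain ⟨y, hy⟩ := hsurj ⟨g * x * g⁻¹, hx⟩
    have := congrArg Subtype.val hy
    simp only [mul_left_inj, mul_right_inj] at this
    rw [← this]; exact y.2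

/-- product formula when one subgroup normalizes the other -/
theorem card_sup_mul_card_inf (H N : Subgroup S)
    (hLE : H ≤ Subgroup.normalizer (N : Set S)) :
    Nat.card (H ⊔ N : Subgroup S) * Nat.card (H ⊓ N : Subgroup S) = Nat.card H * Nat.card N := by
  have hr : N.relIndex H = N.relIndex (H ⊔ N) := by
    haveI := Subgroup.normal_subgroupOf_of_le_normalizer hLE
    haveI := Subgroup.normal_subgroupOf_sup_of_le_normalizer hLE
    unfold Subgroup.relIndex Subgroup.index
    exact Nat.card_congr (QuotientGroup.quotientInfEquivProdNormalizerQuotient H N hLE).toEquiv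
  have h1 : Nat.card N * N.relIndex (H ⊔ N) = Nat.card (H ⊔ N : Subgroup S) := by
    have := Subgroup.relIndex_mul_relIndex ⊥ N (H ⊔ N) bot_le le_sup_right
    rwa [Subgroup.relIndex_bot_left, Subgroup.relIndex_bot_left] at this
  have h2 : Nat.card (H ⊓ N : Subgroup S) * N.relIndex H = Nat.card H := by
    have := Subgroup.relIndex_mul_relIndex ⊥ (H ⊓ N) H bot_le inf_le_left
    rwa [Subgroup.relIndex_bot_left, Subgroup.relIndex_bot_left, Subgroup.inf_relIndex_left]
      at this
  rw [← h1, ← h2, ← hr]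
  ring

/-- if two subgroups commute elementwise, elements of the join are products -/
theorem mem_sup_of_commute (Z K : Subgroup S) (hc : ∀ z ∈ Z, ∀ k ∈ K, z * k = k * z)
    (x : S) (hx : x ∈ Z ⊔ K) : ∃ z ∈ Z, ∃ k ∈ K, x = z * k := by
  rw [Subgroup.sup_eq_closure] at hx
  induction hx using Subgroup.closure_induction with
  | mem x hx =>
    rcases hx with hx | hx
    · exact ⟨x, hx, 1, one_mem _, (mul_one x).symm⟩
    · exact ⟨1, one_mem _, x, hx, (one_mul x).symm⟩
  | one => exact ⟨1, one_mem _, 1, one_mem _, (mul_one 1).symm⟩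
  | mul x y _ _ ihx ihy =>
    obtain ⟨u₁, hu₁, w₁, hw₁, rfl⟩ := ihx
    obtain ⟨u₂, hu₂, w₂, hw₂, rfl⟩ := ihy
    refine ⟨u₁ * u₂, mul_mem hu₁ hu₂, w₁ * w₂, mul_mem hw₁ hw₂, ?_⟩
    have := hc u₂ hu₂ w₁ hw₁
    calc u₁ * w₁ * (u₂ * w₂) = u₁ * (w₁ * u₂) * w₂ := by group
      _ = u₁ * (u₂ * w₁) * w₂ := by rw [this]
      _ = u₁ * u₂ * (w₁ * w₂) := by group
  | inv x _ ihx =>
    obtain ⟨u₁, hu₁, w₁, hw₁, rfl⟩ := ihx
    refine ⟨u₁⁻¹, inv_mem hu₁, w₁⁻¹, inv_mem hw₁, ?_⟩
    have := hc u₁⁻¹ (inv_mem hu₁) w₁⁻¹ (inv_mem hw₁)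
    rw [mul_inv_rev, this]

/-- the join of two elementwise commuting commutative subgroups is commutative -/
theorem isMulCommutative_sup_of_commute (Z K : Subgroup S)
    (hZ : ∀ x ∈ Z, ∀ y ∈ Z, x * y = y * x) (hK : ∀ x ∈ K, ∀ y ∈ K, x * y = y * x)
    (hc : ∀ z ∈ Z, ∀ k ∈ K, z * k = k * z) : IsMulCommutative (Z ⊔ K : Subgroup S) := by
  rw [Subgroup.sup_eq_closure]
  apply Subgroup.isMulCommutative_closure
  rintro x (hx | hx) y (hy | hy)
  · exact hZ x hx y hy
  · exact hc x hx y hy
  · exact (hc y hy x hx).symm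
  · exact hK x hx y hy

/-- triangular numbers -/
def tri (n : ℕ) : ℕ := ∑ i ∈ Finset.range n, i

theorem tri_succ (n : ℕ) : tri (n + 1) = tri n + n := by
  unfold tri; rw [Finset.sum_range_succ]

theorem tri_mul_two (n : ℕ) : tri n * 2 = n * (n - 1) := by
  induction n with
  | zero => simp [tri]
  | succ n ih =>
    rw [tri_succ, add_mul, ih]
    cases n with
    | zero => simp
    | succ m => simp; ring

theorem dvd_tri_of_odd (e : ℕ) (he : Odd e) : e ∣ tri e := by
  obtain ⟨m, rfl⟩ := he
  have h := tri_mul_two (2 * m + 1)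
  refine ⟨m, ?_⟩
  have h2 : tri (2 * m + 1) * 2 = (2 * m + 1) * m * 2 := by
    rw [h]; simp; ring
  exact Nat.eq_of_mul_eq_mul_right (by norm_num) h2

/-- power formula in class two -/
theorem mul_pow_of_commute_commutator (x y c : S) (hyx : y * x = c * x * y)
    (hcx : Commute c x) (hcy : Commute c y) (n : ℕ) :
    (x * y) ^ n = x ^ n * y ^ n * c ^ tri n := by
  have hyn : ∀ n : ℕ, y ^ n * x = c ^ n * x * y ^ n := by
    intro n
    induction n with
    | zero => simp
    | succ n ih =>
      calc y ^ (n + 1) * x = y ^ n * (y * x) := by rw [pow_succ]; group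
        _ = y ^ n * (c * x * y) := by rw [hyx]
        _ = (y ^ n * c) * x * y := by group
        _ = (c * y ^ n) * x * y := by rw [(hcy.pow_right n).eq]
        _ = c * (y ^ n * x) * y := by group
        _ = c * (c ^ n * x * y ^ n) * y := by rw [ih]
        _ = (c * c ^ n) * x * (y ^ n * y) := by group
        _ = c ^ (n + 1) * x * y ^ (n + 1) := by rw [← pow_succ' c, ← pow_succ y]
  induction n with
  | zero => simp [tri]
  | succ n ih =>
    have hcxn : Commute (c ^ n) x := hcx.pow_left n
    have hcyn : Commute (c ^ tri n) y := hcy.pow_left _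
    have hcxt : Commute (c ^ tri n) x := hcx.pow_left _
    have hcny : Commute (c ^ n) (y ^ n * y) :=
      ((hcy.pow_left n).pow_right n).mul_right (hcy.pow_left n)
    calc (x * y) ^ (n + 1) = (x * y) ^ n * (x * y) := pow_succ _ _
      _ = x ^ n * y ^ n * c ^ tri n * (x * y) := by rw [ih]
      _ = x ^ n * y ^ n * (c ^ tri n * x) * y := by group
      _ = x ^ n * y ^ n * (x * c ^ tri n) * y := by rw [hcxt.eq]
      _ = x ^ n * (y ^ n * x) * (c ^ tri n * y) := by group
      _ = x ^ n * (c ^ n * x * y ^ n) * (y * c ^ tri n) := by rw [hyn n, hcyn.eq]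
      _ = x ^ n * (c ^ n * x) * ((y ^ n * y) * c ^ tri n) := by group
      _ = x ^ n * (x * c ^ n) * ((y ^ n * y) * c ^ tri n) := by rw [hcxn.eq]
      _ = (x ^ n * x) * (c ^ n * (y ^ n * y)) * c ^ tri n := by group
      _ = (x ^ n * x) * ((y ^ n * y) * c ^ n) * c ^ tri n := by rw [hcny.eq]
      _ = (x ^ n * x) * (y ^ n * y) * (c ^ n * c ^ tri n) := by group
      _ = x ^ (n + 1) * y ^ (n + 1) * c ^ tri (n + 1) := by
          rw [← pow_succ x, ← pow_succ y, tri_succ, ← pow_add, add_comm n (tri n)]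

end Cfsg.Agent.Lib.Helper11
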