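import Cfsg.Agent.Lib.Helper11.Glauberman
import Cfsg.Agent.S0649

set_option autoImplicit false

namespace Cfsg.Agent.Lib.Helper11

variable {S : Type*} [Group S]

theorem rA1_le_of_normal (D : Subgroup S) [hD : D.Normal] (A : Subgroup S) (hAD : A ≤ D) (b : S) :
    rA1 A b ≤ D := by
  intro x hx
  rw [mem_rA1] at hx
  have := hD.conj_mem _ (hAD hx) b⁻¹
  have h2 : b⁻¹ * (b * x * b⁻¹) * b⁻¹⁻¹ = x := by group
  rwa [h2] at this

theorem rStar_le_of_normal (D : Subgroup S) [D.Normal] (A : Subgroup S) (hAD : A ≤ D) (b : S) :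
    rStar A b ≤ D :=
  rStar_le_sup.trans (sup_le hAD (rA1_le_of_normal D A hAD b))

/-- the general replacement property -/
theorem replacement_general [Finite S] {p : ℕ} [Fact p.Prime] (hS : IsPGroup p S) (hp : p ≠ 2)
    (D : Subgroup S) [D.Normal] (Q : Subgroup S → Prop)
    (hQc : ∀ X, Q X → IsMulCommutative X)
    (hQstar : ∀ (A B : Subgroup S) (b : S), RSetup A B b → Q A → Q (rStar A b))
    (B : Subgroup S) [B.Normal]
    (𝒜 : Set (Subgroup S))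
    (h𝒜 : ∀ X, X ∈ 𝒜 ↔ X ≤ D ∧ Q X ∧ ∀ Y, Y ≤ D → Q Y → Nat.card Y ≤ Nat.card X)
    (hex : ∃ U ∈ 𝒜, ⁅B, B⁆ ≤ U ∧ ¬ B ≤ U) :
    ∃ A ∈ 𝒜, ⁅B, B⁆ ≤ A ∧ ¬ B ≤ A ∧ B ≤ Subgroup.normalizer (A : Set S) := by
  classical
  let 𝒯 : Set (Subgroup S) := {A | A ∈ 𝒜 ∧ ⁅B, B⁆ ≤ A ∧ ¬ B ≤ A}
  have h𝒯ne : 𝒯.Nonempty := by
    obtain ⟨U, hU, h1, h2⟩ := hex
    exact ⟨U, hU, h1, h2⟩
  obtain ⟨A, hA𝒯, hmax⟩ := Set.exists_max_image 𝒯 (fun A => Nat.card (A ⊓ B : Subgroup S))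
    (Set.toFinite 𝒯) h𝒯ne
  obtain ⟨hA𝒜, hBA, hBnot⟩ := hA𝒯
  refine ⟨A, hA𝒜, hBA, hBnot, ?_⟩
  by_contra hnot
  obtain ⟨hAD, hQA, hAmax⟩ := (h𝒜 A).mp hA𝒜
  have hAc := hQc A hQA
  have hB2 : p = 2 → IsMulCommutative B := fun h => absurd h hp
  obtain ⟨b, hb, hbN, hbA⟩ := Cfsg.Agent.S0649.result hS B hB2 A hAc hBA hnot
  have hset : RSetup A B b := by
    refine ⟨inferInstance, ?_, hBA, hb, hbN⟩
    intro x hx y hy
    exact (Subgroup.le_centralizer_iff_isMulCommutative.mpr hAc hy x hx)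
  have hcard := hset.card_rStar
  have hstar𝒜 : rStar A b ∈ 𝒜 := by
    rw [h𝒜]
    refine ⟨rStar_le_of_normal D A hAD b, hQstar A B b hset hQA, ?_⟩
    intro Y hYD hQY
    rw [hcard]
    exact hAmax Y hYD hQY
  -- strictness facts
  obtain ⟨g, hg, hgA⟩ := hset.exists_rGens_not_mem hbA
  have hgK : g ∈ rK A b := Subgroup.subset_closure hg
  have hle : A ⊓ B ≤ rStar A b ⊓ B := le_inf (hset.inf_le_rZ.trans le_sup_left) inf_le_right
  have hBnot' : ¬ B ≤ rStar A b := fun h => hnot (h.trans hset.rStar_le_N)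
  have hstar𝒯 : rStar A b ∈ 𝒯 := ⟨hstar𝒜, hset.commutator_le_rZ.trans le_sup_left, hBnot'⟩
  have h1 := hmax _ hstar𝒯
  have heq := Subgroup.eq_of_le_of_card_ge hle h1
  apply hgA
  have : g ∈ rStar A b ⊓ B :=
    Subgroup.mem_inf.mpr ⟨le_sup_right (a := rZ A b) hgK, hset.rK_le_B hgK⟩
  rw [← heq] at this
  exact (Subgroup.mem_inf.mp this).1

end Cfsg.Agent.Lib.Helper11
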