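import Mathlib.GroupTheory.Sylow
import Mathlib.GroupTheory.Commutator.Basic
import Mathlib.GroupTheory.Subgroup.Centralizer
import Cfsg.Prelude.Def_Transfer
import Cfsg.Prelude.Def_Local
import Cfsg.Prelude.Def_PLocal

set_option autoImplicit false

namespace Cfsg.Agent.Lib.Helper11

open Cfsg

variable {G : Type*} {H : Type*} [Group G] [Group H]

theorem omegaOne_mono (p : ℕ) {K L : Subgroup G} (h : K ≤ L) :
    omegaOne p K ≤ omegaOne p L := by
  unfold omegaOne
  apply Subgroup.closure_mono
  rintro x ⟨hx, hxp⟩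
  exact ⟨h hx, hxp⟩

theorem omegaOne_le (p : ℕ) (K : Subgroup G) : omegaOne p K ≤ K := by
  unfold omegaOne
  rw [Subgroup.closure_le]
  rintro x ⟨hx, -⟩
  exact hx

theorem map_omegaOne_of_injective (p : ℕ) (f : G →* H) (hf : Function.Injective f)
    (K : Subgroup G) : (omegaOne p K).map f = omegaOne p (K.map f) := by
  unfold omegaOne
  rw [MonoidHom.map_closure]
  congr 1
  ext y
  constructor
  · rintro ⟨x, ⟨hx, hxp⟩, rfl⟩
    exact ⟨Subgroup.mem_map_of_mem f hx, by rw [← map_pow, hxp, map_one]⟩
  · rintro ⟨⟨x, hx, rfl⟩, hyp⟩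
    refine ⟨x, ⟨hx, ?_⟩, rfl⟩
    apply hf
    rw [map_pow, hyp, map_one]

theorem omegaOne_normal (p : ℕ) (K : Subgroup G) (hK : K.Normal) : (omegaOne p K).Normal := by
  constructor
  intro n hn g
  unfold omegaOne at hn ⊢
  induction hn using Subgroup.closure_induction with
  | mem y hy =>
    apply Subgroup.subset_closure
    refine ⟨hK.conj_mem y hy.1 g, ?_⟩
    rw [conj_pow, hy.2]; group
  | one => simp
  | mul y z _ _ ihy ihz =>
    have : g * (y * z) * g⁻¹ = (g * y * g⁻¹) * (g * z * g⁻¹) := by group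
    rw [this]
    exact mul_mem ihy ihz
  | inv y _ ihy =>
    have : g * y⁻¹ * g⁻¹ = (g * y * g⁻¹)⁻¹ := by group
    rw [this]
    exact inv_mem ihy

theorem map_inf_centralizer_of_injective (f : G →* H) (hf : Function.Injective f)
    (K : Subgroup G) :
    (K ⊓ Subgroup.centralizer (K : Set G)).map f =
      K.map f ⊓ Subgroup.centralizer ((K.map f : Subgroup H) : Set H) := by
  ext y
  constructor
  · rintro ⟨x, ⟨hxK, hxc⟩, rfl⟩
    refine ⟨Subgroup.mem_map_of_mem f hxK, ?_⟩
    rintro _ ⟨k, hk, rfl⟩
    rw [← map_mul, ← map_mul, hxc k hk]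
  · rintro ⟨⟨x, hxK, rfl⟩, hc⟩
    refine ⟨x, ⟨hxK, ?_⟩, rfl⟩
    intro k hk
    apply hf
    rw [map_mul, map_mul]
    exact hc (f k) (Subgroup.mem_map_of_mem f hk)

theorem map_centralizer_equiv (e : G ≃* H) (K : Subgroup G) :
    (Subgroup.centralizer (K : Set G)).map e.toMonoidHom =
      Subgroup.centralizer ((K.map e.toMonoidHom : Subgroup H) : Set H) := by
  ext y
  constructor
  · rintro ⟨x, hx, rfl⟩
    rintro _ ⟨k, hk, rfl⟩
    change e k * e x = e x * e k
    rw [← map_mul, ← map_mul, hx k hk]
  · intro hy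
    refine ⟨e.symm y, ?_, by simp⟩
    intro k hk
    apply e.injective
    rw [map_mul, map_mul, e.apply_symm_apply]
    exact hy (e k) (Subgroup.mem_map_of_mem _ hk)

theorem map_center_equiv (e : G ≃* H) :
    (Subgroup.center G).map e.toMonoidHom = Subgroup.center H := by
  ext y
  constructor
  · rintro ⟨x, hx, rfl⟩
    rw [SetLike.mem_coe, Subgroup.mem_center_iff] at hx
    rw [Subgroup.mem_center_iff]
    intro h
    obtain ⟨g, rfl⟩ := e.surjective h
    change e g * e x = e x * e g
    rw [← map_mul, ← map_mul, hx g]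
  · intro hy
    rw [Subgroup.mem_center_iff] at hy
    refine ⟨e.symm y, ?_, by simp⟩
    rw [SetLike.mem_coe, Subgroup.mem_center_iff]
    intro g
    apply e.injective
    rw [map_mul, map_mul, e.apply_symm_apply]
    exact hy (e g)

theorem isElementaryAbelian_map_of_injective (p : ℕ) (f : G →* H) (hf : Function.Injective f)
    (A : Subgroup G) : IsElementaryAbelian p (A.map f) ↔ IsElementaryAbelian p A := by
  unfold IsElementaryAbelian
  rw [← Subgroup.le_centralizer_iff_isMulCommutative, ← Subgroup.le_centralizer_iff_isMulCommutative]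
  constructor
  · rintro ⟨h1, h2⟩
    refine ⟨?_, ?_⟩
    · intro a ha b hb
      apply hf
      rw [map_mul, map_mul]
      exact h1 (Subgroup.mem_map_of_mem f ha) (f b) (Subgroup.mem_map_of_mem f hb)
    · intro a ha
      apply hf
      rw [map_pow, map_one]
      exact h2 (f a) (Subgroup.mem_map_of_mem f ha)
  · rintro ⟨h1, h2⟩
    refine ⟨?_, ?_⟩
    · rintro _ ⟨a, ha, rfl⟩ _ ⟨b, hb, rfl⟩
      rw [← map_mul, ← map_mul, h1 ha b hb]
    · rintro _ ⟨a, ha, rfl⟩
      rw [← map_pow, h2 a ha, map_one]

theorem map_mem_maxElementaryAbelianSubgroups_equiv (p : ℕ) (e : G ≃* H) (A : Subgroup G)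
    (hA : A ∈ maxElementaryAbelianSubgroups p G) :
    A.map e.toMonoidHom ∈ maxElementaryAbelianSubgroups p H := by
  refine ⟨(isElementaryAbelian_map_of_injective p _ e.injective A).mpr hA.1, ?_⟩
  intro B hB
  have h1 : Nat.card (A.map e.toMonoidHom) = Nat.card A :=
    Subgroup.card_map_of_injective e.injective
  have h2 : Nat.card (B.map e.symm.toMonoidHom) = Nat.card B :=
    Subgroup.card_map_of_injective e.symm.injective
  rw [h1, ← h2]
  exact hA.2 _ ((isElementaryAbelian_map_of_injective p _ e.symm.injective B).mpr hB)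

theorem map_symm_map_equiv (e : G ≃* H) (B : Subgroup H) :
    (B.map e.symm.toMonoidHom).map e.toMonoidHom = B := by
  ext y
  constructor
  · rintro ⟨_, ⟨b, hb, rfl⟩, rfl⟩
    simpa using hb
  · intro hy
    exact ⟨e.symm y, ⟨y, hy, rfl⟩, by simp⟩

theorem map_thompsonSubgroup_equiv (p : ℕ) (e : G ≃* H) :
    (thompsonSubgroup p G).map e.toMonoidHom = thompsonSubgroup p H := by
  unfold thompsonSubgroup
  apply le_antisymm
  · rw [Subgroup.map_le_iff_le_comap]
    apply sSup_le
    intro A hA
    rw [← Subgroup.map_le_iff_le_comap]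
    exact le_sSup (map_mem_maxElementaryAbelianSubgroups_equiv p e A hA)
  · apply sSup_le
    intro B hB
    rw [← map_symm_map_equiv e B]
    apply Subgroup.map_mono
    exact le_sSup (map_mem_maxElementaryAbelianSubgroups_equiv p e.symm B hB)

theorem map_omegaCenterThompson_equiv (p : ℕ) (e : G ≃* H) :
    (omegaCenterThompson p G).map e.toMonoidHom = omegaCenterThompson p H := by
  unfold omegaCenterThompson
  rw [map_omegaOne_of_injective p _ e.injective, map_inf_centralizer_of_injective _ e.injective,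
    map_thompsonSubgroup_equiv]

theorem map_omegaOne_center_equiv (p : ℕ) (e : G ≃* H) :
    (omegaOne p (Subgroup.center G)).map e.toMonoidHom = omegaOne p (Subgroup.center H) := by
  rw [map_omegaOne_of_injective p _ e.injective, map_center_equiv]

theorem map_omegaCenterThompson_normal (p : ℕ) (f : G →* H) (hf : Function.Injective f)
    (hJ : ((thompsonSubgroup p G).map f).Normal) :
    ((omegaCenterThompson p G).map f).Normal := by
  unfold omegaCenterThompson
  rw [map_omegaOne_of_injective p _ hf, map_inf_centralizer_of_injective _ hf]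
  apply omegaOne_normal
  have := hJ
  exact Subgroup.normal_inf_normal _ _

end Cfsg.Agent.Lib.Helper11
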