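import Cfsg.Prelude.Def_PLocal
import Cfsg.Agent.Lib.Helper11.ReplProp
import Cfsg.Agent.Lib.Helper11.Quad
import Cfsg.Agent.Lib.Helper11.Repl
import Cfsg.Agent.Lib.Helper11.Stable
import Cfsg.Agent.Lib.Helper32.PPrimeP

set_option autoImplicit false
open Cfsg

/-!
# Glauberman's ZJ-theorem, generic in the family of "abelian" subgroups of maximal order.
-/

namespace Cfsg.Agent.Lib.Helper11

open scoped commutatorElement

variable {G : Type*} [Group G]

/-- `Q`-subgroups of `P` of maximal order. -/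
def famQ (Q : Subgroup G → Prop) (P : Subgroup G) : Set (Subgroup G) :=
  {X | X ≤ P ∧ Q X ∧ ∀ Y, Y ≤ P → Q Y → Nat.card Y ≤ Nat.card X}

/-- the intersection of the `Q`-subgroups of `P` of maximal order -/
def zQ (Q : Subgroup G → Prop) (P : Subgroup G) : Subgroup G := sInf (famQ Q P)

theorem famQ_nonempty [Finite G] {Q : Subgroup G → Prop} (hbot : Q ⊥) (P : Subgroup G) :
    (famQ Q P).Nonempty := by
  classical
  let 𝒯 : Set (Subgroup G) := {X | X ≤ P ∧ Q X}
  have hne : 𝒯.Nonempty := ⟨⊥, bot_le, hbot⟩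
  obtain ⟨A, hA, hmax⟩ := Set.exists_max_image 𝒯 (fun X => Nat.card X) (Set.toFinite 𝒯) hne
  exact ⟨A, hA.1, hA.2, fun Y hY hQY => hmax Y ⟨hY, hQY⟩⟩

theorem zQ_le_of_mem {Q : Subgroup G → Prop} {P X : Subgroup G} (h : X ∈ famQ Q P) :
    zQ Q P ≤ X := sInf_le h

theorem zQ_le [Finite G] {Q : Subgroup G → Prop} (hbot : Q ⊥) (P : Subgroup G) : zQ Q P ≤ P := by
  obtain ⟨X, hX⟩ := famQ_nonempty hbot P
  exact (zQ_le_of_mem hX).trans hX.1

theorem mem_zQ {Q : Subgroup G → Prop} {P : Subgroup G} {x : G} :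
    x ∈ zQ Q P ↔ ∀ X ∈ famQ Q P, x ∈ X := by
  unfold zQ
  rw [Subgroup.mem_sInf]

theorem le_zQ {Q : Subgroup G → Prop} {P B : Subgroup G} (h : ∀ X ∈ famQ Q P, B ≤ X) :
    B ≤ zQ Q P := le_sInf h

theorem card_map_equiv' (φ : G ≃* G) (X : Subgroup G) :
    Nat.card (X.map φ.toMonoidHom) = Nat.card X :=
  Subgroup.card_map_of_injective (f := φ.toMonoidHom) φ.injective

theorem map_map_symm' (φ : G ≃* G) (X : Subgroup G) :
    (X.map φ.toMonoidHom).map φ.symm.toMonoidHom = X := by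
  have := map_symm_map_equiv φ.symm X
  simpa using this

theorem map_mem_famQ {Q : Subgroup G → Prop}
    (hmap : ∀ (φ : G ≃* G) (X : Subgroup G), Q X → Q (X.map φ.toMonoidHom)) (φ : G ≃* G)
    {P X : Subgroup G} (h : X ∈ famQ Q P) :
    X.map φ.toMonoidHom ∈ famQ Q (P.map φ.toMonoidHom) := by
  obtain ⟨h1, h2, h3⟩ := h
  refine ⟨Subgroup.map_mono h1, hmap φ X h2, ?_⟩
  intro Y hY hQY
  have hY' : Y.map φ.symm.toMonoidHom ≤ P := by
    have := Subgroup.map_mono (f := φ.symm.toMonoidHom) hY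
    rwa [map_map_symm'] at this
  have := h3 _ hY' (hmap φ.symm Y hQY)
  rwa [card_map_equiv', ← card_map_equiv' φ X] at this

theorem zQ_map {Q : Subgroup G → Prop}
    (hmap : ∀ (φ : G ≃* G) (X : Subgroup G), Q X → Q (X.map φ.toMonoidHom)) (φ : G ≃* G)
    (P : Subgroup G) : zQ Q (P.map φ.toMonoidHom) = (zQ Q P).map φ.toMonoidHom := by
  ext x
  constructor
  · intro hx
    refine ⟨φ.symm x, ?_, by simp⟩
    rw [SetLike.mem_coe, mem_zQ]
    intro X hX
    have h1 := map_mem_famQ hmap φ hX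
    have h2 : x ∈ X.map φ.toMonoidHom := (mem_zQ.mp hx) _ h1
    obtain ⟨y, hy, rfl⟩ := h2
    simpa using hy
  · rintro ⟨y, hy, rfl⟩
    rw [mem_zQ]
    intro X hX
    have h1 := map_mem_famQ hmap φ.symm hX
    rw [map_map_symm'] at h1
    obtain ⟨z, hz, hzy⟩ := (mem_zQ.mp hy) _ h1
    have : φ.toMonoidHom y = z := by
      rw [← hzy]; simp
    rw [this]; exact hz

theorem map_conj_eq_of_mem_normalizer' {g : G} {R : Subgroup G}
    (h : g ∈ Subgroup.normalizer (R : Set G)) : R.map (MulAut.conj g).toMonoidHom = R := by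
  ext y
  constructor
  · rintro ⟨x, hx, rfl⟩
    exact (Subgroup.mem_normalizer_iff.mp h x).mp hx
  · intro hy
    refine ⟨g⁻¹ * y * g, ?_, by simp [MulAut.conj_apply, mul_assoc]⟩
    have hg : g⁻¹ ∈ Subgroup.normalizer (R : Set G) := inv_mem h
    have := (Subgroup.mem_normalizer_iff.mp hg y).mp hy
    rwa [inv_inv] at this

theorem mem_normalizer_of_map_conj_eq' {g : G} {R : Subgroup G}
    (h : R.map (MulAut.conj g).toMonoidHom = R) : g ∈ Subgroup.normalizer (R : Set G) := by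
  rw [Subgroup.mem_normalizer_iff]
  intro x
  constructor
  · intro hx
    rw [← h]
    exact ⟨x, hx, rfl⟩
  · intro hx
    rw [← h] at hx
    obtain ⟨y, hy, hyx⟩ := hx
    have : y = x := by
      have h1 : g * y * g⁻¹ = g * x * g⁻¹ := hyx
      simpa using h1
    rwa [← this]

/-- `N_G(P)` normalizes `zQ Q P`. -/
theorem normalizer_le_normalizer_zQ {Q : Subgroup G → Prop}
    (hmap : ∀ (φ : G ≃* G) (X : Subgroup G), Q X → Q (X.map φ.toMonoidHom)) (P : Subgroup G) :
    Subgroup.normalizer (P : Set G) ≤ Subgroup.normalizer (zQ Q P : Set G) := by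
  intro g hg
  apply mem_normalizer_of_map_conj_eq'
  rw [← zQ_map hmap, map_conj_eq_of_mem_normalizer' hg]

/-- passing to a smaller subgroup containing a member of the family -/
theorem famQ_subset_of_le {Q : Subgroup G → Prop} {P P₁ A : Subgroup G} (hP : P₁ ≤ P)
    (hA : A ∈ famQ Q P) (hAP₁ : A ≤ P₁) : A ∈ famQ Q P₁ ∧ famQ Q P₁ ⊆ famQ Q P := by
  refine ⟨⟨hAP₁, hA.2.1, fun Y hY hQY => hA.2.2 Y (hY.trans hP) hQY⟩, ?_⟩
  intro X hX
  refine ⟨hX.1.trans hP, hX.2.1, ?_⟩
  intro Y hY hQY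
  exact (hA.2.2 Y hY hQY).trans (hX.2.2 A hAP₁ hA.2.1)

theorem zQ_le_zQ_of_le {Q : Subgroup G → Prop} {P P₁ A : Subgroup G} (hP : P₁ ≤ P)
    (hA : A ∈ famQ Q P) (hAP₁ : A ≤ P₁) : zQ Q P ≤ zQ Q P₁ :=
  sInf_le_sInf (famQ_subset_of_le hP hA hAP₁).2

/-- The replacement property, transported to subgroups of an ambient group. -/
theorem replacement_in [Finite G] {p : ℕ} [Fact p.Prime] (hp : p ≠ 2) (S : Subgroup G)
    (hS : IsPGroup p S) (Q : Subgroup G → Prop) (hQc : ∀ X, Q X → IsMulCommutative X)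
    (hQstar : ∀ (A B : Subgroup ↥S) (b : ↥S), RSetup A B b → Q (A.map S.subtype) →
      Q ((rStar A b).map S.subtype))
    (P B : Subgroup G) (hPS : P ≤ S) (hBS : B ≤ S)
    (hPn : S ≤ Subgroup.normalizer (P : Set G)) (hBn : S ≤ Subgroup.normalizer (B : Set G))
    (hex : ∃ U ∈ famQ Q P, ⁅B, B⁆ ≤ U ∧ ¬ B ≤ U) :
    ∃ A ∈ famQ Q P, ⁅B, B⁆ ≤ A ∧ ¬ B ≤ A ∧ B ≤ Subgroup.normalizer (A : Set G) := by
  have hDn : (P.subgroupOf S).Normal := Subgroup.normal_subgroupOf_of_le_normalizer hPn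
  have hBn' : (B.subgroupOf S).Normal := Subgroup.normal_subgroupOf_of_le_normalizer hBn
  have hcard : ∀ X : Subgroup ↥S, Nat.card (X.map S.subtype) = Nat.card X := fun X =>
    Subgroup.card_map_of_injective S.subtype_injective
  have h𝒜 : ∀ X : Subgroup ↥S, X ∈ {X : Subgroup ↥S | X.map S.subtype ∈ famQ Q P} ↔
      X ≤ P.subgroupOf S ∧ Q (X.map S.subtype) ∧
        ∀ Y : Subgroup ↥S, Y ≤ P.subgroupOf S → Q (Y.map S.subtype) → Nat.card Y ≤ Nat.card X := by
    intro X
    constructor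
    · rintro ⟨h1, h2, h3⟩
      refine ⟨?_, h2, ?_⟩
      · intro x hx
        rw [Subgroup.mem_subgroupOf]
        exact h1 (Subgroup.mem_map_of_mem _ hx)
      · intro Y hY hQY
        have hY' : Y.map S.subtype ≤ P := by
          rintro _ ⟨y, hy, rfl⟩
          exact Subgroup.mem_subgroupOf.mp (hY hy)
        have := h3 _ hY' hQY
        rwa [hcard, hcard] at this
    · rintro ⟨h1, h2, h3⟩
      refine ⟨?_, h2, ?_⟩
      · rintro _ ⟨x, hx, rfl⟩
        exact Subgroup.mem_subgroupOf.mp (h1 hx)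
      · intro Y' hY' hQY'
        have hmapY : (Y'.subgroupOf S).map S.subtype = Y' :=
          Subgroup.map_subgroupOf_eq_of_le (hY'.trans hPS)
        have hYD : Y'.subgroupOf S ≤ P.subgroupOf S := by
          intro y hy
          rw [Subgroup.mem_subgroupOf] at hy ⊢
          exact hY' hy
        have := h3 (Y'.subgroupOf S) hYD (by rw [hmapY]; exact hQY')
        rwa [← hcard, hmapY, ← hcard X] at this
  have hex' : ∃ U ∈ {X : Subgroup ↥S | X.map S.subtype ∈ famQ Q P},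
      ⁅B.subgroupOf S, B.subgroupOf S⁆ ≤ U ∧ ¬ B.subgroupOf S ≤ U := by
    obtain ⟨U, hU, hBU, hnBU⟩ := hex
    have hmapU : (U.subgroupOf S).map S.subtype = U :=
      Subgroup.map_subgroupOf_eq_of_le (hU.1.trans hPS)
    refine ⟨U.subgroupOf S, ?_, ?_, ?_⟩
    · show (U.subgroupOf S).map S.subtype ∈ famQ Q P
      rw [hmapU]; exact hU
    · rw [Subgroup.commutator_le]
      intro x hx y hy
      rw [Subgroup.mem_subgroupOf] at hx hy ⊢
      apply hBU
      exact Subgroup.commutator_mem_commutator hx hy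
    · intro h
      apply hnBU
      intro b hb
      have : (⟨b, hBS hb⟩ : ↥S) ∈ U.subgroupOf S := h (Subgroup.mem_subgroupOf.mpr hb)
      exact Subgroup.mem_subgroupOf.mp this
  obtain ⟨A', hA', hBA', hnBA', hBN'⟩ := replacement_general (S := ↥S) hS hp (P.subgroupOf S)
    (fun X => Q (X.map S.subtype))
    (fun X hX => by
      have h := hQc _ hX
      rw [← Subgroup.le_centralizer_iff_isMulCommutative] at h ⊢
      intro a ha
      rw [Subgroup.mem_centralizer_iff]
      intro b hb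
      have h1 := h (Subgroup.mem_map_of_mem S.subtype ha)
      rw [Subgroup.mem_centralizer_iff] at h1
      have h2 := h1 _ (Subgroup.mem_map_of_mem S.subtype hb)
      exact Subtype.ext h2)
    hQstar (B.subgroupOf S) _ h𝒜 hex'
  refine ⟨A'.map S.subtype, hA', ?_, ?_, ?_⟩
  · rw [Subgroup.commutator_le]
    intro x hx y hy
    have h1 : ⁅(⟨x, hBS hx⟩ : ↥S), ⟨y, hBS hy⟩⁆ ∈ A' :=
      hBA' (Subgroup.commutator_mem_commutator (Subgroup.mem_subgroupOf.mpr hx)
        (Subgroup.mem_subgroupOf.mpr hy))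
    exact ⟨_, h1, rfl⟩
  · intro h
    apply hnBA'
    intro b hb
    obtain ⟨a, ha, hab⟩ := h (Subgroup.mem_subgroupOf.mp hb)
    have : a = b := Subtype.ext hab
    rwa [← this]
  · intro b hb
    apply mem_normalizer_of_conj_mem
    rintro _ ⟨a, ha, rfl⟩
    have hb' : (⟨b, hBS hb⟩ : ↥S) ∈ Subgroup.normalizer (A' : Set ↥S) :=
      hBN' (Subgroup.mem_subgroupOf.mpr hb)
    have := (Subgroup.mem_normalizer_iff.mp hb' a).mp ha
    exact ⟨_, this, rfl⟩

/-! ### Auxiliary group-theoretic lemmas -/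

theorem mem_normalizer_inf {H K : Subgroup G} {g : G}
    (hH : g ∈ Subgroup.normalizer (H : Set G)) (hK : g ∈ Subgroup.normalizer (K : Set G)) :
    g ∈ Subgroup.normalizer ((H ⊓ K : Subgroup G) : Set G) := by
  rw [Subgroup.mem_normalizer_iff] at hH hK ⊢
  intro x
  rw [Subgroup.mem_inf, Subgroup.mem_inf, hH x, hK x]

theorem sylow_le_normalizer_inf_normal {p : ℕ} (S : Sylow p G) (M : Subgroup G) [hM : M.Normal] :
    (S : Subgroup G) ≤ Subgroup.normalizer (((S : Subgroup G) ⊓ M : Subgroup G) : Set G) := by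
  intro s hs
  apply mem_normalizer_inf
  · exact Subgroup.le_normalizer hs
  · rw [Subgroup.normalizer_eq_top_iff.mpr hM]; trivial

/-- Frattini argument for `S ⊓ M`. -/
theorem frattini_inf [Finite G] {p : ℕ} [Fact p.Prime] (S : Sylow p G) (M : Subgroup G)
    [M.Normal] :
    Subgroup.normalizer (((S : Subgroup G) ⊓ M : Subgroup G) : Set G) ⊔ M = ⊤ := by
  have h1 : IsPGroup p (((S : Subgroup G) ⊓ M).subgroupOf M) :=
    (S.isPGroup'.to_le inf_le_left).comap_subtype
  have h2 : ¬ p ∣ (((S : Subgroup G) ⊓ M).subgroupOf M).index :=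
    Cfsg.Agent.Lib.Helper32.not_dvd_relIndex_inf_normal S M
  have h3 := Sylow.normalizer_sup_eq_top (h1.toSylow h2)
  rw [IsPGroup.toSylow_coe, Subgroup.map_subgroupOf_eq_of_le inf_le_right] at h3
  exact h3

/-- an element whose image lies in `O_p(G/C)` is a product of an element of `S` and one of `C` -/
theorem exists_sylow_mul_of_mem_pCore_quotient [Finite G] {p : ℕ} [Fact p.Prime] (S : Sylow p G)
    (C : Subgroup G) [C.Normal] {l : G}
    (hl : (QuotientGroup.mk l : G ⧸ C) ∈ pCore p (G ⧸ C)) :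
    ∃ s ∈ (S : Subgroup G), s⁻¹ * l ∈ C := by
  have h1 : (QuotientGroup.mk l : G ⧸ C) ∈
      ((S.mapSurjective (QuotientGroup.mk'_surjective C) : Sylow p (G ⧸ C)) : Subgroup (G ⧸ C)) :=
    pCore_le_sylow _ hl
  rw [Sylow.coe_mapSurjective] at h1
  obtain ⟨s, hs, hsl⟩ := h1
  refine ⟨s, hs, ?_⟩
  exact QuotientGroup.eq.mp hsl

theorem commutator_lt_of_isPGroup [Finite G] {p : ℕ} [Fact p.Prime] {B : Subgroup G}
    (hB : IsPGroup p B) (hne : B ≠ ⊥) : ⁅B, B⁆ < B := by
  have hle : ⁅B, B⁆ ≤ B := Subgroup.commutator_le_self B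
  refine lt_of_le_of_ne hle ?_
  intro heq
  have : Group.IsNilpotent ↥B := hB.isNilpotent
  have : Nontrivial ↥B := (Subgroup.nontrivial_iff_ne_bot B).mpr hne
  have h1 := Group.IsSolvable.commutator_lt_top_of_nontrivial ↥B
  have h2 : (commutator ↥B).map B.subtype = ⁅B, B⁆ := by
    rw [commutator_def, Subgroup.map_commutator, ← MonoidHom.range_eq_map, Subgroup.range_subtype]
  rw [heq] at h2
  have h3 : (commutator ↥B).map B.subtype = (⊤ : Subgroup ↥B).map B.subtype := by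
    rw [h2, ← MonoidHom.range_eq_map, Subgroup.range_subtype]
  have h4 := Subgroup.map_injective B.subtype_injective h3
  exact h1.ne h4

theorem card_lt_of_lt [Finite G] {H K : Subgroup G} (h : H < K) : Nat.card H < Nat.card K := by
  by_contra hcon
  push Not at hcon
  exact h.ne (Subgroup.eq_of_le_of_card_ge h.le hcon)

/-! ### The main lemma -/

/-- The hypotheses on the predicate `Q` and on the group. -/
structure ZJCtx (p : ℕ) (S : Sylow p G) (Q : Subgroup G → Prop) : Prop where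
  hbot : Q ⊥
  hQc : ∀ X, Q X → IsMulCommutative X
  hmap : ∀ (φ : G ≃* G) (X : Subgroup G), Q X → Q (X.map φ.toMonoidHom)
  hstar : ∀ (A B : Subgroup ↥(S : Subgroup G)) (b : ↥(S : Subgroup G)), RSetup A B b →
    Q (A.map (S : Subgroup G).subtype) → Q ((rStar A b).map (S : Subgroup G).subtype)
  hst : ∀ (V : Subgroup G) [V.Normal], IsPGroup p V → IsPStableOn p V

theorem zj_key [Finite G] {p : ℕ} [Fact p.Prime] (hp : p ≠ 2) (S : Sylow p G)
    (Q : Subgroup G → Prop) (h : ZJCtx p S Q) :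
    ∀ n : ℕ, ∀ M B : Subgroup G, M.Normal → B.Normal → IsPGroup p B → B ≤ M →
      Nat.card M + Nat.card B = n → (zQ Q ((S : Subgroup G) ⊓ M) ⊓ B).Normal := by
  intro n
  induction n using Nat.strong_induction_on with
  | _ n ih =>
  intro M B hM hB hBp hBM hn
  -- notation
  set P : Subgroup G := (S : Subgroup G) ⊓ M with hP
  set Z : Subgroup G := zQ Q P with hZ
  have hBS : B ≤ (S : Subgroup G) := normal_pGroup_le_sylow hB hBp S
  have hBP : B ≤ P := le_inf hBS hBM
  have hSP : (S : Subgroup G) ≤ Subgroup.normalizer (P : Set G) :=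
    sylow_le_normalizer_inf_normal S M
  have hNZ : Subgroup.normalizer (P : Set G) ≤ Subgroup.normalizer (Z : Set G) :=
    normalizer_le_normalizer_zQ h.hmap P
  have hBtop : ∀ g : G, g ∈ Subgroup.normalizer (B : Set G) := fun g => by
    rw [Subgroup.normalizer_eq_top_iff.mpr hB]; trivial
  have hNZ₁ : Subgroup.normalizer (P : Set G) ≤ Subgroup.normalizer ((Z ⊓ B : Subgroup G) : Set G) :=
    fun g hg => mem_normalizer_inf (hNZ hg) (hBtop g)
  have hZP : Z ≤ P := zQ_le h.hbot P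
  by_cases hB0 : B = ⊥
  · rw [hB0, inf_bot_eq]; infer_instance
  -- reduce to `B = normalClosure (Z ⊓ B)`
  have hB₁le : Subgroup.normalClosure ((Z ⊓ B : Subgroup G) : Set G) ≤ B :=
    Subgroup.normalClosure_le_normal (fun x hx => (Subgroup.mem_inf.mp hx).2)
  have hZ₁B₁ : Z ⊓ B ≤ Subgroup.normalClosure ((Z ⊓ B : Subgroup G) : Set G) :=
    Subgroup.le_normalClosure
  by_cases hB₁ : Subgroup.normalClosure ((Z ⊓ B : Subgroup G) : Set G) = B
  swap
  · have hlt : Subgroup.normalClosure ((Z ⊓ B : Subgroup G) : Set G) < B := lt_of_le_of_ne hB₁le hB₁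
    have h1 := ih (Nat.card M + Nat.card (Subgroup.normalClosure ((Z ⊓ B : Subgroup G) : Set G)))
      (by rw [← hn]; exact Nat.add_lt_add_left (card_lt_of_lt hlt) _) M _ hM
      Subgroup.normalClosure_normal (hBp.to_le hB₁le) (hB₁le.trans hBM) rfl
    have h2 : Z ⊓ Subgroup.normalClosure ((Z ⊓ B : Subgroup G) : Set G) = Z ⊓ B :=
      le_antisymm (inf_le_inf_left _ hB₁le) (le_inf inf_le_left hZ₁B₁)
    rw [← h2]; exact h1
  -- `Y = Z ⊓ B'` is normal
  have hB'lt : ⁅B, B⁆ < B := commutator_lt_of_isPGroup hBp hB0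
  have hB'n : (⁅B, B⁆).Normal := inferInstance
  have hYn : (Z ⊓ ⁅B, B⁆).Normal :=
    ih (Nat.card M + Nat.card (⁅B, B⁆ : Subgroup G))
      (by rw [← hn]; exact Nat.add_lt_add_left (card_lt_of_lt hB'lt) _) M _ hM
      hB'n (hBp.to_le hB'lt.le) (hB'lt.le.trans hBM) rfl
  -- `[Z ⊓ B, B] ≤ Y`
  have hcomm : ⁅Z ⊓ B, B⁆ ≤ Z ⊓ ⁅B, B⁆ := by
    apply le_inf
    · rw [Subgroup.commutator_le]
      intro z hz b hb
      have hzZ : z ∈ Z := (Subgroup.mem_inf.mp hz).1
      have hbN : b ∈ Subgroup.normalizer (Z : Set G) := hNZ (hSP (hBS hb))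
      have h1 : b * z⁻¹ * b⁻¹ ∈ Z := (Subgroup.mem_normalizer_iff.mp hbN z⁻¹).mp (inv_mem hzZ)
      have h2 : ⁅z, b⁆ = z * (b * z⁻¹ * b⁻¹) := by
        rw [commutatorElement_def]; group
      rw [h2]; exact mul_mem hzZ h1
    · exact Subgroup.commutator_mono inf_le_right le_rfl
  -- hence `B' ≤ Z`
  have hB'Z : ⁅B, B⁆ ≤ Z := by
    have hBmapn : (B.map (QuotientGroup.mk' (Z ⊓ ⁅B, B⁆))).Normal :=
      hB.map _ (QuotientGroup.mk'_surjective _)
    have hTn : (sectionKernel B (Z ⊓ ⁅B, B⁆)).Normal := by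
      unfold sectionKernel
      infer_instance
    have hmemT : ∀ g : G, g ∈ sectionKernel B (Z ⊓ ⁅B, B⁆) ↔
        ∀ b ∈ B, ⁅g⁻¹, b⁻¹⁆ ∈ Z ⊓ ⁅B, B⁆ := by
      intro g
      unfold sectionKernel
      rw [Subgroup.mem_comap, Subgroup.mem_centralizer_iff]
      constructor
      · intro hg b hb
        have h1 := hg _ (Subgroup.mem_map_of_mem _ hb)
        rw [← map_mul, ← map_mul] at h1
        have h2 := QuotientGroup.eq.mp h1
        have h3 : (b * g)⁻¹ * (g * b) = ⁅g⁻¹, b⁻¹⁆ := by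
          rw [commutatorElement_def]; group
        rwa [h3] at h2
      · rintro hg _ ⟨b, hb, rfl⟩
        rw [← map_mul, ← map_mul]
        apply QuotientGroup.eq.mpr
        have h3 : (b * g)⁻¹ * (g * b) = ⁅g⁻¹, b⁻¹⁆ := by
          rw [commutatorElement_def]; group
        rw [h3]; exact hg b hb
    have hZ₁T : ((Z ⊓ B : Subgroup G) : Set G) ⊆ sectionKernel B (Z ⊓ ⁅B, B⁆) := by
      intro z hz
      rw [SetLike.mem_coe, hmemT]
      intro b hb
      apply hcomm
      exact Subgroup.commutator_mem_commutator (inv_mem hz) (inv_mem hb)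
    have hBT : B ≤ sectionKernel B (Z ⊓ ⁅B, B⁆) :=
      le_of_eq_of_le hB₁.symm (Subgroup.normalClosure_le_normal hZ₁T)
    rw [Subgroup.commutator_le]
    intro b₁ hb₁ b₂ hb₂
    have h1 := (hmemT b₁⁻¹).mp (hBT (inv_mem hb₁)) b₂⁻¹ (inv_mem hb₂)
    rw [inv_inv, inv_inv] at h1
    exact (Subgroup.mem_inf.mp h1).1
  -- the normal subgroup `K`
  have hCn : (Subgroup.centralizer (B : Set G)).Normal := inferInstance
  set K : Subgroup G := (pCore p (G ⧸ Subgroup.centralizer (B : Set G))).comap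
    (QuotientGroup.mk' (Subgroup.centralizer (B : Set G))) with hK
  have hKn : K.Normal := by rw [hK]; infer_instance
  have hKnorm : K ≤ Subgroup.normalizer ((Z ⊓ B : Subgroup G) : Set G) := by
    intro l hl
    obtain ⟨s, hs, hc⟩ := exists_sylow_mul_of_mem_pCore_quotient S
      (Subgroup.centralizer (B : Set G)) (l := l) hl
    have h1 : s ∈ Subgroup.normalizer ((Z ⊓ B : Subgroup G) : Set G) := hNZ₁ (hSP hs)
    have h2 : s⁻¹ * l ∈ Subgroup.normalizer ((Z ⊓ B : Subgroup G) : Set G) := by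
      apply Subgroup.centralizer_le_normalizer
      exact Subgroup.centralizer_le (fun x hx => (Subgroup.mem_inf.mp hx).2) hc
    have h3 := mul_mem h1 h2
    rwa [mul_inv_cancel_left] at h3
  have hBK : B ≤ K := by
    rw [hK, ← Subgroup.map_le_iff_le_comap]
    exact le_pCore (hB.map _ (QuotientGroup.mk'_surjective _)) (hBp.map _)
  by_cases hMK : M ≤ K
  · -- all of `G = N_G(P) M` normalizes `Z ⊓ B`
    rw [← Subgroup.normalizer_eq_top_iff, eq_top_iff, ← frattini_inf S M]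
    exact sup_le hNZ₁ (hMK.trans hKnorm)
  -- now `L = K ⊓ M < M`
  have hLn : (K ⊓ M).Normal := inferInstance
  have hLlt : K ⊓ M < M := lt_of_le_of_ne inf_le_right (fun heq => hMK (heq ▸ inf_le_left))
  by_contra hnot
  have key : ∀ A ∈ famQ Q P, B ≤ Subgroup.normalizer (A : Set G) → B ≤ A := by
    intro A hA hBA
    have hAc := h.hQc A hA.2.1
    have hAK : A ≤ K := by
      intro a ha
      have hquad : QuadOn B a := by
        intro v hv
        have h1 : v * a * v⁻¹ ∈ A := (Subgroup.mem_normalizer_iff.mp (hBA hv) a).mp ha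
        have h2 : ⁅v, a⁆ ∈ A := by
          rw [commutatorElement_def]; exact mul_mem h1 (inv_mem ha)
        have h3 := Subgroup.le_centralizer_iff_isMulCommutative.mpr hAc ha _ h2
        exact h3.symm
      have h4 := h.hst B hBp a ((quadOn_iff B a).mp hquad)
      exact h4
    have hAP₁ : A ≤ (S : Subgroup G) ⊓ (K ⊓ M) :=
      le_inf (hA.1.trans inf_le_left) (le_inf hAK (hA.1.trans inf_le_right))
    have hP₁P : (S : Subgroup G) ⊓ (K ⊓ M) ≤ P := inf_le_inf_left _ inf_le_right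
    have hZZ₁ : Z ≤ zQ Q ((S : Subgroup G) ⊓ (K ⊓ M)) := zQ_le_zQ_of_le hP₁P hA hAP₁
    have hA₁ : A ∈ famQ Q ((S : Subgroup G) ⊓ (K ⊓ M)) := (famQ_subset_of_le hP₁P hA hAP₁).1
    have hXn : (zQ Q ((S : Subgroup G) ⊓ (K ⊓ M)) ⊓ B).Normal :=
      ih (Nat.card (K ⊓ M : Subgroup G) + Nat.card B)
        (by rw [← hn]; exact Nat.add_lt_add_right (card_lt_of_lt hLlt) _) (K ⊓ M) B hLn hB hBp
        (le_inf hBK hBM) rfl
    by_cases hXB : zQ Q ((S : Subgroup G) ⊓ (K ⊓ M)) ⊓ B = B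
    · have : B ≤ zQ Q ((S : Subgroup G) ⊓ (K ⊓ M)) := by
        rw [← hXB]; exact inf_le_left
      exact this.trans (zQ_le_of_mem hA₁)
    · exfalso
      apply hnot
      have hXlt : zQ Q ((S : Subgroup G) ⊓ (K ⊓ M)) ⊓ B < B := lt_of_le_of_ne inf_le_right hXB
      have h1 := ih (Nat.card M + Nat.card (zQ Q ((S : Subgroup G) ⊓ (K ⊓ M)) ⊓ B : Subgroup G))
        (by rw [← hn]; exact Nat.add_lt_add_left (card_lt_of_lt hXlt) _) M _ hM hXn
        (hBp.to_le hXlt.le) (hXlt.le.trans hBM) rfl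
      have h2 : Z ⊓ (zQ Q ((S : Subgroup G) ⊓ (K ⊓ M)) ⊓ B) = Z ⊓ B := by
        rw [← inf_assoc, inf_eq_left.mpr hZZ₁]
      rw [← h2]; exact h1
  have hall : ∀ U ∈ famQ Q P, B ≤ U := by
    intro U hU
    by_contra hBU
    obtain ⟨A, hA, -, hnBA, hBNA⟩ := replacement_in hp (S : Subgroup G) S.isPGroup' Q h.hQc h.hstar
      P B inf_le_left hBS hSP (fun s _ => hBtop s)
      ⟨U, hU, hB'Z.trans (zQ_le_of_mem hU), hBU⟩
    exact hnBA (key A hA hBNA)
  apply hnot
  have : Z ⊓ B = B := inf_eq_right.mpr (le_zQ hall)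
  rw [this]; exact hB

/-- Step 0: `zQ Q S ≤ O_p(G)` when `C_G(O_p(G)) ≤ O_p(G)`. -/
theorem zQ_le_pCore [Finite G] {p : ℕ} [Fact p.Prime] (S : Sylow p G)
    (Q : Subgroup G → Prop) (h : ZJCtx p S Q)
    (hc : Subgroup.centralizer (pCore p G : Set G) ≤ pCore p G) :
    zQ Q (S : Subgroup G) ≤ pCore p G := by
  have hVn : (pCore p G).Normal := inferInstance
  have hVp : IsPGroup p (pCore p G) := pCore_isPGroup p G
  have hVS : pCore p G ≤ (S : Subgroup G) := pCore_le_sylow S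
  have hSN : (S : Subgroup G) ≤ Subgroup.normalizer (zQ Q (S : Subgroup G) : Set G) :=
    Subgroup.le_normalizer.trans (normalizer_le_normalizer_zQ h.hmap _)
  obtain ⟨A, hA⟩ := famQ_nonempty h.hbot (S : Subgroup G)
  have hAc := h.hQc A hA.2.1
  have hCn : (Subgroup.centralizer (pCore p G : Set G)).Normal := inferInstance
  -- the preimage of `O_p(G/C)` lies in `S`
  have hKS : (pCore p (G ⧸ Subgroup.centralizer (pCore p G : Set G))).comap
      (QuotientGroup.mk' (Subgroup.centralizer (pCore p G : Set G))) ≤ (S : Subgroup G) := by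
    intro l hl
    obtain ⟨s, hs, hcl⟩ := exists_sylow_mul_of_mem_pCore_quotient S
      (Subgroup.centralizer (pCore p G : Set G)) (l := l) hl
    have h1 : s⁻¹ * l ∈ (S : Subgroup G) := hVS (hc hcl)
    have h2 := mul_mem hs h1
    rwa [mul_inv_cancel_left] at h2
  have hKV : (pCore p (G ⧸ Subgroup.centralizer (pCore p G : Set G))).comap
      (QuotientGroup.mk' (Subgroup.centralizer (pCore p G : Set G))) ≤ pCore p G :=
    le_pCore inferInstance (S.isPGroup'.to_le hKS)
  intro z hz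
  apply hKV
  have hquad : QuadOn (pCore p G) z := by
    intro v hv
    have h1 : v * z * v⁻¹ ∈ zQ Q (S : Subgroup G) :=
      (Subgroup.mem_normalizer_iff.mp (hSN (hVS hv)) z).mp hz
    have h2 : ⁅v, z⁆ ∈ zQ Q (S : Subgroup G) := by
      rw [commutatorElement_def]; exact mul_mem h1 (inv_mem hz)
    have h3 := Subgroup.le_centralizer_iff_isMulCommutative.mpr hAc
      (zQ_le_of_mem hA hz) _ (zQ_le_of_mem hA h2)
    exact h3.symm
  exact h.hst (pCore p G) hVp z ((quadOn_iff _ z).mp hquad)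

/-- **Glauberman's ZJ-theorem**, generic form. -/
theorem zQ_characteristic [Finite G] {p : ℕ} [Fact p.Prime] (hp : p ≠ 2) (S : Sylow p G)
    (Q : Subgroup G → Prop) (h : ZJCtx p S Q)
    (hc : Subgroup.centralizer (pCore p G : Set G) ≤ pCore p G) :
    (zQ Q (S : Subgroup G)).Characteristic := by
  have hnorm : (zQ Q (S : Subgroup G)).Normal := by
    have h1 := zj_key hp S Q h _ ⊤ (pCore p G) inferInstance inferInstance (pCore_isPGroup p G)
      le_top rfl
    rw [inf_top_eq, inf_eq_left.mpr (zQ_le_pCore S Q h hc)] at h1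
    exact h1
  rw [Subgroup.characteristic_iff_map_le]
  intro φ
  obtain ⟨g, hg⟩ := MulAction.exists_smul_eq G
    (S.mapSurjective (f := φ.toMonoidHom) φ.surjective) S
  have hg' : ((S : Subgroup G).map φ.toMonoidHom).map (MulAut.conj g).toMonoidHom =
      (S : Subgroup G) := congrArg Sylow.toSubgroup hg
  have h2 : ((zQ Q (S : Subgroup G)).map φ.toMonoidHom).map (MulAut.conj g).toMonoidHom =
      zQ Q (S : Subgroup G) := by
    rw [← zQ_map h.hmap, ← zQ_map h.hmap, hg']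
  intro w hw
  have h3 : g * w * g⁻¹ ∈ zQ Q (S : Subgroup G) := by
    rw [← h2]; exact ⟨w, hw, rfl⟩
  have h4 := hnorm.conj_mem _ h3 g⁻¹
  have h5 : g⁻¹ * (g * w * g⁻¹) * g⁻¹⁻¹ = w := by group
  rwa [h5] at h4

end Cfsg.Agent.Lib.Helper11
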