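import Cfsg.Agent.Lib.Helper88.AovDefs
import Cfsg.Agent.Lib.Helper87.FusionBasic
import Cfsg.Agent.Lib.Helper88.CentricSub

/-!
# Leaf C3 of S5243 (AOV Lemma 1.26): the "dagger" lemma

An element `β` of `Aut_F(T)` whose restriction to some `E`-centric subgroup `Q ≤ T` is a map of `E`
lies in `K`.  The power trick `pElt_factor` (leaf C2') enters as the explicit hypothesis `c3_C2`.
-/

set_option autoImplicit false

namespace Cfsg.Agent.Lib.Helper88.Aov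

open Cfsg Cfsg.FusionSystem Cfsg.Agent.Lib.Helper88
open Cfsg.Agent.Lib.Helper87 (restrict_mem hom_le hom_mem_S range_le subtype_mem inv_exists
  finite_of_le mem_autGroup_iff isoOfHom card_lt_card_normalizerIn exists_extension_normalizer)

variable {Ω : Type*} [Group Ω] {S T : Subgroup Ω}

/-- the statement of leaf C2' (`pElt_factor`), as a hypothesis -/
def c3_C2 (p : ℕ) (F : FusionSystem S) (E : FusionSystem T) (K : Subgroup (MulAut T)) : Prop :=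
  ∀ {R : Subgroup Ω} (_ : R ≤ T) (γ : MulAut R), γ ∈ F.autGroup R → ∀ k : ℕ, orderOf γ = p ^ k →
    ∃ κ ∈ K, ∃ γ₀ ∈ E.Hom R, ∀ (x : R) (hx : γ₀ x ∈ T),
      ((γ x : R) : Ω) = ((κ ⟨γ₀ x, hx⟩ : T) : Ω)

/-- two homomorphisms on `R` with values in `T` that agree on a subgroup `Q` normalized by `R`, whose
common image `Q''` of `Q` contains its centralizer in `T`, differ by elements of `Q` -/
theorem c3_ext_step {Q R Q'' : Subgroup Ω}
    (hnorm : R ≤ Subgroup.normalizer (Q : Set Ω))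
    {θ θ' : R →* Ω} (hθT : ∀ x, θ x ∈ T) (hθ'T : ∀ x, θ' x ∈ T)
    (hcent : centralizerIn T Q'' ≤ Q'')
    (hsurj : ∀ q ∈ Q'', ∃ x : R, (x : Ω) ∈ Q ∧ θ x = q)
    (hagree : ∀ x : R, (x : Ω) ∈ Q → θ x = θ' x) (g : R) :
    ∃ y : R, (y : Ω) ∈ Q ∧ θ' g = θ (g * y) := by
  have hwT : (θ g)⁻¹ * θ' g ∈ T := T.mul_mem (T.inv_mem (hθT g)) (hθ'T g)
  have hwC : (θ g)⁻¹ * θ' g ∈ centralizerIn T Q'' := by
    refine ⟨hwT, Subgroup.mem_centralizer_iff.mpr ?_⟩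
    intro q hq
    obtain ⟨x, hxQ, rfl⟩ := hsurj q hq
    have hgx : ((g * x * g⁻¹ : R) : Ω) ∈ Q :=
      (Subgroup.mem_normalizer_iff.mp (hnorm g.2) _).mp hxQ
    have e1 : θ (g * x * g⁻¹) = θ' (g * x * g⁻¹) := hagree _ hgx
    have e2 : θ x = θ' x := hagree _ hxQ
    rw [map_mul, map_mul, map_mul, map_mul, map_inv, map_inv, ← e2] at e1
    calc θ x * ((θ g)⁻¹ * θ' g) = (θ g)⁻¹ * (θ g * θ x * (θ g)⁻¹) * θ' g := by group
      _ = (θ g)⁻¹ * (θ' g * θ x * (θ' g)⁻¹) * θ' g := by rw [e1]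
      _ = (θ g)⁻¹ * θ' g * θ x := by group
  obtain ⟨y, hyQ, hy⟩ := hsurj _ (hcent hwC)
  refine ⟨y, hyQ, ?_⟩
  rw [map_mul, hy, mul_inv_cancel_left]

/-- the automorphism `ζ = ρ⁻¹ θ` of `R`, of `p`-power order -/
theorem c3_zeta [Finite S] {p : ℕ} [Fact p.Prime] (hS : IsPGroup p S) (F : FusionSystem S)
    {Q R Q'' : Subgroup Ω} (hQR : Q ≤ R)
    (hnorm : R ≤ Subgroup.normalizer (Q : Set Ω))
    {ρ θ : R →* Ω} (hρ : ρ ∈ F.Hom R) (hθ : θ ∈ F.Hom R)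
    (hρT : ∀ x, ρ x ∈ T) (hθT : ∀ x, θ x ∈ T)
    (hcent : centralizerIn T Q'' ≤ Q'')
    (hsurj : ∀ q ∈ Q'', ∃ x : R, (x : Ω) ∈ Q ∧ ρ x = q)
    (hagree : ∀ x : R, (x : Ω) ∈ Q → ρ x = θ x) :
    ∃ ζ ∈ F.autGroup R, (∀ g : R, ρ (ζ g) = θ g) ∧ ∃ k : ℕ, orderOf ζ = p ^ k := by
  have hRS : R ≤ S := hom_le F hθ
  have hρinj := F.injective_of_mem hρ
  have hθinj := F.injective_of_mem hθ
  have hsurj' : ∀ q ∈ Q'', ∃ x : R, (x : Ω) ∈ Q ∧ θ x = q := by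
    intro q hq
    obtain ⟨x, hx, hxq⟩ := hsurj q hq
    exact ⟨x, hx, (hagree x hx) ▸ hxq⟩
  have hs1 : ∀ g : R, ∃ y : R, (y : Ω) ∈ Q ∧ θ g = ρ (g * y) :=
    c3_ext_step hnorm hρT hθT hcent hsurj hagree
  have hs2 : ∀ g : R, ∃ y : R, (y : Ω) ∈ Q ∧ ρ g = θ (g * y) :=
    c3_ext_step hnorm hθT hρT hcent hsurj' (fun x hx => (hagree x hx).symm)
  have hrange : θ.range = ρ.range := by
    apply le_antisymm
    · rintro _ ⟨g, rfl⟩
      obtain ⟨y, -, hy⟩ := hs1 g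
      exact ⟨g * y, hy.symm⟩
    · rintro _ ⟨g, rfl⟩
      obtain ⟨y, -, hy⟩ := hs2 g
      exact ⟨g * y, hy.symm⟩
  let e : R ≃* ρ.range := isoOfHom ρ hρinj rfl
  let e' : R ≃* ρ.range := isoOfHom θ hθinj hrange
  let ζ : MulAut R := e'.trans e.symm
  have hζ : ∀ g : R, ρ (ζ g) = θ g := by
    intro g
    have h1 : ((e (ζ g) : ρ.range) : Ω) = ρ (ζ g) := rfl
    have h2 : e (ζ g) = e' g := by
      show e (e.symm (e' g)) = e' g
      simp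
    rw [← h1, h2]
    rfl
  have hζF : ζ ∈ F.autGroup R := by
    rw [mem_autGroup_iff F hRS]
    obtain ⟨ψ, hψ, hinv⟩ := F.inv_mem hρ
    have hval : ∀ x : R, θ x ∈ ρ.range := fun x => by rw [← hrange]; exact ⟨x, rfl⟩
    have hc := F.comp_mem hθ hψ hval
    have : ψ.comp (θ.codRestrict ρ.range hval) = R.subtype.comp ζ.toMonoidHom := by
      ext x
      have h3 : (θ.codRestrict ρ.range hval x) = ⟨ρ (ζ x), ⟨ζ x, rfl⟩⟩ := by
        apply Subtype.ext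
        exact (hζ x).symm
      show ψ (θ.codRestrict ρ.range hval x) = _
      rw [h3, hinv]
      rfl
    rwa [this] at hc
  have hstep : ∀ g : R, ∃ y : R, (y : Ω) ∈ Q ∧ ζ g = g * y := by
    intro g
    obtain ⟨y, hyQ, hy⟩ := hs1 g
    refine ⟨y, hyQ, ?_⟩
    apply hρinj
    rw [hζ, hy]
  have hfix : ∀ x : R, (x : Ω) ∈ Q → ζ x = x := by
    intro x hx
    apply hρinj
    rw [hζ, hagree x hx]
  have hQS : Q ≤ S := hQR.trans hRS
  have hQfin : Finite Q := Finite.of_injective _ (Subgroup.inclusion_injective hQS)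
  have hpowQ : ∀ y : R, (y : Ω) ∈ Q → y ^ Nat.card Q = 1 := by
    intro y hy
    have h1 : (⟨(y : Ω), hy⟩ : Q) ^ Nat.card Q = 1 := pow_card_eq_one'
    have h2 : ((⟨(y : Ω), hy⟩ : Q) : Ω) ^ Nat.card Q = 1 := by
      rw [← Subgroup.coe_pow, h1]; rfl
    apply Subtype.ext
    rw [Subgroup.coe_pow]
    exact h2
  have hζpow : ζ ^ Nat.card Q = 1 := by
    ext g
    obtain ⟨y, hyQ, hy⟩ := hstep g
    have hn : ∀ n : ℕ, (ζ ^ n) g = g * y ^ n := by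
      intro n
      induction n with
      | zero => simp
      | succ n ih =>
        rw [pow_succ', MulAut.mul_apply, ih, map_mul, hy, map_pow, hfix y hyQ, pow_succ', mul_assoc]
    rw [hn, hpowQ y hyQ, mul_one]
    rfl
  refine ⟨ζ, hζF, hζ, ?_⟩
  obtain ⟨k, hk⟩ := IsPGroup.iff_card.mp (hS.to_le hQS)
  have hdvd : orderOf ζ ∣ p ^ k := by
    rw [← hk]
    exact orderOf_dvd_of_pow_eq_one hζpow
  obtain ⟨j, -, hj⟩ := (Nat.dvd_prime_pow (Fact.out : p.Prime)).mp hdvd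
  exact ⟨j, hj⟩

/-- move an element of `Aut_F(T)` past a map of `E`: `ρ ∘ κ ∘ ε₀ = κ ∘ ε` with `ε` in `E` -/
theorem c3_swap {E : FusionSystem T} {F : FusionSystem S} (hinv : InvProp E F)
    {R N : Subgroup Ω} (hRT : R ≤ T) {ρ : R →* Ω} (hρ : ρ ∈ E.Hom R) {κ : MulAut T}
    (hκ : κ ∈ F.autGroup T) {ε₀ : N →* Ω} (hε₀ : ε₀ ∈ E.Hom N)
    (hm : ∀ (g : N) (hT : ε₀ g ∈ T), ((κ ⟨ε₀ g, hT⟩ : T) : Ω) ∈ R) :
    ∃ ε ∈ E.Hom N, ∀ (g : N) (hT : ε₀ g ∈ T) (hR : ((κ ⟨ε₀ g, hT⟩ : T) : Ω) ∈ R) (hT' : ε g ∈ T),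
      ρ ⟨_, hR⟩ = ((κ ⟨ε g, hT'⟩ : T) : Ω) := by
  have hκ' : κ⁻¹ ∈ F.autGroup T := inv_mem hκ
  obtain ⟨χ₁, hχ₁, hχ₁e⟩ := transport_hom hinv hRT hρ hκ' (P' := img κ⁻¹ R) rfl
  have hε₀T : ∀ g : N, ε₀ g ∈ T := fun g => hom_mem_S E hε₀ g
  have hmem : ∀ g : N, ε₀ g ∈ img κ⁻¹ R := fun g =>
    mem_img.mpr ⟨κ ⟨ε₀ g, hε₀T g⟩, hm g (hε₀T g), by simp⟩
  refine ⟨χ₁.comp (ε₀.codRestrict _ hmem), E.comp_mem hε₀ hχ₁ hmem, fun g hT hR hT' => ?_⟩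
  have hρT : ρ ⟨_, hR⟩ ∈ T := hom_mem_S E hρ _
  have e0 : (κ⁻¹ ⟨((κ ⟨ε₀ g, hT⟩ : T) : Ω), hRT hR⟩ : T) = ⟨ε₀ g, hT⟩ := by
    have : (⟨((κ ⟨ε₀ g, hT⟩ : T) : Ω), hRT hR⟩ : T) = κ ⟨ε₀ g, hT⟩ := rfl
    rw [this]
    simp
  have hx : ((κ⁻¹ ⟨((⟨((κ ⟨ε₀ g, hT⟩ : T) : Ω), hR⟩ : R) : Ω), hRT hR⟩ : T) : Ω) ∈ img κ⁻¹ R :=
    mem_img.mpr ⟨_, hR, rfl⟩
  have h1 := hχ₁e ⟨_, hR⟩ hρT hx
  have e1 : (⟨(χ₁.comp (ε₀.codRestrict _ hmem)) g, hT'⟩ : T) = κ⁻¹ ⟨ρ ⟨_, hR⟩, hρT⟩ := by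
    apply Subtype.ext
    rw [← h1]
    show χ₁ ⟨ε₀ g, hmem g⟩ = χ₁ ⟨_, hx⟩
    congr 1
    exact Subtype.ext (congrArg Subtype.val e0).symm
  rw [e1]
  simp

section main

variable [Finite S] {p : ℕ} [Fact p.Prime] {F : FusionSystem S} {E : FusionSystem T}
  {K : Subgroup (MulAut T)}

/-- a map of `F` on a subgroup `R ≤ T` normalizing an `E`-centric subgroup `Q ≤ R` whose restriction
to `Q` is a map of `E` is an element of `K` composed with a map of `E` -/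
theorem c3_step (h : Setup p F E K) (hC2 : c3_C2 p F E K)
    {Q R : Subgroup Ω} (hQR : Q ≤ R) (hRT : R ≤ T)
    (hnorm : R ≤ Subgroup.normalizer (Q : Set Ω))
    (hQc : E.IsCentric Q) {ψ : R →* Ω} (hψ : ψ ∈ F.Hom R)
    (hψ₀ : ψ.comp (Subgroup.inclusion hQR) ∈ E.Hom Q) :
    ∃ κ ∈ K, ∃ ε ∈ E.Hom R, ∀ (x : R) (hx : ε x ∈ T), ψ x = ((κ ⟨ε x, hx⟩ : T) : Ω) := by
  have hTS : T ≤ S := h.hT.1
  have hTfin : Finite T := finite_of_le hTS
  have hTp : IsPGroup p T := h.hS.to_le hTS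
  have hψT : ∀ x : R, ψ x ∈ T := fun x => h.hT.2 R hRT ψ hψ x
  set ψ₀ := ψ.comp (Subgroup.inclusion hQR) with hψ₀def
  have hQ'T : ψ₀.range ≤ T := range_le E hψ₀
  obtain ⟨Q'', ⟨χ, hχ, hχr⟩, hfa, hrec⟩ := h.hE ψ₀.range hQ'T
  obtain ⟨β', hβ', χt, hχt, hχtx⟩ := exists_extension_normalizer hTp E hχ hχr hfa hrec
  have hval : ∀ g : R, ψ g ∈ normalizerIn T ψ₀.range :=
    fun g => ⟨hψT g, map_mem_normalizer hQR hnorm ψ g⟩
  have hθ : χt.comp (ψ.codRestrict _ hval) ∈ F.Hom R := F.comp_mem hψ (h.hsub _ hχt) hval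
  set θ := χt.comp (ψ.codRestrict _ hval) with hθdef
  have hval₀ : ∀ x : Q, ψ₀ x ∈ normalizerIn T ψ₀.range :=
    fun x => hval (Subgroup.inclusion hQR x)
  have hμ : χt.comp (ψ₀.codRestrict _ hval₀) ∈ E.Hom Q := E.comp_mem hψ₀ hχt hval₀
  set μ := χt.comp (ψ₀.codRestrict _ hval₀) with hμdef
  have hμθ : ∀ x : Q, μ x = θ (Subgroup.inclusion hQR x) := fun x => rfl
  have hχQ : ∀ v : ψ₀.range, χ v ∈ Q'' := fun v => hχr ▸ ⟨v, rfl⟩
  have hμβ : ∀ x : Q, μ x = ((β' ⟨χ ⟨ψ₀ x, ⟨x, rfl⟩⟩, hχQ _⟩ : Q'') : Ω) := by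
    intro x
    exact hχtx ⟨ψ₀ x, ⟨x, rfl⟩⟩ (hval₀ x) (hχQ _)
  have hμr : μ.range = Q'' := by
    apply le_antisymm
    · rintro _ ⟨x, rfl⟩
      rw [hμβ]
      exact (β' _).2
    · intro q hq
      have h1 : ((β'.symm ⟨q, hq⟩ : Q'') : Ω) ∈ χ.range := by
        rw [hχr]; exact (β'.symm ⟨q, hq⟩).2
      obtain ⟨⟨_, x, rfl⟩, hv⟩ := h1
      refine ⟨x, ?_⟩
      rw [hμβ]
      have : (⟨χ ⟨ψ₀ x, ⟨x, rfl⟩⟩, hχQ _⟩ : Q'') = β'.symm ⟨q, hq⟩ := Subtype.ext hv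
      rw [this]
      simp
  have hθT : ∀ g : R, θ g ∈ T := fun g => hom_mem_S E hχt _
  have hRext : R ≤ extender T Q μ := by
    intro g hg
    apply Subgroup.subset_closure
    refine ⟨hRT hg, hnorm hg, θ ⟨g, hg⟩, hθT _, ?_⟩
    intro x hx
    rw [hμθ, hμθ]
    have : Subgroup.inclusion hQR ⟨g * (x : Ω) * g⁻¹, hx⟩ =
        (⟨g, hg⟩ : R) * Subgroup.inclusion hQR x * (⟨g, hg⟩ : R)⁻¹ := Subtype.ext rfl
    rw [this, map_mul, map_mul, map_inv]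
  obtain ⟨μt, hμt, hμtx⟩ := hrec.2 Q μ hμ hμr
  have hρ : μt.comp (Subgroup.inclusion hRext) ∈ E.Hom R := restrict_mem E hμt hRext
  set ρ := μt.comp (Subgroup.inclusion hRext) with hρdef
  have hρT : ∀ g : R, ρ g ∈ T := fun g => hom_mem_S E hρ g
  have hagree : ∀ x : R, (x : Ω) ∈ Q → ρ x = θ x := by
    intro x hx
    have h1 : ρ x = μ ⟨x, hx⟩ := hμtx x hx (hRext x.2)
    rw [h1, hμθ]
    congr 1
  have hcent : centralizerIn T Q'' ≤ Q'' := hQc.2 Q'' ⟨μ, hμ, hμr⟩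
  have hsurj : ∀ q ∈ Q'', ∃ x : R, (x : Ω) ∈ Q ∧ ρ x = q := by
    intro q hq
    have hq' : q ∈ μ.range := by rw [hμr]; exact hq
    obtain ⟨x, rfl⟩ := hq'
    refine ⟨Subgroup.inclusion hQR x, x.2, ?_⟩
    rw [hagree _ x.2, hμθ]
  obtain ⟨ζ, hζF, hζ, k, hk⟩ :=
    c3_zeta h.hS F hQR hnorm (h.hsub _ hρ) hθ hρT hθT hcent hsurj hagree
  obtain ⟨κ, hκ, ζ₀, hζ₀, hζe⟩ := hC2 hRT ζ hζF k hk
  have hκF : κ ∈ F.autGroup T := h.hKF hκ
  obtain ⟨ε₁, hε₁, hε₁e⟩ := c3_swap h.hinv hRT hρ hκF hζ₀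
    (fun g hT => by rw [← hζe g hT]; exact (ζ g).2)
  have hθκ : ∀ (g : R) (hT' : ε₁ g ∈ T), θ g = ((κ ⟨ε₁ g, hT'⟩ : T) : Ω) := by
    intro g hT'
    have hT : ζ₀ g ∈ T := hom_mem_S E hζ₀ g
    have hR : ((κ ⟨ζ₀ g, hT⟩ : T) : Ω) ∈ R := by rw [← hζe g hT]; exact (ζ g).2
    rw [← hε₁e g hT hR hT', ← hζ g]
    congr 1
    exact Subtype.ext (hζe g hT)
  obtain ⟨σ, hσ, hσinv⟩ := E.inv_mem hχt
  have hχtrT : χt.range ≤ T := range_le E hχt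
  obtain ⟨ε, hε, hεe⟩ := c3_swap h.hinv hχtrT hσ hκF hε₁
    (fun g hT => by rw [← hθκ g hT]; exact ⟨_, rfl⟩)
  refine ⟨κ, hκ, ε, hε, fun x hx => ?_⟩
  have hT : ε₁ x ∈ T := hom_mem_S E hε₁ x
  have hR : ((κ ⟨ε₁ x, hT⟩ : T) : Ω) ∈ χt.range := by rw [← hθκ x hT]; exact ⟨_, rfl⟩
  rw [← hεe x hT hR hx]
  have e1 : (⟨((κ ⟨ε₁ x, hT⟩ : T) : Ω), hR⟩ : χt.range) =
      ⟨χt (ψ.codRestrict _ hval x), ⟨_, rfl⟩⟩ := Subtype.ext (hθκ x hT).symm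
  rw [e1, hσinv]
  rfl

/-- C3, with the power trick as a hypothesis: induction on `|T : Q|` -/
theorem c3_main (h : Setup p F E K) (hC2 : c3_C2 p F E K) :
    ∀ (n : ℕ) (β : MulAut T), β ∈ F.autGroup T → ∀ {Q : Subgroup Ω} (hQT : Q ≤ T),
      Nat.card T - Nat.card Q = n → E.IsCentric Q → resAutHom β Q hQT ∈ E.Hom Q → β ∈ K := by
  intro n
  induction n using Nat.strong_induction_on with
  | _ n ih =>
    intro β hβ Q hQT hn hQc hres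
    have hTS : T ≤ S := h.hT.1
    have hTfin : Finite T := finite_of_le hTS
    have hTp : IsPGroup p T := h.hS.to_le hTS
    by_cases hne : Q = T
    · have hne' : T = Q := hne.symm
      apply h.hEK
      rw [mem_autGroup_iff E le_rfl]
      have hr := restrict_mem E hres (le_of_eq hne')
      have : (resAutHom β Q hQT).comp (Subgroup.inclusion (le_of_eq hne')) =
          T.subtype.comp β.toMonoidHom := by
        ext x
        rfl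
      rwa [this] at hr
    · have hlt := card_lt_card_normalizerIn hTp hQT hne
      have hQN : Q ≤ normalizerIn T Q := le_inf hQT Subgroup.le_normalizer
      have hNT : normalizerIn T Q ≤ T := inf_le_left
      have hNnorm : normalizerIn T Q ≤ Subgroup.normalizer (Q : Set Ω) := inf_le_right
      have hβF : T.subtype.comp β.toMonoidHom ∈ F.Hom T := (mem_autGroup_iff F hTS β).mp hβ
      have hψ : resAutHom β (normalizerIn T Q) hNT ∈ F.Hom (normalizerIn T Q) :=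
        restrict_mem F hβF hNT
      have hψ₀ : (resAutHom β (normalizerIn T Q) hNT).comp (Subgroup.inclusion hQN) ∈
          E.Hom Q := by
        have : (resAutHom β (normalizerIn T Q) hNT).comp (Subgroup.inclusion hQN) =
            resAutHom β Q hQT := by
          ext x
          rfl
        rwa [this]
      obtain ⟨κ, hκ, ε, hε, hεe⟩ := c3_step h hC2 hQN hNT hNnorm hQc hψ hψ₀
      have hNc : E.IsCentric (normalizerIn T Q) := isCentric_of_le E hQc hQN hNT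
      have hκβ : κ⁻¹ * β ∈ F.autGroup T := mul_mem (inv_mem (h.hKF hκ)) hβ
      have hres' : resAutHom (κ⁻¹ * β) (normalizerIn T Q) hNT ∈ E.Hom (normalizerIn T Q) := by
        have : resAutHom (κ⁻¹ * β) (normalizerIn T Q) hNT = ε := by
          ext x
          have hx : ε x ∈ T := hom_mem_S E hε x
          have h1 := hεe x hx
          rw [resAutHom_apply, MulAut.mul_apply]
          have h2 : β ⟨x, hNT x.2⟩ = κ ⟨ε x, hx⟩ := Subtype.ext h1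
          rw [h2]
          simp
        rwa [this]
      have hcard : Nat.card (normalizerIn T Q) ≤ Nat.card T := Subgroup.card_le_of_le hNT
      have hcardQ : Nat.card Q ≤ Nat.card T := Subgroup.card_le_of_le hQT
      have hmem := ih (Nat.card T - Nat.card (normalizerIn T Q)) (by omega) (κ⁻¹ * β) hκβ hNT rfl
        hNc hres'
      have h3 : β = κ * (κ⁻¹ * β) := by group
      rw [h3]
      exact mul_mem hκ hmem

/-- C3 (KEY), with the power trick `pElt_factor` as an explicit hypothesis. -/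
theorem mem_K_of_restrict_of_C2 (h : Setup p F E K) (hC2 : c3_C2 p F E K) (β : MulAut T)
    (hβ : β ∈ F.autGroup T) {Q : Subgroup Ω} (hQT : Q ≤ T) (hQc : E.IsCentric Q)
    (hres : resAutHom β Q hQT ∈ E.Hom Q) : β ∈ K :=
  c3_main h hC2 _ β hβ hQT rfl hQc hres

end main

end Cfsg.Agent.Lib.Helper88.Aov
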