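import Cfsg.Agent.Lib.Helper11.QuadAbelian
import Cfsg.Agent.Lib.Helper11.PStableOn
import Cfsg.Agent.Lib.Helper11.NPC
import Cfsg.Agent.Lib.Helper11.ZJ
import Cfsg.Agent.Lib.Helper53.CenterMeet
import Cfsg.Agent.Lib.Helper64.InvSylow

set_option autoImplicit false
set_option linter.unusedSectionVars false
set_option linter.style.haveILetI false
open Cfsg

/-!
# `p`-stability when `X / O_p(X)` has an abelian normal `p`-complement (`p` odd)

The main result `isPStableOn_of_coatom` says: if `p` is odd, `X / O_p(X)` has a normal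
`p`-complement and a Sylow `p`-subgroup of `X` is a maximal subgroup, then `X` acts `p`-stably on
each of its normal `p`-subgroups.  No Dickson-type theorem is used: the relevant `p'`-group is abelian
and `quad_commute` applies.
-/

namespace Cfsg.Agent.Lib.Helper11

open scoped commutatorElement

universe u

section omega

variable {X : Type*} [Group X]

/-- `Ω₁(V ∩ Z(H))` for `V ≤ H`: the elements of `V` of order dividing `p` that centralize `H`. -/
def omegaCentral (p : ℕ) (V H : Subgroup X) (hVH : V ≤ H) : Subgroup X where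
  carrier := {u | u ∈ V ∧ u ∈ Subgroup.centralizer (H : Set X) ∧ u ^ p = 1}
  one_mem' := ⟨V.one_mem, Subgroup.one_mem _, one_pow p⟩
  mul_mem' := by
    rintro x y ⟨hx, hxc, hxp⟩ ⟨hy, hyc, hyp⟩
    refine ⟨V.mul_mem hx hy, Subgroup.mul_mem _ hxc hyc, ?_⟩
    have hc : Commute x y := Subgroup.mem_centralizer_iff.mp hyc x (hVH hx)
    rw [hc.mul_pow, hxp, hyp, one_mul]
  inv_mem' := by
    rintro x ⟨hx, hxc, hxp⟩
    exact ⟨V.inv_mem hx, Subgroup.inv_mem _ hxc, by rw [inv_pow, hxp, inv_one]⟩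

theorem mem_omegaCentral {p : ℕ} {V H : Subgroup X} {hVH : V ≤ H} {u : X} :
    u ∈ omegaCentral p V H hVH ↔
      u ∈ V ∧ u ∈ Subgroup.centralizer (H : Set X) ∧ u ^ p = 1 := Iff.rfl

theorem omegaCentral_le (p : ℕ) (V H : Subgroup X) (hVH : V ≤ H) : omegaCentral p V H hVH ≤ V :=
  fun _ hu => hu.1

theorem omegaCentral_normal (p : ℕ) (V H : Subgroup X) (hVH : V ≤ H) [hV : V.Normal]
    [hH : H.Normal] : (omegaCentral p V H hVH).Normal := by
  constructor
  intro u hu g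
  obtain ⟨h1, h2, h3⟩ := hu
  have hCn : (Subgroup.centralizer (H : Set X)).Normal := inferInstance
  refine ⟨hV.conj_mem u h1 g, hCn.conj_mem u h2 g, ?_⟩
  rw [conj_pow, h3, mul_one, mul_inv_cancel]

theorem omegaCentral_comm (p : ℕ) (V H : Subgroup X) (hVH : V ≤ H) :
    ∀ u₁ ∈ omegaCentral p V H hVH, ∀ u₂ ∈ omegaCentral p V H hVH, u₁ * u₂ = u₂ * u₁ := by
  intro u₁ h₁ u₂ h₂
  exact Subgroup.mem_centralizer_iff.mp h₂.2.1 u₁ (hVH h₁.1)

theorem le_centralizer_omegaCentral (p : ℕ) (V H : Subgroup X) (hVH : V ≤ H) :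
    H ≤ Subgroup.centralizer (omegaCentral p V H hVH : Set X) := by
  intro h hh
  rw [Subgroup.mem_centralizer_iff]
  intro u hu
  exact (Subgroup.mem_centralizer_iff.mp hu.2.1 h hh).symm

theorem omegaCentral_ne_bot [Finite X] {p : ℕ} [hp : Fact p.Prime] {V H : Subgroup X}
    (hVH : V ≤ H) [hVn : V.Normal] (hH : IsPGroup p H) (hV : V ≠ ⊥) :
    omegaCentral p V H hVH ≠ ⊥ := by
  haveI : (V.subgroupOf H).Normal := hVn.subgroupOf H
  have hne : V.subgroupOf H ≠ ⊥ := by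
    intro h
    apply hV
    rw [eq_bot_iff]
    intro v hv
    have h1 : (⟨v, hVH hv⟩ : ↥H) ∈ V.subgroupOf H := Subgroup.mem_subgroupOf.mpr hv
    rw [h, Subgroup.mem_bot] at h1
    exact Subgroup.mem_bot.mpr (congrArg Subtype.val h1)
  obtain ⟨b, hbV, hb1, hbc⟩ := Cfsg.Agent.Lib.Helper53.normal_meets_center hH (V.subgroupOf H) hne
  obtain ⟨k, hk⟩ := (IsPGroup.iff_orderOf.mp hH) b
  rw [← Subgroup.orderOf_coe] at hk
  have hbX : (b : X) ≠ 1 := fun h => hb1 (Subtype.ext h)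
  have hbV' : (b : X) ∈ V := Subgroup.mem_subgroupOf.mp hbV
  have hbC : (b : X) ∈ Subgroup.centralizer (H : Set X) := by
    rw [Subgroup.mem_centralizer_iff]
    intro h hh
    have := Subgroup.mem_center_iff.mp hbc ⟨h, hh⟩
    exact congrArg Subtype.val this
  have hk0 : k ≠ 0 := by
    rintro rfl
    rw [pow_zero, orderOf_eq_one_iff] at hk
    exact hbX hk
  obtain ⟨j, rfl⟩ := Nat.exists_eq_succ_of_ne_zero hk0
  intro hbot
  have hmem : (b : X) ^ (p ^ j) ∈ omegaCentral p V H hVH := by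
    refine ⟨V.pow_mem hbV' _, Subgroup.pow_mem _ hbC _, ?_⟩
    rw [← pow_mul, ← pow_succ, ← hk, pow_orderOf_eq_one]
  rw [hbot, Subgroup.mem_bot] at hmem
  have hlt : p ^ j < orderOf (b : X) := by
    rw [hk]; exact Nat.pow_lt_pow_right hp.out.one_lt (Nat.lt_succ_self j)
  exact pow_ne_one_of_lt_orderOf (pow_ne_zero j hp.out.ne_zero) hlt hmem

end omega

section lemmaB

theorem card_map_lt_of_mem_ker {X Y : Type*} [Group X] [Group Y] [Finite X] [Finite Y]
    (f : X →* Y) {V : Subgroup X} {u : X} (hu : u ∈ V) (hu1 : u ≠ 1) (hfu : f u = 1) :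
    Nat.card (V.map f) < Nat.card V := by
  classical
  haveI : Fintype ↥V := Fintype.ofFinite _
  haveI : Fintype ↥(V.map f) := Fintype.ofFinite _
  rw [Nat.card_eq_fintype_card, Nat.card_eq_fintype_card]
  apply Fintype.card_lt_of_surjective_not_injective (f.subgroupMap V) (f.subgroupMap_surjective V)
  intro hinj
  have h1 : f.subgroupMap V ⟨u, hu⟩ = f.subgroupMap V 1 := by
    apply Subtype.ext
    rw [map_one]
    exact hfu
  have h2 := hinj h1
  exact hu1 (congrArg Subtype.val h2)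

/-- **Lemma B.** Let `H ⊴ X` be a `p`-group (`p` odd), `M ⊴ X` with `M H / H` an abelian `p'`-group.
If `a` acts quadratically on the normal subgroup `V ≤ H`, then every commutator `[y, a]`, `y ∈ M`,
acts on `V` as a `p`-element. -/
theorem exists_pow_commutator_mem_centralizer {p : ℕ} [hp : Fact p.Prime] (hp2 : p ≠ 2) :
    ∀ n : ℕ, ∀ (X : Type u) [Group X] [Finite X] (H M V : Subgroup X), H.Normal → M.Normal →
      V.Normal → IsPGroup p H → (∀ m₁ ∈ M, ∀ m₂ ∈ M, ⁅m₁, m₂⁆ ∈ H) → ∀ K : ℕ, K.Coprime p →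
      (∀ m ∈ M, m ^ K ∈ H) → V ≤ H → Nat.card V = n → ∀ a : X, QuadOn V a → ∀ y ∈ M,
      ∃ k : ℕ, ⁅y, a⁆ ^ (p ^ k) ∈ Subgroup.centralizer (V : Set X) := by
  intro n
  induction n using Nat.strong_induction_on with
  | _ n ih =>
  intro X _ _ H M V hHn hMn hVn hHp hab K hK hMK hVH hn a ha y hy
  by_cases hV : V = ⊥
  · refine ⟨0, ?_⟩
    rw [hV, Subgroup.mem_centralizer_iff]
    intro h hh
    rw [SetLike.mem_coe, Subgroup.mem_bot] at hh
    rw [hh, one_mul, mul_one]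
  obtain ⟨U, hU⟩ : ∃ U : Subgroup X, U = omegaCentral p V H hVH := ⟨_, rfl⟩
  haveI hUn : U.Normal := by rw [hU]; exact omegaCentral_normal p V H hVH
  have hUne : U ≠ ⊥ := by rw [hU]; exact omegaCentral_ne_bot hVH hHp hV
  have hUV : U ≤ V := by rw [hU]; exact omegaCentral_le p V H hVH
  have hHU : H ≤ Subgroup.centralizer (U : Set X) := by
    rw [hU]; exact le_centralizer_omegaCentral p V H hVH
  have hUc : ∀ u₁ ∈ U, ∀ u₂ ∈ U, u₁ * u₂ = u₂ * u₁ := by
    rw [hU]; exact omegaCentral_comm p V H hVH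
  have hUp : ∀ u ∈ U, u ^ p = 1 := by
    rw [hU]; intro u hu; exact hu.2.2
  -- Lemma A
  have hA : ⁅y, a⁆ ∈ Subgroup.centralizer (U : Set X) :=
    commutator_mem_centralizer_of_quadOn hp2 U hUc hUp M
      (fun m₁ hm₁ m₂ hm₂ => hHU (hab m₁ hm₁ m₂ hm₂)) K hK (fun m hm => hHU (hMK m hm)) a
      (ha.mono hUV) y hy
  -- the quotient
  obtain ⟨π, hπ⟩ : ∃ π : X →* X ⧸ U, π = QuotientGroup.mk' U := ⟨_, rfl⟩
  have hsurj : Function.Surjective π := by rw [hπ]; exact QuotientGroup.mk'_surjective U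
  have hker : ∀ x : X, π x = 1 ↔ x ∈ U := by
    intro x; rw [hπ]; exact QuotientGroup.eq_one_iff x
  obtain ⟨u₀, hu₀, hu₀1⟩ : ∃ u₀ ∈ U, u₀ ≠ 1 := by
    by_contra hcon
    push Not at hcon
    exact hUne ((Subgroup.eq_bot_iff_forall U).mpr hcon)
  have hlt : Nat.card (V.map π) < n := by
    rw [← hn]
    exact card_map_lt_of_mem_ker π (hUV hu₀) hu₀1 ((hker u₀).mpr hu₀)
  have hquad : QuadOn (V.map π) (π a) := by
    rintro _ ⟨v, hv, rfl⟩
    rw [← map_commutatorElement]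
    exact (ha v hv).map π
  obtain ⟨k, hk⟩ := ih _ hlt (X ⧸ U) (H.map π) (M.map π) (V.map π) (hHn.map π hsurj)
    (hMn.map π hsurj) (hVn.map π hsurj) (hHp.map π)
    (by
      rintro _ ⟨m₁, hm₁, rfl⟩ _ ⟨m₂, hm₂, rfl⟩
      rw [← map_commutatorElement]
      exact Subgroup.mem_map_of_mem π (hab m₁ hm₁ m₂ hm₂)) K hK
    (by
      rintro _ ⟨m, hm, rfl⟩
      rw [← map_pow]
      exact Subgroup.mem_map_of_mem π (hMK m hm)) (Subgroup.map_mono hVH) rfl (π a) hquad
    (π y) (Subgroup.mem_map_of_mem π hy)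
  refine ⟨k + 1, ?_⟩
  obtain ⟨d, hd⟩ : ∃ d : X, d = ⁅y, a⁆ ^ (p ^ k) := ⟨_, rfl⟩
  have hdU : d ∈ Subgroup.centralizer (U : Set X) := by rw [hd]; exact Subgroup.pow_mem _ hA _
  have hπd : π d ∈ Subgroup.centralizer ((V.map π : Subgroup (X ⧸ U)) : Set (X ⧸ U)) := by
    rw [hd, map_pow, map_commutatorElement]; exact hk
  have hdV : ∀ v ∈ V, ⁅v, d⁆ ∈ U := by
    intro v hv
    rw [← hker, map_commutatorElement, commutatorElement_eq_one_iff_commute]
    exact Subgroup.mem_centralizer_iff.mp hπd (π v) (Subgroup.mem_map_of_mem π hv)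
  have hqd : QuadOn V d := by
    intro v hv
    exact (Subgroup.mem_centralizer_iff.mp hdU _ (hdV v hv)).symm
  have hpow : ⁅y, a⁆ ^ (p ^ (k + 1)) = d ^ p := by
    rw [hd, ← pow_mul, ← pow_succ]
  rw [hpow, Subgroup.mem_centralizer_iff]
  intro v hv
  have h1 := conj_pow_of_quadOn hqd hv p
  rw [hUp _ (hdV v hv), one_mul] at h1
  calc v * d ^ p = v * d ^ p * v⁻¹ * v := by group
    _ = d ^ p * v := by rw [h1]

end lemmaB

section lemmaS1

variable {Y : Type*} [Group Y] [Finite Y]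

theorem eq_one_of_mem_of_mem {p : ℕ} [hp : Fact p.Prime] {Mb Tb : Subgroup Y}
    (hMp : (Nat.card Mb).Coprime p) (hT : IsPGroup p Tb) {t : Y} (h1 : t ∈ Mb) (h2 : t ∈ Tb) :
    t = 1 := by
  obtain ⟨k, hk⟩ := (IsPGroup.iff_orderOf.mp hT) ⟨t, h2⟩
  rw [Subgroup.orderOf_mk] at hk
  have h3 : orderOf t ∣ Nat.card Mb := by
    have := orderOf_dvd_natCard (⟨t, h1⟩ : Mb)
    rwa [Subgroup.orderOf_mk] at this
  rw [hk] at h3
  have h4 : (p ^ k).Coprime p := Nat.Coprime.coprime_dvd_left h3 hMp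
  rcases Nat.eq_zero_or_pos k with rfl | hkpos
  · rw [pow_zero] at hk; exact orderOf_eq_one_iff.mp hk
  · exfalso
    have h5 : p ∣ Nat.gcd (p ^ k) p := Nat.dvd_gcd (dvd_pow_self p hkpos.ne') dvd_rfl
    rw [Nat.Coprime] at h4
    rw [h4] at h5
    exact hp.out.one_lt.ne' (Nat.dvd_one.mp h5)

theorem le_of_sup_eq_top {p : ℕ} [hp : Fact p.Prime] (Mb Tb Nb : Subgroup Y) [Nb.Normal]
    (hMp : (Nat.card Mb).Coprime p) (hT : IsPGroup p Tb) (hNM : Nb ≤ Mb) (hsup : Nb ⊔ Tb = ⊤) :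
    Mb ≤ Nb := by
  intro m hm
  have h1 : m ∈ Nb ⊔ Tb := by rw [hsup]; trivial
  rw [← SetLike.mem_coe, Subgroup.normal_mul] at h1
  obtain ⟨n, hn, t, ht, rfl⟩ := Set.mem_mul.mp h1
  have ht' : t ∈ Mb := by
    have := Mb.mul_mem (Mb.inv_mem (hNM hn)) hm
    simpa using this
  have h2 : t = 1 := eq_one_of_mem_of_mem hMp hT ht' ht
  rw [h2, mul_one]; exact hn

/-- **Lemma S1.** A normal `p'`-subgroup `M̄` is abelian if some `p`-subgroup `T̄` is "maximal" in the
sense that every subgroup lies in `T̄` or generates everything together with `T̄`. -/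
theorem abelian_of_dichotomy {p : ℕ} [hp : Fact p.Prime] (Mb Tb : Subgroup Y) [hMn : Mb.Normal]
    (hMp : (Nat.card Mb).Coprime p) (hT : IsPGroup p Tb)
    (hdich : ∀ N : Subgroup Y, N ≤ Tb ∨ N ⊔ Tb = ⊤) : ∀ x ∈ Mb, ∀ y ∈ Mb, x * y = y * x := by
  by_cases hM1 : Mb = ⊥
  · intro x hx y hy
    rw [hM1, Subgroup.mem_bot] at hx hy
    rw [hx, hy]
  have hcard : Nat.card Mb ≠ 1 := fun h => hM1 (Subgroup.card_eq_one.mp h)
  obtain ⟨q, hq, hqd⟩ := Nat.exists_prime_and_dvd hcard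
  haveI : Fact q.Prime := ⟨hq⟩
  have hpM : ¬ p ∣ Nat.card Mb := (Nat.Prime.coprime_iff_not_dvd hp.out).mp hMp.symm
  obtain ⟨Q₀, hQ₀⟩ := Cfsg.Agent.Lib.Helper64.exists_invariant_sylow (q := q) Mb hpM hT
  obtain ⟨Q₁, hQ₁⟩ : ∃ Q₁ : Subgroup Y, Q₁ = (Q₀ : Subgroup ↥Mb).map Mb.subtype := ⟨_, rfl⟩
  rw [← hQ₁] at hQ₀
  have hQ₁q : IsPGroup q Q₁ := by rw [hQ₁]; exact Q₀.2.map _
  have hQ₁M : Q₁ ≤ Mb := by rw [hQ₁]; exact Subgroup.map_subtype_le _
  have hQ₁ne : Q₁ ≠ ⊥ := by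
    intro hbot
    have h1 : Nat.card Q₁ = q ^ (Nat.card ↥Mb).factorization q := by
      rw [hQ₁, Subgroup.card_map_of_injective Mb.subtype_injective, Sylow.card_eq_multiplicity]
    rw [hbot, Subgroup.card_bot] at h1
    have h2 : 0 < (Nat.card ↥Mb).factorization q :=
      hq.factorization_pos_of_dvd Nat.card_pos.ne' hqd
    have h3 : 1 < q ^ (Nat.card ↥Mb).factorization q :=
      Nat.one_lt_pow h2.ne' hq.one_lt
    omega
  rcases hdich Q₁ with h | h
  · exfalso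
    apply hQ₁ne
    rw [eq_bot_iff]
    intro x hx
    exact Subgroup.mem_bot.mpr (eq_one_of_mem_of_mem hMp hT (hQ₁M hx) (h hx))
  · haveI hQ₁n : Q₁.Normal := by
      rw [← Subgroup.normalizer_eq_top_iff, eq_top_iff, ← h]
      apply sup_le Subgroup.le_normalizer
      intro x hx
      rw [Subgroup.mem_normalizer_iff]
      intro b
      constructor
      · exact hQ₀ x hx b
      · intro hb
        have := hQ₀ x⁻¹ (Tb.inv_mem hx) _ hb
        simpa [mul_assoc] using this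
    have hMQ : Mb ≤ Q₁ := le_of_sup_eq_top Mb Tb Q₁ hMp hT hQ₁M h
    have hMq : IsPGroup q Mb := hQ₁q.to_le hMQ
    have hlt : ⁅Mb, Mb⁆ < Mb := commutator_lt_of_isPGroup hMq hM1
    haveI : (⁅Mb, Mb⁆).Normal := Subgroup.commutator_normal Mb Mb
    rcases hdich ⁅Mb, Mb⁆ with h' | h'
    · intro x hx y hy
      have h1 : ⁅x, y⁆ ∈ ⁅Mb, Mb⁆ := Subgroup.commutator_mem_commutator hx hy
      have h2 : ⁅x, y⁆ = 1 := eq_one_of_mem_of_mem hMp hT (hlt.le h1) (h' h1)
      exact commutatorElement_eq_one_iff_mul_comm.mp h2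
    · exfalso
      have := le_of_sup_eq_top Mb Tb ⁅Mb, Mb⁆ hMp hT hlt.le h'
      exact lt_irrefl _ (lt_of_lt_of_le hlt this)

end lemmaS1

section main

variable {X : Type u} [Group X] [Finite X] {p : ℕ} [hp : Fact p.Prime]

theorem exists_conj_mem_sylow_of_pow {a : X} {N : ℕ} (haN : a ^ (p ^ N) = 1) (T : Sylow p X) :
    ∃ g : X, g * a * g⁻¹ ∈ (T : Subgroup X) := by
  have hzp : IsPGroup p (Subgroup.zpowers a) := by
    rintro ⟨x, hx⟩
    obtain ⟨z, rfl⟩ := Subgroup.mem_zpowers_iff.mp hx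
    refine ⟨N, Subtype.ext ?_⟩
    change (a ^ z) ^ (p ^ N) = 1
    rw [← zpow_natCast, ← zpow_mul, mul_comm, zpow_mul, zpow_natCast, haN, one_zpow]
  obtain ⟨Q, hQ⟩ := hzp.exists_le_sylow
  obtain ⟨g, hg⟩ := MulAction.exists_smul_eq X Q T
  refine ⟨g, ?_⟩
  have h2 : a ∈ (Q : Subgroup X) := hQ (Subgroup.mem_zpowers a)
  have h3 : g * a * g⁻¹ ∈ ((g • Q : Sylow p X) : Subgroup X) := by
    rw [Sylow.coe_subgroup_smul, Subgroup.mem_pointwise_smul_iff_inv_smul_mem, ← map_inv,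
      MulAut.smul_def, MulAut.conj_apply]
    have : g⁻¹ * (g * a * g⁻¹) * g⁻¹⁻¹ = a := by group
    rw [this]; exact h2
  rw [hg] at h3
  exact h3

/-- **`p`-stability, core form.** `H` plays the role of `O_p(X)`. -/
theorem isPStableOn_of_coatom_aux (hp2 : p ≠ 2) (H : Subgroup X) [hHn : H.Normal]
    (hHp : IsPGroup p H) (hmax : ∀ R : Subgroup X, R.Normal → IsPGroup p R → R ≤ H)
    (Mb : Subgroup (X ⧸ H)) (hMb : NPCWit p Mb) (T : Sylow p X)
    (hT : IsCoatom (T : Subgroup X)) (V : Subgroup X) [hVn : V.Normal] (hV : IsPGroup p V) :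
    IsPStableOn p V := by
  intro a ha
  have hquad : QuadOn V a := (quadOn_iff V a).mpr ha
  have hHT : H ≤ T := normal_pGroup_le_sylow hHn hHp T
  have hVH : V ≤ H := hmax V hVn hV
  haveI hDn : (Subgroup.centralizer (V : Set X)).Normal := inferInstance
  -- the dichotomy coming from maximality of `T`
  have hdichX : ∀ N : Subgroup X, N ≤ T ∨ N ⊔ T = ⊤ := by
    intro N
    have h1 : (T : Subgroup X) ≤ N ⊔ T := le_sup_right
    rcases hT.le_iff.mp h1 with h | h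
    · right; exact h
    · left; rw [← h]; exact le_sup_left
  -- if `X / C_X(V)` is a `p`-group we are done
  have hdone : IsPGroup p (X ⧸ Subgroup.centralizer (V : Set X)) →
      (QuotientGroup.mk a : X ⧸ Subgroup.centralizer (V : Set X)) ∈
        pCore p (X ⧸ Subgroup.centralizer (V : Set X)) := by
    intro h
    have h1 : (⊤ : Subgroup (X ⧸ Subgroup.centralizer (V : Set X))) ≤
        pCore p (X ⧸ Subgroup.centralizer (V : Set X)) :=
      le_pCore inferInstance (h.to_subgroup ⊤)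
    exact h1 (Subgroup.mem_top _)
  rcases hdichX (Subgroup.centralizer (V : Set X)) with hDT | hDT
  swap
  · -- `X = C_X(V) T`
    apply hdone
    intro xb
    obtain ⟨x, rfl⟩ := QuotientGroup.mk_surjective xb
    have h1 : x ∈ Subgroup.centralizer (V : Set X) ⊔ (T : Subgroup X) := by rw [hDT]; trivial
    rw [← SetLike.mem_coe, Subgroup.normal_mul] at h1
    obtain ⟨d, hd, t, ht, rfl⟩ := Set.mem_mul.mp h1
    obtain ⟨k, hk⟩ := T.isPGroup' ⟨t, ht⟩
    refine ⟨k, ?_⟩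
    have h2 : ((d * t : X) : X ⧸ Subgroup.centralizer (V : Set X)) =
        (t : X ⧸ Subgroup.centralizer (V : Set X)) := by
      rw [QuotientGroup.mk_mul, (QuotientGroup.eq_one_iff d).mpr hd, one_mul]
    have h3 : t ^ (p ^ k) = 1 := congrArg Subtype.val hk
    rw [h2, ← QuotientGroup.mk_pow, h3]
    rfl
  -- now `C_X(V) ≤ T`, hence `C_X(V) ≤ H`
  have hDH : Subgroup.centralizer (V : Set X) ≤ H := hmax _ hDn (T.isPGroup'.to_le hDT)
  -- the quotient `X / H`
  obtain ⟨π, hπ⟩ : ∃ π : X →* X ⧸ H, π = QuotientGroup.mk' H := ⟨_, rfl⟩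
  have hsurj : Function.Surjective π := by rw [hπ]; exact QuotientGroup.mk'_surjective H
  have hker : ∀ x : X, π x = 1 ↔ x ∈ H := by
    intro x; rw [hπ]; exact QuotientGroup.eq_one_iff x
  haveI hMbn : Mb.Normal := hMb.1
  obtain ⟨M, hM⟩ : ∃ M : Subgroup X, M = Mb.comap π := ⟨_, rfl⟩
  haveI hMn : M.Normal := by rw [hM]; infer_instance
  have hmemM : ∀ x : X, x ∈ M ↔ π x ∈ Mb := by intro x; rw [hM]; exact Subgroup.mem_comap
  obtain ⟨K, hKdef⟩ : ∃ K : ℕ, K = Nat.card Mb := ⟨_, rfl⟩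
  have hK : K.Coprime p := by rw [hKdef]; exact coprime_card_of_forall_orderOf Mb hMb.2.1
  have hMK : ∀ m ∈ M, m ^ K ∈ H := by
    intro m hm
    rw [← hker, map_pow]
    have h1 : (⟨π m, (hmemM m).mp hm⟩ : Mb) ^ Nat.card Mb = 1 := pow_card_eq_one'
    have h2 := congrArg Subtype.val h1
    rw [hKdef]
    exact h2
  obtain ⟨Tb, hTb⟩ : ∃ Tb : Subgroup (X ⧸ H), Tb = (T : Subgroup X).map π := ⟨_, rfl⟩
  have hTbp : IsPGroup p Tb := by rw [hTb]; exact T.isPGroup'.map π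
  have hdichY : ∀ N : Subgroup (X ⧸ H), N ≤ Tb ∨ N ⊔ Tb = ⊤ := by
    intro N
    rcases hdichX (N.comap π) with h | h
    · left
      rw [hTb, ← Subgroup.map_comap_eq_self_of_surjective hsurj N]
      exact Subgroup.map_mono h
    · right
      have h1 := congrArg (Subgroup.map π) h
      rw [Subgroup.map_sup, Subgroup.map_comap_eq_self_of_surjective hsurj N,
        Subgroup.map_top_of_surjective π hsurj] at h1
      rw [hTb]; exact h1
  have hKb : (Nat.card Mb).Coprime p := by rw [← hKdef]; exact hK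
  have hab : ∀ m₁ ∈ M, ∀ m₂ ∈ M, ⁅m₁, m₂⁆ ∈ H := by
    intro m₁ hm₁ m₂ hm₂
    rw [← hker, map_commutatorElement, commutatorElement_eq_one_iff_mul_comm]
    exact abelian_of_dichotomy Mb Tb hKb hTbp hdichY _ ((hmemM m₁).mp hm₁) _ ((hmemM m₂).mp hm₂)
  -- `X = M T`
  have hMT : M ⊔ (T : Subgroup X) = ⊤ := by
    rcases hdichX M with h | h
    swap
    · exact h
    exfalso
    -- `Mb = ⊥`
    have hMb1 : ∀ x ∈ Mb, x = 1 := by
      intro x hx
      obtain ⟨m, rfl⟩ := hsurj x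
      have h1 : π m ∈ Tb := by
        rw [hTb]; exact Subgroup.mem_map_of_mem π (h ((hmemM m).mpr hx))
      exact eq_one_of_mem_of_mem hKb hTbp hx h1
    have hXp : IsPGroup p (⊤ : Subgroup X) := by
      rintro ⟨x, -⟩
      obtain ⟨n, hn⟩ := hMb.2.2 (π x)
      have h1 : x ^ (p ^ n) ∈ H := by
        rw [← hker, map_pow]; exact hMb1 _ hn
      obtain ⟨i, hi⟩ := hHp ⟨x ^ (p ^ n), h1⟩
      have h2 : (x ^ (p ^ n)) ^ (p ^ i) = 1 := congrArg Subtype.val hi
      refine ⟨n + i, Subtype.ext ?_⟩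
      change x ^ (p ^ (n + i)) = 1
      rw [pow_add, pow_mul]; exact h2
    have h3 : (⊤ : Subgroup X) = T := T.is_maximal' hXp le_top
    exact hT.1 h3.symm
  -- `a` is a `p`-element
  obtain ⟨j, m, hm, hjm⟩ := Nat.exists_eq_pow_mul_and_not_dvd (orderOf_pos a).ne' p hp.out.ne_one
  have haD : a ^ (p ^ j) ∈ Subgroup.centralizer (V : Set X) :=
    pow_mem_centralizer_of_quadOn hVn hV hquad hjm hm
  obtain ⟨i, hi⟩ := hHp ⟨a ^ (p ^ j), hDH haD⟩
  have haN : a ^ (p ^ (j + i)) = 1 := by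
    have h2 : (a ^ (p ^ j)) ^ (p ^ i) = 1 := congrArg Subtype.val hi
    rw [pow_add, pow_mul]; exact h2
  obtain ⟨g, hg⟩ := exists_conj_mem_sylow_of_pow haN T
  obtain ⟨a', ha'⟩ : ∃ a' : X, a' = g * a * g⁻¹ := ⟨_, rfl⟩
  rw [← ha'] at hg
  have hquad' : QuadOn V a' := by rw [ha']; exact hquad.conj hVn g
  -- `[M, a'] ≤ H`
  have hcomm : ∀ y ∈ M, ⁅y, a'⁆ ∈ H := by
    intro y hy
    have hcM : ⁅y, a'⁆ ∈ M := by
      rw [commutatorElement_def]
      have h1 := hMn.conj_mem y⁻¹ (M.inv_mem hy) a'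
      have h2 : y * a' * y⁻¹ * a'⁻¹ = y * (a' * y⁻¹ * a'⁻¹) := by group
      rw [h2]; exact M.mul_mem hy h1
    obtain ⟨k, hk⟩ := exists_pow_commutator_mem_centralizer hp2 _ X H M V hHn hMn hVn hHp hab K hK
      hMK hVH rfl a' hquad' y hy
    apply mem_of_pow_mem_of_coprime' H (m := p ^ k) (n := K)
    · exact (Nat.Coprime.pow_right k hK).symm
    · exact hDH hk
    · exact hMK _ hcM
  -- the subgroup `R`
  obtain ⟨C, hC⟩ : ∃ C : Subgroup X,
      C = (Subgroup.centralizer (Mb : Set (X ⧸ H))).comap π := ⟨_, rfl⟩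
  haveI hCn : C.Normal := by rw [hC]; infer_instance
  have hmemC : ∀ x : X, x ∈ C ↔ ∀ y ∈ M, ⁅y, x⁆ ∈ H := by
    intro x
    rw [hC, Subgroup.mem_comap, Subgroup.mem_centralizer_iff]
    constructor
    · intro h y hy
      rw [← hker, map_commutatorElement, commutatorElement_eq_one_iff_mul_comm]
      exact h (π y) ((hmemM y).mp hy)
    · intro h yb hyb
      obtain ⟨y, rfl⟩ := hsurj yb
      have h1 := h y ((hmemM y).mpr hyb)
      rw [← hker, map_commutatorElement, commutatorElement_eq_one_iff_mul_comm] at h1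
      exact h1
  have hHC : H ≤ C := by
    intro h hh
    rw [hmemC]
    intro y _
    rw [commutatorElement_def]
    have h1 := hHn.conj_mem h hh y
    exact H.mul_mem h1 (H.inv_mem hh)
  obtain ⟨R, hR⟩ : ∃ R : Subgroup X, R = (T : Subgroup X) ⊓ C := ⟨_, rfl⟩
  have hHR : H ≤ R := by rw [hR]; exact le_inf hHT hHC
  have hconjM : ∀ m ∈ M, ∀ r ∈ R, m * r * m⁻¹ ∈ R := by
    intro m hm r hr
    have hrC : r ∈ C := by rw [hR] at hr; exact hr.2
    have h1 : ⁅m, r⁆ ∈ H := (hmemC r).mp hrC m hm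
    have h2 : m * r * m⁻¹ = ⁅m, r⁆ * r := by rw [commutatorElement_def]; group
    rw [h2]
    exact R.mul_mem (hHR h1) hr
  haveI hRn : R.Normal := by
    rw [← Subgroup.normalizer_eq_top_iff, eq_top_iff, ← hMT]
    apply sup_le
    · intro m hm
      rw [Subgroup.mem_normalizer_iff]
      intro r
      constructor
      · exact hconjM m hm r
      · intro h
        have h1 := hconjM m⁻¹ (M.inv_mem hm) _ h
        have h2 : m⁻¹ * (m * r * m⁻¹) * m⁻¹⁻¹ = r := by group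
        rwa [h2] at h1
    · rw [hR]; exact sylow_le_normalizer_inf_normal T C
  have hRH : R ≤ H := hmax R hRn (T.isPGroup'.to_le (by rw [hR]; exact inf_le_left))
  have ha'H : a' ∈ H := by
    apply hRH
    rw [hR]
    exact ⟨hg, (hmemC a').mpr hcomm⟩
  have haH : a ∈ H := by
    have h1 := hHn.conj_mem a' ha'H g⁻¹
    have h2 : g⁻¹ * a' * g⁻¹⁻¹ = a := by rw [ha']; group
    rwa [h2] at h1
  -- conclusion
  have h1 : H.map (QuotientGroup.mk' (Subgroup.centralizer (V : Set X))) ≤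
      pCore p (X ⧸ Subgroup.centralizer (V : Set X)) :=
    le_pCore (hHn.map _ (QuotientGroup.mk'_surjective _)) (hHp.map _)
  exact h1 (Subgroup.mem_map_of_mem _ haH)

/-- **`p`-stability** when `X / O_p(X)` has a normal `p`-complement and a Sylow `p`-subgroup is
maximal (`p` odd). -/
theorem isPStableOn_of_coatom (hp2 : p ≠ 2)
    (hq : HasNormalPComplement p (X ⧸ pCore p X)) (T : Sylow p X)
    (hT : IsCoatom (T : Subgroup X)) (V : Subgroup X) [hVn : V.Normal] (hV : IsPGroup p V) :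
    IsPStableOn p V := by
  obtain ⟨Mb, hMb⟩ := exists_wit_of_hasNPC hq
  exact isPStableOn_of_coatom_aux hp2 (pCore p X) (pCore_isPGroup p X)
    (fun R hRn hRp => le_pCore hRn hRp) Mb hMb T hT V hV

end main

end Cfsg.Agent.Lib.Helper11
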