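import Cfsg.Prelude.Def_Local
import Cfsg.Agent.Lib.Helper11.PConstrained
import Cfsg.Agent.Lib.Helper11.Repl
import Cfsg.Agent.Lib.Helper54.PConstr5
import Cfsg.Agent.Lib.Helper63.DerivedLength

set_option autoImplicit false
set_option linter.unusedSectionVars false
open Cfsg

/-!
# Transfer of `Cfsg.IsPStable` along a surjection with `p'`-kernel.
-/

namespace Cfsg.Agent.Lib.Helper11

open Cfsg.Agent.Lib.Helper54

open scoped commutatorElement

/-- Membership in `O_p` of a quotient transfers along a surjection inducing an isomorphism of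
quotients. -/
theorem quotient_pCore_transfer {X Y : Type*} [Group X] [Group Y] (p : ℕ) (f : X →* Y)
    (hf : Function.Surjective f) (K : Subgroup X) [K.Normal] (L : Subgroup Y) [L.Normal]
    (hKL : ∀ x : X, x ∈ K ↔ f x ∈ L) (x : X) :
    (QuotientGroup.mk x : X ⧸ K) ∈ pCore p (X ⧸ K) ↔
      (QuotientGroup.mk (f x) : Y ⧸ L) ∈ pCore p (Y ⧸ L) := by
  have hle : K ≤ L.comap f := fun x hx => (hKL x).mp hx
  have hbij : Function.Bijective (QuotientGroup.map K L f hle) := by
    constructor
    · rw [← MonoidHom.ker_eq_bot_iff, eq_bot_iff]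
      intro z hz
      obtain ⟨x, rfl⟩ := QuotientGroup.mk_surjective z
      rw [MonoidHom.mem_ker, QuotientGroup.map_mk, QuotientGroup.eq_one_iff] at hz
      rw [Subgroup.mem_bot, QuotientGroup.eq_one_iff]
      exact (hKL x).mpr hz
    · intro z
      obtain ⟨y, rfl⟩ := QuotientGroup.mk_surjective z
      obtain ⟨x, rfl⟩ := hf y
      exact ⟨QuotientGroup.mk x, rfl⟩
  have he := pCore_map_equiv' p (MulEquiv.ofBijective (QuotientGroup.map K L f hle) hbij)
  constructor
  · intro hx
    rw [← he]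
    exact ⟨_, hx, rfl⟩
  · intro hx
    rw [← he] at hx
    obtain ⟨z, hz, hzx⟩ := hx
    have : z = QuotientGroup.mk x := hbij.1 hzx
    rwa [← this]

section transfer

variable {G : Type*} [Group G] {G' : Type*} [Group G'] [Finite G] (p : ℕ) [hp : Fact p.Prime]
  (f : G →* G') (hf : Function.Surjective f) (hker : (Nat.card f.ker).Coprime p)

include hker in
theorem inf_ker_eq_bot_of_isPGroup {Q : Subgroup G} (hQ : IsPGroup p Q) : Q ⊓ f.ker = ⊥ := by
  apply disjoint_iff.mp
  apply Subgroup.disjoint_of_coprime_natCard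
  obtain ⟨j, hj⟩ := IsPGroup.iff_card.mp hQ
  rw [hj]
  exact (Nat.Coprime.pow_right j hker).symm

include hker in
/-- for `n ∈ N_G(Q)`: `n` centralizes `Q` iff its image centralizes the image of `Q` -/
theorem mem_centralizer_iff_map_mem_centralizer {Q : Subgroup G} (hQ : IsPGroup p Q) {n : G}
    (hn : n ∈ Subgroup.normalizer (Q : Set G)) :
    n ∈ Subgroup.centralizer (Q : Set G) ↔
      f n ∈ Subgroup.centralizer ((Q.map f : Subgroup G') : Set G') := by
  constructor
  · intro h
    rw [Subgroup.mem_centralizer_iff] at h ⊢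
    rintro _ ⟨y, hy, rfl⟩
    rw [← map_mul, ← map_mul, h y hy]
  · intro h
    rw [Subgroup.mem_centralizer_iff] at h ⊢
    intro y hy
    have hy' : y ∈ Q := hy
    have h1 : n * y * n⁻¹ ∈ Q := (Subgroup.mem_normalizer_iff.mp hn y).mp hy'
    have h2 : n * y * n⁻¹ * y⁻¹ ∈ Q := Q.mul_mem h1 (Q.inv_mem hy')
    have h3 := h _ (Subgroup.mem_map_of_mem f hy')
    have h4 : n * y * n⁻¹ * y⁻¹ ∈ f.ker := by
      rw [MonoidHom.mem_ker]
      simp only [map_mul, map_inv]
      rw [← h3]
      group
    have h6 : n * y * n⁻¹ * y⁻¹ ∈ Q ⊓ f.ker := ⟨h2, h4⟩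
    rw [inf_ker_eq_bot_of_isPGroup p f hker hQ, Subgroup.mem_bot] at h6
    calc y * n = (n * y * n⁻¹ * y⁻¹)⁻¹ * (n * y) := by group
      _ = n * y := by rw [h6, inv_one, one_mul]

include hf hker in
/-- `N_G(Q)/C_G(Q) ≅ N_{G'}(Q')/C_{G'}(Q')`: transfer of membership in `O_p`. -/
theorem normalizer_quotient_pCore_transfer {Q : Subgroup G} (hQ : IsPGroup p Q)
    (n : Subgroup.normalizer (Q : Set G)) :
    (QuotientGroup.mk n : ↥(Subgroup.normalizer (Q : Set G)) ⧸
        (Subgroup.centralizer (Q : Set G)).subgroupOf (Subgroup.normalizer (Q : Set G))) ∈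
      pCore p (↥(Subgroup.normalizer (Q : Set G)) ⧸
        (Subgroup.centralizer (Q : Set G)).subgroupOf (Subgroup.normalizer (Q : Set G))) ↔
    (QuotientGroup.mk (normalizerMap f Q n) :
        ↥(Subgroup.normalizer ((Q.map f : Subgroup G') : Set G')) ⧸
        (Subgroup.centralizer ((Q.map f : Subgroup G') : Set G')).subgroupOf
          (Subgroup.normalizer ((Q.map f : Subgroup G') : Set G'))) ∈
      pCore p (↥(Subgroup.normalizer ((Q.map f : Subgroup G') : Set G')) ⧸
        (Subgroup.centralizer ((Q.map f : Subgroup G') : Set G')).subgroupOf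
          (Subgroup.normalizer ((Q.map f : Subgroup G') : Set G'))) := by
  apply quotient_pCore_transfer p (normalizerMap f Q) (normalizerMap_surjective p f hf hker Q hQ)
  intro x
  rw [Subgroup.mem_subgroupOf, Subgroup.mem_subgroupOf, normalizerMap_coe]
  exact mem_centralizer_iff_map_mem_centralizer p f hker hQ x.2

include hf hker in
/-- `p`-stability descends along a surjection with `p'`-kernel. -/
theorem isPStable_map (hG : IsPStable p G) : IsPStable p G' := by
  have hfin : Finite G' := Finite.of_surjective f hf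
  obtain ⟨hodd, hO, hmain⟩ := hG
  refine ⟨hodd, ?_, ?_⟩
  · intro hbot
    apply hO
    have h1 : (pCore p G).map f ≤ pCore p G' :=
      le_pCore' (Subgroup.Normal.map inferInstance f hf)
        ((Cfsg.Agent.Lib.Helper55.pCore_isPGroup p).map f)
    rw [hbot, le_bot_iff, Subgroup.map_eq_bot_iff] at h1
    have h2 : pCore p G ≤ pCore p G ⊓ f.ker := le_inf le_rfl h1
    rw [inf_ker_eq_bot_of_isPGroup p f hker (Cfsg.Agent.Lib.Helper55.pCore_isPGroup p)] at h2
    exact le_bot_iff.mp h2
  · intro A' P' hA' hP' hnorm hle hN hquad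
    obtain ⟨P₀, hP₀p, rfl⟩ := Cfsg.Agent.Lib.Helper63.exists_pgroup_map_eq' p hf P' hP'
    have hA'N : A' ≤ Subgroup.normalizer ((P₀.map f : Subgroup G') : Set G') := by
      intro a ha
      exact mem_normalizer_of_conj_mem _ a (fun x hx => hnorm a ha x hx)
    have hfN := normalizerMap_surjective p f hf hker P₀ hP₀p
    obtain ⟨A₁, hA₁p, hA₁⟩ := Cfsg.Agent.Lib.Helper63.exists_pgroup_map_eq' p hfN
      (A'.subgroupOf (Subgroup.normalizer ((P₀.map f : Subgroup G') : Set G'))) hA'.comap_subtype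
    -- hypotheses for `G`
    have hA : IsPGroup p (A₁.map (Subgroup.normalizer (P₀ : Set G)).subtype) := hA₁p.map _
    have hnormG : ∀ a ∈ A₁.map (Subgroup.normalizer (P₀ : Set G)).subtype, ∀ x ∈ P₀,
        a * x * a⁻¹ ∈ P₀ := by
      rintro _ ⟨a, -, rfl⟩ x hx
      exact (Subgroup.mem_normalizer_iff.mp a.2 x).mp hx
    have hleG : P₀ ≤ pPrimePCore p G := by
      rw [← comap_pPrimePCore p f hf hker]
      intro x hx
      exact hle (Subgroup.mem_map_of_mem f hx)
    have hNG : (pPrimeCore p G ⊔ P₀).Normal := by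
      have h1 : pPrimeCore p G ⊔ P₀ = (pPrimeCore p G' ⊔ P₀.map f).comap f := by
        rw [← map_pPrimeCore p f hf hker, ← Subgroup.map_sup, Subgroup.comap_map_eq]
        have h2 : f.ker ≤ pPrimeCore p G ⊔ P₀ := (ker_le_pPrimeCore p f hf hker).trans le_sup_left
        exact (sup_eq_left.mpr h2).symm
      rw [h1]
      exact hN.comap f
    have hquadG : ⁅⁅P₀, A₁.map (Subgroup.normalizer (P₀ : Set G)).subtype⁆,
        A₁.map (Subgroup.normalizer (P₀ : Set G)).subtype⁆ = ⊥ := by
      have hAN : A₁.map (Subgroup.normalizer (P₀ : Set G)).subtype ≤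
          Subgroup.normalizer (P₀ : Set G) := Subgroup.map_subtype_le _
      have hAmap : (A₁.map (Subgroup.normalizer (P₀ : Set G)).subtype).map f = A' := by
        ext y
        constructor
        · rintro ⟨_, ⟨a, ha, rfl⟩, rfl⟩
          have h1 : normalizerMap f P₀ a ∈
              A'.subgroupOf (Subgroup.normalizer ((P₀.map f : Subgroup G') : Set G')) := by
            rw [← hA₁]; exact Subgroup.mem_map_of_mem _ ha
          exact Subgroup.mem_subgroupOf.mp h1
        · intro hy
          have h1 : (⟨y, hA'N hy⟩ : Subgroup.normalizer ((P₀.map f : Subgroup G') : Set G')) ∈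
              A₁.map (normalizerMap f P₀) := by
            rw [hA₁]; exact Subgroup.mem_subgroupOf.mpr hy
          obtain ⟨a, ha, hay⟩ := h1
          exact ⟨_, ⟨a, ha, rfl⟩, congrArg Subtype.val hay⟩
      have h1 : ⁅P₀, A₁.map (Subgroup.normalizer (P₀ : Set G)).subtype⁆ ≤ P₀ := by
        rw [Subgroup.commutator_le]
        intro x hx a ha
        have h2 : a * x⁻¹ * a⁻¹ ∈ P₀ :=
          (Subgroup.mem_normalizer_iff.mp (hAN ha) x⁻¹).mp (inv_mem hx)
        have h3 : ⁅x, a⁆ = x * (a * x⁻¹ * a⁻¹) := by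
          rw [commutatorElement_def]; group
        rw [h3]; exact mul_mem hx h2
      have h2 : ⁅⁅P₀, A₁.map (Subgroup.normalizer (P₀ : Set G)).subtype⁆,
          A₁.map (Subgroup.normalizer (P₀ : Set G)).subtype⁆ ≤ P₀ := by
        rw [Subgroup.commutator_le]
        intro x hx a ha
        have hx' := h1 hx
        have h2 : a * x⁻¹ * a⁻¹ ∈ P₀ :=
          (Subgroup.mem_normalizer_iff.mp (hAN ha) x⁻¹).mp (inv_mem hx')
        have h3 : ⁅x, a⁆ = x * (a * x⁻¹ * a⁻¹) := by
          rw [commutatorElement_def]; group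
        rw [h3]; exact mul_mem hx' h2
      have h3 : ⁅⁅P₀, A₁.map (Subgroup.normalizer (P₀ : Set G)).subtype⁆,
          A₁.map (Subgroup.normalizer (P₀ : Set G)).subtype⁆ ≤ f.ker := by
        rw [← Subgroup.map_eq_bot_iff, Subgroup.map_commutator, Subgroup.map_commutator, hAmap,
          hquad]
      rw [eq_bot_iff, ← inf_ker_eq_bot_of_isPGroup p f hker hP₀p]
      exact le_inf h2 h3
    have hconc := hmain _ P₀ hA hP₀p hnormG hleG hNG hquadG
    -- transfer the conclusion
    rintro _ ⟨⟨y, hyN⟩, hy, rfl⟩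
    have hyA : y ∈ A' := Subgroup.mem_subgroupOf.mp hy
    have h1 : (⟨y, hyN⟩ : Subgroup.normalizer ((P₀.map f : Subgroup G') : Set G')) ∈
        A₁.map (normalizerMap f P₀) := by
      rw [hA₁]; exact hy
    obtain ⟨a, ha, hay⟩ := h1
    have h2 : a ∈ (A₁.map (Subgroup.normalizer (P₀ : Set G)).subtype).subgroupOf
        (Subgroup.normalizer (P₀ : Set G)) := by
      rw [Subgroup.mem_subgroupOf]; exact ⟨a, ha, rfl⟩
    have h3 := hconc (Subgroup.mem_map_of_mem _ h2)
    have h4 := (normalizer_quotient_pCore_transfer p f hf hker hP₀p a).mp h3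
    rw [hay] at h4
    exact h4

include hf hker in
/-- `p`-stability lifts along a surjection with `p'`-kernel, provided `O_p(G) ≠ 1`. -/
theorem isPStable_of_map (hO : pCore p G ≠ ⊥) (hG' : IsPStable p G') : IsPStable p G := by
  obtain ⟨hodd, -, hmain⟩ := hG'
  refine ⟨hodd, hO, ?_⟩
  intro A P₀ hA hP₀ hnorm hle hN hquad
  have hconc := hmain (A.map f) (P₀.map f) (hA.map f) (hP₀.map f)
    (by
      rintro _ ⟨a, ha, rfl⟩ _ ⟨x, hx, rfl⟩
      exact ⟨a * x * a⁻¹, hnorm a ha x hx, by simp⟩)
    (by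
      rw [← map_pPrimePCore p f hf hker]
      exact Subgroup.map_mono hle)
    (by
      rw [← map_pPrimeCore p f hf hker, ← Subgroup.map_sup]
      exact hN.map f hf)
    (by
      rw [← Subgroup.map_commutator, ← Subgroup.map_commutator, hquad, Subgroup.map_bot])
  rintro _ ⟨⟨a, haN⟩, ha, rfl⟩
  have haA : a ∈ A := Subgroup.mem_subgroupOf.mp ha
  apply (normalizer_quotient_pCore_transfer p f hf hker hP₀ ⟨a, haN⟩).mpr
  apply hconc
  refine Subgroup.mem_map_of_mem _ ?_
  rw [Subgroup.mem_subgroupOf]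
  exact Subgroup.mem_map_of_mem f haA

end transfer

end Cfsg.Agent.Lib.Helper11
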