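import Cfsg.Prelude.Def_TwoFusion
import Cfsg.Agent.Lib.Helper11.ZJ

set_option autoImplicit false
open Cfsg

/-!
# Glauberman's ZJ-theorem for strongly closed subgroups (generic form).
-/

namespace Cfsg.Agent.Lib.Helper11

open scoped commutatorElement

variable {G : Type*} [Group G]

theorem stronglyClosed_le_normalizer {D S : Subgroup G} (hD : IsStronglyClosed D S) [Finite G] :
    S ≤ Subgroup.normalizer (D : Set G) := by
  intro s hs
  apply mem_normalizer_of_conj_mem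
  intro x hx
  exact hD.2 x hx s (mul_mem (mul_mem hs (hD.1 hx)) (inv_mem hs))

theorem stronglyClosed_inf_normal_normal {D S : Subgroup G} (hD : IsStronglyClosed D S)
    {B : Subgroup G} (hB : B.Normal) (hBS : B ≤ S) : (D ⊓ B).Normal := by
  constructor
  intro x hx g
  obtain ⟨hxD, hxB⟩ := Subgroup.mem_inf.mp hx
  have h1 : g * x * g⁻¹ ∈ B := hB.conj_mem x hxB g
  exact Subgroup.mem_inf.mpr ⟨hD.2 x hxD g (hBS h1), h1⟩

/-- `N_G(S ⊓ M) ≤ N_G(D ⊓ M)` for `D` strongly closed in `S`. -/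
theorem stronglyClosed_normalizer_inf_le [Finite G] {D S : Subgroup G} (hD : IsStronglyClosed D S)
    (M : Subgroup G) :
    Subgroup.normalizer ((S ⊓ M : Subgroup G) : Set G) ≤
      Subgroup.normalizer ((D ⊓ M : Subgroup G) : Set G) := by
  intro n hn
  apply mem_normalizer_of_conj_mem
  intro x hx
  obtain ⟨hxD, hxM⟩ := Subgroup.mem_inf.mp hx
  have h1 : n * x * n⁻¹ ∈ S ⊓ M :=
    (Subgroup.mem_normalizer_iff.mp hn x).mp (Subgroup.mem_inf.mpr ⟨hD.1 hxD, hxM⟩)
  obtain ⟨h2, h3⟩ := Subgroup.mem_inf.mp h1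
  exact Subgroup.mem_inf.mpr ⟨hD.2 x hxD n h2, h3⟩

theorem zj_key_closed [Finite G] {p : ℕ} [Fact p.Prime] (hp : p ≠ 2) (S : Sylow p G)
    (Q : Subgroup G → Prop) (h : ZJCtx p S Q) (D : Subgroup G)
    (hD : IsStronglyClosed D (S : Subgroup G)) :
    ∀ n : ℕ, ∀ M B : Subgroup G, M.Normal → B.Normal → IsPGroup p B → B ≤ M → B ≤ D →
      Nat.card M + Nat.card B = n → (zQ Q (D ⊓ M) ⊓ B).Normal := by
  intro n
  induction n using Nat.strong_induction_on with
  | _ n ih =>
  intro M B hM hB hBp hBM hBD hn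
  -- notation
  set P : Subgroup G := D ⊓ M with hP
  set Z : Subgroup G := zQ Q P with hZ
  have hBS : B ≤ (S : Subgroup G) := normal_pGroup_le_sylow hB hBp S
  have hBP : B ≤ P := le_inf hBD hBM
  have hMtop : ∀ g : G, g ∈ Subgroup.normalizer (M : Set G) := fun g => by
    rw [Subgroup.normalizer_eq_top_iff.mpr hM]; trivial
  have hSP : (S : Subgroup G) ≤ Subgroup.normalizer (P : Set G) :=
    fun s hs => mem_normalizer_inf (stronglyClosed_le_normalizer hD hs) (hMtop s)
  have hNZ : Subgroup.normalizer (P : Set G) ≤ Subgroup.normalizer (Z : Set G) :=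
    normalizer_le_normalizer_zQ h.hmap P
  have hBtop : ∀ g : G, g ∈ Subgroup.normalizer (B : Set G) := fun g => by
    rw [Subgroup.normalizer_eq_top_iff.mpr hB]; trivial
  have hNZ₁ : Subgroup.normalizer (P : Set G) ≤ Subgroup.normalizer ((Z ⊓ B : Subgroup G) : Set G) :=
    fun g hg => mem_normalizer_inf (hNZ hg) (hBtop g)
  have hZP : Z ≤ P := zQ_le h.hbot P
  by_cases hB0 : B = ⊥
  · rw [hB0, inf_bot_eq]; infer_instance
  -- reduce to `B = normalClosure (Z ⊓ B)`
  have hB₁le : Subgroup.normalClosure ((Z ⊓ B : Subgroup G) : Set G) ≤ B :=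
    Subgroup.normalClosure_le_normal (fun x hx => (Subgroup.mem_inf.mp hx).2)
  have hZ₁B₁ : Z ⊓ B ≤ Subgroup.normalClosure ((Z ⊓ B : Subgroup G) : Set G) :=
    Subgroup.le_normalClosure
  by_cases hB₁ : Subgroup.normalClosure ((Z ⊓ B : Subgroup G) : Set G) = B
  swap
  · have hlt : Subgroup.normalClosure ((Z ⊓ B : Subgroup G) : Set G) < B := lt_of_le_of_ne hB₁le hB₁
    have h1 := ih (Nat.card M + Nat.card (Subgroup.normalClosure ((Z ⊓ B : Subgroup G) : Set G)))
      (by rw [← hn]; exact Nat.add_lt_add_left (card_lt_of_lt hlt) _) M _ hM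
      Subgroup.normalClosure_normal (hBp.to_le hB₁le) (hB₁le.trans hBM) (hB₁le.trans hBD) rfl
    have h2 : Z ⊓ Subgroup.normalClosure ((Z ⊓ B : Subgroup G) : Set G) = Z ⊓ B :=
      le_antisymm (inf_le_inf_left _ hB₁le) (le_inf inf_le_left hZ₁B₁)
    rw [← h2]; exact h1
  -- `Y = Z ⊓ B'` is normal
  have hB'lt : ⁅B, B⁆ < B := commutator_lt_of_isPGroup hBp hB0
  have hB'n : (⁅B, B⁆).Normal := inferInstance
  have hYn : (Z ⊓ ⁅B, B⁆).Normal :=
    ih (Nat.card M + Nat.card (⁅B, B⁆ : Subgroup G))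
      (by rw [← hn]; exact Nat.add_lt_add_left (card_lt_of_lt hB'lt) _) M _ hM
      hB'n (hBp.to_le hB'lt.le) (hB'lt.le.trans hBM) (hB'lt.le.trans hBD) rfl
  -- `[Z ⊓ B, B] ≤ Y`
  have hcomm : ⁅Z ⊓ B, B⁆ ≤ Z ⊓ ⁅B, B⁆ := by
    apply le_inf
    · rw [Subgroup.commutator_le]
      intro z hz b hb
      have hzZ : z ∈ Z := (Subgroup.mem_inf.mp hz).1
      have hbN : b ∈ Subgroup.normalizer (Z : Set G) := hNZ (hSP (hBS hb))
      have h1 : b * z⁻¹ * b⁻¹ ∈ Z := (Subgroup.mem_normalizer_iff.mp hbN z⁻¹).mp (inv_mem hzZ)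
      have h2 : ⁅z, b⁆ = z * (b * z⁻¹ * b⁻¹) := by
        rw [commutatorElement_def]; group
      rw [h2]; exact mul_mem hzZ h1
    · exact Subgroup.commutator_mono inf_le_right le_rfl
  -- hence `B' ≤ Z`
  have hB'Z : ⁅B, B⁆ ≤ Z := by
    have hBmapn : (B.map (QuotientGroup.mk' (Z ⊓ ⁅B, B⁆))).Normal :=
      hB.map _ (QuotientGroup.mk'_surjective _)
    have hTn : (sectionKernel B (Z ⊓ ⁅B, B⁆)).Normal := by
      unfold sectionKernel
      infer_instance
    have hmemT : ∀ g : G, g ∈ sectionKernel B (Z ⊓ ⁅B, B⁆) ↔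
        ∀ b ∈ B, ⁅g⁻¹, b⁻¹⁆ ∈ Z ⊓ ⁅B, B⁆ := by
      intro g
      unfold sectionKernel
      rw [Subgroup.mem_comap, Subgroup.mem_centralizer_iff]
      constructor
      · intro hg b hb
        have h1 := hg _ (Subgroup.mem_map_of_mem _ hb)
        rw [← map_mul, ← map_mul] at h1
        have h2 := QuotientGroup.eq.mp h1
        have h3 : (b * g)⁻¹ * (g * b) = ⁅g⁻¹, b⁻¹⁆ := by
          rw [commutatorElement_def]; group
        rwa [h3] at h2
      · rintro hg _ ⟨b, hb, rfl⟩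
        rw [← map_mul, ← map_mul]
        apply QuotientGroup.eq.mpr
        have h3 : (b * g)⁻¹ * (g * b) = ⁅g⁻¹, b⁻¹⁆ := by
          rw [commutatorElement_def]; group
        rw [h3]; exact hg b hb
    have hZ₁T : ((Z ⊓ B : Subgroup G) : Set G) ⊆ sectionKernel B (Z ⊓ ⁅B, B⁆) := by
      intro z hz
      rw [SetLike.mem_coe, hmemT]
      intro b hb
      apply hcomm
      exact Subgroup.commutator_mem_commutator (inv_mem hz) (inv_mem hb)
    have hBT : B ≤ sectionKernel B (Z ⊓ ⁅B, B⁆) :=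
      le_of_eq_of_le hB₁.symm (Subgroup.normalClosure_le_normal hZ₁T)
    rw [Subgroup.commutator_le]
    intro b₁ hb₁ b₂ hb₂
    have h1 := (hmemT b₁⁻¹).mp (hBT (inv_mem hb₁)) b₂⁻¹ (inv_mem hb₂)
    rw [inv_inv, inv_inv] at h1
    exact (Subgroup.mem_inf.mp h1).1
  -- the normal subgroup `K`
  have hCn : (Subgroup.centralizer (B : Set G)).Normal := inferInstance
  set K : Subgroup G := (pCore p (G ⧸ Subgroup.centralizer (B : Set G))).comap
    (QuotientGroup.mk' (Subgroup.centralizer (B : Set G))) with hK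
  have hKn : K.Normal := by rw [hK]; infer_instance
  have hKnorm : K ≤ Subgroup.normalizer ((Z ⊓ B : Subgroup G) : Set G) := by
    intro l hl
    obtain ⟨s, hs, hc⟩ := exists_sylow_mul_of_mem_pCore_quotient S
      (Subgroup.centralizer (B : Set G)) (l := l) hl
    have h1 : s ∈ Subgroup.normalizer ((Z ⊓ B : Subgroup G) : Set G) := hNZ₁ (hSP hs)
    have h2 : s⁻¹ * l ∈ Subgroup.normalizer ((Z ⊓ B : Subgroup G) : Set G) := by
      apply Subgroup.centralizer_le_normalizer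
      exact Subgroup.centralizer_le (fun x hx => (Subgroup.mem_inf.mp hx).2) hc
    have h3 := mul_mem h1 h2
    rwa [mul_inv_cancel_left] at h3
  have hBK : B ≤ K := by
    rw [hK, ← Subgroup.map_le_iff_le_comap]
    exact le_pCore (hB.map _ (QuotientGroup.mk'_surjective _)) (hBp.map _)
  by_cases hMK : M ≤ K
  · -- all of `G = N_G(S ⊓ M) M` normalizes `Z ⊓ B`
    rw [← Subgroup.normalizer_eq_top_iff, eq_top_iff, ← frattini_inf S M]
    exact sup_le ((stronglyClosed_normalizer_inf_le hD M).trans hNZ₁) (hMK.trans hKnorm)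
  -- now `L = K ⊓ M < M`
  have hLn : (K ⊓ M).Normal := inferInstance
  have hLlt : K ⊓ M < M := lt_of_le_of_ne inf_le_right (fun heq => hMK (heq ▸ inf_le_left))
  by_contra hnot
  have key : ∀ A ∈ famQ Q P, B ≤ Subgroup.normalizer (A : Set G) → B ≤ A := by
    intro A hA hBA
    have hAc := h.hQc A hA.2.1
    have hAK : A ≤ K := by
      intro a ha
      have hquad : QuadOn B a := by
        intro v hv
        have h1 : v * a * v⁻¹ ∈ A := (Subgroup.mem_normalizer_iff.mp (hBA hv) a).mp ha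
        have h2 : ⁅v, a⁆ ∈ A := by
          rw [commutatorElement_def]; exact mul_mem h1 (inv_mem ha)
        have h3 := Subgroup.le_centralizer_iff_isMulCommutative.mpr hAc ha _ h2
        exact h3.symm
      have h4 := h.hst B hBp a ((quadOn_iff B a).mp hquad)
      exact h4
    have hAP₁ : A ≤ D ⊓ (K ⊓ M) :=
      le_inf (hA.1.trans inf_le_left) (le_inf hAK (hA.1.trans inf_le_right))
    have hP₁P : D ⊓ (K ⊓ M) ≤ P := inf_le_inf_left _ inf_le_right
    have hZZ₁ : Z ≤ zQ Q (D ⊓ (K ⊓ M)) := zQ_le_zQ_of_le hP₁P hA hAP₁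
    have hA₁ : A ∈ famQ Q (D ⊓ (K ⊓ M)) := (famQ_subset_of_le hP₁P hA hAP₁).1
    have hXn : (zQ Q (D ⊓ (K ⊓ M)) ⊓ B).Normal :=
      ih (Nat.card (K ⊓ M : Subgroup G) + Nat.card B)
        (by rw [← hn]; exact Nat.add_lt_add_right (card_lt_of_lt hLlt) _) (K ⊓ M) B hLn hB hBp
        (le_inf hBK hBM) hBD rfl
    by_cases hXB : zQ Q (D ⊓ (K ⊓ M)) ⊓ B = B
    · have : B ≤ zQ Q (D ⊓ (K ⊓ M)) := by
        rw [← hXB]; exact inf_le_left
      exact this.trans (zQ_le_of_mem hA₁)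
    · exfalso
      apply hnot
      have hXlt : zQ Q (D ⊓ (K ⊓ M)) ⊓ B < B := lt_of_le_of_ne inf_le_right hXB
      have h1 := ih (Nat.card M + Nat.card (zQ Q (D ⊓ (K ⊓ M)) ⊓ B : Subgroup G))
        (by rw [← hn]; exact Nat.add_lt_add_left (card_lt_of_lt hXlt) _) M _ hM hXn
        (hBp.to_le hXlt.le) (hXlt.le.trans hBM) (hXlt.le.trans hBD) rfl
      have h2 : Z ⊓ (zQ Q (D ⊓ (K ⊓ M)) ⊓ B) = Z ⊓ B := by
        rw [← inf_assoc, inf_eq_left.mpr hZZ₁]
      rw [← h2]; exact h1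
  have hall : ∀ U ∈ famQ Q P, B ≤ U := by
    intro U hU
    by_contra hBU
    obtain ⟨A, hA, -, hnBA, hBNA⟩ := replacement_in hp (S : Subgroup G) S.isPGroup' Q h.hQc h.hstar
      P B (inf_le_left.trans hD.1) hBS hSP (fun s _ => hBtop s)
      ⟨U, hU, hB'Z.trans (zQ_le_of_mem hU), hBU⟩
    exact hnBA (key A hA hBNA)
  apply hnot
  have : Z ⊓ B = B := inf_eq_right.mpr (le_zQ hall)
  rw [this]; exact hB

/-- Step 0 for strongly closed `D`: `zQ Q D ≤ O_p(G)` when `C_G(O_p(G)) ≤ O_p(G)`. -/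
theorem zQ_le_pCore_closed [Finite G] {p : ℕ} [Fact p.Prime] (S : Sylow p G)
    (Q : Subgroup G → Prop) (h : ZJCtx p S Q) (D : Subgroup G)
    (hD : IsStronglyClosed D (S : Subgroup G))
    (hc : Subgroup.centralizer (pCore p G : Set G) ≤ pCore p G) :
    zQ Q D ≤ pCore p G := by
  have hVn : (pCore p G).Normal := inferInstance
  have hVp : IsPGroup p (pCore p G) := pCore_isPGroup p G
  have hVS : pCore p G ≤ (S : Subgroup G) := pCore_le_sylow S
  have hSN : (S : Subgroup G) ≤ Subgroup.normalizer (zQ Q D : Set G) :=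
    (stronglyClosed_le_normalizer hD).trans (normalizer_le_normalizer_zQ h.hmap _)
  obtain ⟨A, hA⟩ := famQ_nonempty h.hbot D
  have hAc := h.hQc A hA.2.1
  have hCn : (Subgroup.centralizer (pCore p G : Set G)).Normal := inferInstance
  have hKS : (pCore p (G ⧸ Subgroup.centralizer (pCore p G : Set G))).comap
      (QuotientGroup.mk' (Subgroup.centralizer (pCore p G : Set G))) ≤ (S : Subgroup G) := by
    intro l hl
    obtain ⟨s, hs, hcl⟩ := exists_sylow_mul_of_mem_pCore_quotient S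
      (Subgroup.centralizer (pCore p G : Set G)) (l := l) hl
    have h1 : s⁻¹ * l ∈ (S : Subgroup G) := hVS (hc hcl)
    have h2 := mul_mem hs h1
    rwa [mul_inv_cancel_left] at h2
  have hKV : (pCore p (G ⧸ Subgroup.centralizer (pCore p G : Set G))).comap
      (QuotientGroup.mk' (Subgroup.centralizer (pCore p G : Set G))) ≤ pCore p G :=
    le_pCore inferInstance (S.isPGroup'.to_le hKS)
  intro z hz
  apply hKV
  have hquad : QuadOn (pCore p G) z := by
    intro v hv
    have h1 : v * z * v⁻¹ ∈ zQ Q D :=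
      (Subgroup.mem_normalizer_iff.mp (hSN (hVS hv)) z).mp hz
    have h2 : ⁅v, z⁆ ∈ zQ Q D := by
      rw [commutatorElement_def]; exact mul_mem h1 (inv_mem hz)
    have h3 := Subgroup.le_centralizer_iff_isMulCommutative.mpr hAc
      (zQ_le_of_mem hA hz) _ (zQ_le_of_mem hA h2)
    exact h3.symm
  exact h.hst (pCore p G) hVp z ((quadOn_iff _ z).mp hquad)

/-- **ZJ-theorem for strongly closed subgroups**, generic form. -/
theorem zQ_normal_closed [Finite G] {p : ℕ} [Fact p.Prime] (hp : p ≠ 2) (S : Sylow p G)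
    (Q : Subgroup G → Prop) (h : ZJCtx p S Q) (D : Subgroup G)
    (hD : IsStronglyClosed D (S : Subgroup G))
    (hc : Subgroup.centralizer (pCore p G : Set G) ≤ pCore p G) :
    (zQ Q D).Normal := by
  have hBn : (D ⊓ pCore p G).Normal :=
    stronglyClosed_inf_normal_normal hD inferInstance (pCore_le_sylow S)
  have h1 := zj_key_closed hp S Q h D hD _ ⊤ (D ⊓ pCore p G) inferInstance hBn
    ((pCore_isPGroup p G).to_le inf_le_right) le_top inf_le_left rfl
  have h2 : zQ Q D ≤ D ⊓ pCore p G := le_inf (zQ_le h.hbot D) (zQ_le_pCore_closed S Q h D hD hc)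
  rw [inf_top_eq, inf_eq_left.mpr h2] at h1
  exact h1

end Cfsg.Agent.Lib.Helper11
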