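import Cfsg.Prelude.Def_TwoFusion
import Cfsg.Agent.Lib.Helper11.ZJClosed
import Cfsg.Agent.Lib.Helper11.PStable
import Cfsg.Agent.Lib.Helper48.StronglyEmbedded

set_option autoImplicit false
set_option linter.unusedSectionVars false
open Cfsg

/-!
# Strongly closed subgroups: behaviour under conjugation, subgroups and quotients.
-/

namespace Cfsg.Agent.Lib.Helper11

section

variable {G : Type*} [Group G]

theorem stronglyClosed_conj_mem {D S : Subgroup G} (hD : IsStronglyClosed D S) {s d : G}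
    (hs : s ∈ S) (hd : d ∈ D) : s * d * s⁻¹ ∈ D :=
  hD.2 d hd s (S.mul_mem (S.mul_mem hs (hD.1 hd)) (S.inv_mem hs))

theorem stronglyClosed_map_conj {D S : Subgroup G} (hD : IsStronglyClosed D S) (g : G) :
    IsStronglyClosed (D.map (MulAut.conj g).toMonoidHom) (S.map (MulAut.conj g).toMonoidHom) := by
  refine ⟨Subgroup.map_mono hD.1, ?_⟩
  rintro _ ⟨d, hd, rfl⟩ h hh
  obtain ⟨s, hs, hsx⟩ := hh
  have h1 : (g⁻¹ * h * g) * d * (g⁻¹ * h * g)⁻¹ = s := by
    have : g * s * g⁻¹ = h * (g * d * g⁻¹) * h⁻¹ := hsx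
    have h2 : s = g⁻¹ * (h * (g * d * g⁻¹) * h⁻¹) * g := by
      rw [← this]; group
    rw [h2]; group
  have h2 : (g⁻¹ * h * g) * d * (g⁻¹ * h * g)⁻¹ ∈ D := hD.2 d hd _ (h1 ▸ hs)
  refine ⟨_, h2, ?_⟩
  show g * ((g⁻¹ * h * g) * d * (g⁻¹ * h * g)⁻¹) * g⁻¹ = h * (g * d * g⁻¹) * h⁻¹
  group

/-- restriction to a subgroup `Y` and a subgroup `R` of `Y` lying inside `S` -/
theorem stronglyClosed_subgroupOf {D S : Subgroup G} (hD : IsStronglyClosed D S) (Y : Subgroup G)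
    (R : Subgroup ↥Y) (hR : R.map Y.subtype ≤ S) :
    IsStronglyClosed (D.subgroupOf Y ⊓ R) R := by
  refine ⟨inf_le_right, ?_⟩
  intro x hx g hg
  refine ⟨?_, hg⟩
  show g * x * g⁻¹ ∈ D.subgroupOf Y
  rw [Subgroup.mem_subgroupOf]
  have h1 : ((g * x * g⁻¹ : ↥Y) : G) ∈ S := hR ⟨_, hg, rfl⟩
  have h2 : (x : G) ∈ D := Subgroup.mem_subgroupOf.mp hx.1
  exact hD.2 _ h2 (g : G) (by simpa using h1)

/-- image under a surjection whose kernel lies in `S` -/
theorem stronglyClosed_map_of_ker_le {H : Type*} [Group H] {D S : Subgroup G}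
    (hD : IsStronglyClosed D S) (f : G →* H) (hf : Function.Surjective f) (hker : f.ker ≤ S) :
    IsStronglyClosed (D.map f) (S.map f) := by
  refine ⟨Subgroup.map_mono hD.1, ?_⟩
  rintro _ ⟨d, hd, rfl⟩ h hh
  obtain ⟨g, rfl⟩ := hf h
  obtain ⟨s, hs, hsx⟩ := hh
  have h1 : s⁻¹ * (g * d * g⁻¹) ∈ f.ker := by
    rw [MonoidHom.mem_ker, map_mul, map_inv, hsx]
    simp only [map_mul, map_inv]
    group
  have h2 : g * d * g⁻¹ ∈ S := by
    have := S.mul_mem hs (hker h1)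
    rwa [mul_inv_cancel_left] at this
  exact ⟨_, hD.2 d hd g h2, by simp⟩

end

section sylow

variable {G : Type*} [Group G] [Finite G] {p : ℕ} [Fact p.Prime]

/-- a `p`-element of `S K` (`K` normal of order prime to `p`, `S` a Sylow `p`-subgroup) is
conjugate into `S` by an element of `K` -/
theorem exists_conj_mem_sylow_of_mem_sup (S : Sylow p G) (K : Subgroup G) [K.Normal]
    {y : G} (hy : y ∈ (S : Subgroup G) ⊔ K) (hyp : IsPGroup p (Subgroup.zpowers y)) :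
    ∃ k ∈ K, k * y * k⁻¹ ∈ (S : Subgroup G) := by
  obtain ⟨Y, hY⟩ : ∃ Y : Subgroup G, Y = (S : Subgroup G) ⊔ K := ⟨_, rfl⟩
  have hSY : (S : Subgroup G) ≤ Y := hY ▸ le_sup_left
  have hyY : y ∈ Y := hY ▸ hy
  obtain ⟨u, huY, hu⟩ := Cfsg.Agent.Lib.Helper48.exists_conj_mem_sylow_map (S.subtype hSY) hyp
    ((Subgroup.zpowers_le).mpr hyY)
  have h3 : u * y * u⁻¹ ∈ (S : Subgroup G) := by
    have := hu y (Subgroup.mem_zpowers y)
    rw [Sylow.coe_subtype, Subgroup.map_subgroupOf_eq_of_le hSY] at this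
    exact this
  -- write `u = s k`
  have hu' : u ∈ (S : Subgroup G) ⊔ K := hY ▸ huY
  rw [Subgroup.mem_sup_of_normal_right] at hu'
  obtain ⟨s, hs, k, hk, hsk⟩ := hu'
  refine ⟨k, hk, ?_⟩
  have h4 : k * y * k⁻¹ = s⁻¹ * (u * y * u⁻¹) * s := by
    rw [← hsk]; group
  rw [h4]
  exact (S : Subgroup G).mul_mem ((S : Subgroup G).mul_mem ((S : Subgroup G).inv_mem hs) h3) hs

/-- image under any surjective homomorphism, when `S` is a Sylow subgroup -/
theorem stronglyClosed_map_of_surjective (S : Sylow p G) {D : Subgroup G}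
    (hD : IsStronglyClosed D (S : Subgroup G)) {H : Type*} [Group H] (f : G →* H)
    (hf : Function.Surjective f) :
    IsStronglyClosed (D.map f) ((S : Subgroup G).map f) := by
  refine ⟨Subgroup.map_mono hD.1, ?_⟩
  rintro _ ⟨d, hd, rfl⟩ h hh
  obtain ⟨g, rfl⟩ := hf h
  obtain ⟨s, hs, hsx⟩ := hh
  have h1 : s⁻¹ * (g * d * g⁻¹) ∈ f.ker := by
    rw [MonoidHom.mem_ker, map_mul, map_inv, hsx]
    simp only [map_mul, map_inv]
    group
  have hy : g * d * g⁻¹ ∈ (S : Subgroup G) ⊔ f.ker := by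
    have := (Subgroup.mul_mem _ (Subgroup.mem_sup_left hs) (Subgroup.mem_sup_right h1) :
      s * (s⁻¹ * (g * d * g⁻¹)) ∈ (S : Subgroup G) ⊔ f.ker)
    rwa [mul_inv_cancel_left] at this
  have hdp : IsPGroup p (Subgroup.zpowers d) :=
    S.2.to_le ((Subgroup.zpowers_le).mpr (hD.1 hd))
  have hyp : IsPGroup p (Subgroup.zpowers (g * d * g⁻¹)) := by
    have : Subgroup.zpowers (g * d * g⁻¹) = (Subgroup.zpowers d).map (MulAut.conj g).toMonoidHom := by
      rw [MonoidHom.map_zpowers]; rfl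
    rw [this]
    exact hdp.map _
  obtain ⟨k, hk, hky⟩ := exists_conj_mem_sylow_of_mem_sup S f.ker hy hyp
  have h2 : (k * g) * d * (k * g)⁻¹ ∈ D := by
    apply hD.2 d hd
    have : (k * g) * d * (k * g)⁻¹ = k * (g * d * g⁻¹) * k⁻¹ := by group
    rw [this]; exact hky
  refine ⟨_, h2, ?_⟩
  have hk1 : f k = 1 := MonoidHom.mem_ker.mp hk
  simp [map_mul, hk1]

end sylow

end Cfsg.Agent.Lib.Helper11
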