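import Cfsg.Agent.Lib.Helper11.ThompsonCrit
import Cfsg.Agent.Lib.Helper11.SCLemmas
import Cfsg.Agent.Lib.Helper53.CenterMeet

set_option autoImplicit false
set_option linter.unusedSectionVars false
set_option linter.style.haveILetI false
open Cfsg

/-!
# Thompson's normal `p`-complement criterion for strongly closed subgroups, in functor form.
-/

namespace Cfsg.Agent.Lib.Helper11

universe u

section aux

variable {X : Type*} [Group X] [Finite X] {p : ℕ} [hp : Fact p.Prime]

/-- a nontrivial strongly closed subgroup of a Sylow subgroup meets its centre -/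
theorem exists_central_mem_of_stronglyClosed (T : Sylow p X) {D : Subgroup X}
    (hD : IsStronglyClosed D (T : Subgroup X)) (hne : D ≠ ⊥) :
    ∃ z ∈ D, z ≠ 1 ∧ ∀ t ∈ (T : Subgroup X), t * z = z * t := by
  haveI hn : (D.subgroupOf (T : Subgroup X)).Normal :=
    (Subgroup.normal_subgroupOf_iff_le_normalizer hD.1).mpr (stronglyClosed_le_normalizer hD)
  have hne' : D.subgroupOf (T : Subgroup X) ≠ ⊥ := by
    intro h
    rw [Subgroup.subgroupOf_eq_bot, disjoint_iff, inf_eq_left.mpr hD.1] at h
    exact hne h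
  obtain ⟨b, hb, hb1, hbc⟩ := Cfsg.Agent.Lib.Helper53.normal_meets_center T.2
    (D.subgroupOf (T : Subgroup X)) hne'
  refine ⟨(b : X), Subgroup.mem_subgroupOf.mp hb, fun h => hb1 (Subtype.ext h), ?_⟩
  intro t ht
  have := Subgroup.mem_center_iff.mp hbc ⟨t, ht⟩
  exact congrArg Subtype.val this

theorem map_subgroupOf_inf (D : Subgroup X) (N : Subgroup X) (R : Subgroup ↥N) :
    (D.subgroupOf N ⊓ R).map N.subtype = D ⊓ R.map N.subtype := by
  ext x
  constructor
  · rintro ⟨y, ⟨hy1, hy2⟩, rfl⟩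
    exact ⟨Subgroup.mem_subgroupOf.mp hy1, ⟨y, hy2, rfl⟩⟩
  · rintro ⟨hx1, ⟨y, hy, rfl⟩⟩
    exact ⟨y, ⟨Subgroup.mem_subgroupOf.mpr hx1, hy⟩, rfl⟩

end aux

section main

open Cfsg.Agent.Lib.Helper54 Cfsg.Agent.Lib.Helper91

/-- **Thompson's normal `p`-complement criterion**, for an isomorphism-invariant functor `W`
applied to a strongly closed subgroup `D` of a Sylow `p`-subgroup. -/
theorem thompson_criterion_closed (p : ℕ) [hp : Fact p.Prime]
    (W : ∀ (Q : Type u) [Group Q], Subgroup Q) (hW : IsCharPFunctor.{u} p W)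
    (hloc : ∀ (X : Type u) [Group X] [Finite X],
      Subgroup.centralizer (pCore p X : Set X) ≤ pCore p X →
      HasNormalPComplement p (X ⧸ pCore p X) →
      ∀ T : Sylow p X, IsCoatom (T : Subgroup X) → ∀ D : Subgroup X,
        IsStronglyClosed D (T : Subgroup X) → (inducedFunctor W D).Normal) :
    ∀ n : ℕ, ∀ (X : Type u) [Group X] [Finite X], Nat.card X = n → ∀ (T : Sylow p X)
      (D : Subgroup X), IsStronglyClosed D (T : Subgroup X) →
      HasNormalPComplement p ↥(Subgroup.normalizer (inducedFunctor W D : Set X)) →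
      HasNormalPComplement p X := by
  intro n
  induction n using Nat.strong_induction_on with
  | _ n ih =>
  intro X _ _ hn T D hD hNT
  by_contra hno
  have hp' := hp.out
  have hDp : IsPGroup p D := T.2.to_le hD.1
  -- (A) `D ≠ 1`
  have hDne : D ≠ ⊥ := by
    intro h
    apply hno
    have h1 : inducedFunctor W D = ⊥ := le_bot_iff.mp (h ▸ inducedFunctor_le W D)
    rw [h1, Subgroup.normalizer_eq_top] at hNT
    exact hasNPC_top_iff.mp hNT
  -- (0) the hypothesis holds for all Sylow subgroups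
  have h0 : ∀ T' : Sylow p X, ∃ D' : Subgroup X, IsStronglyClosed D' (T' : Subgroup X) ∧ D' ≠ ⊥ ∧
      HasNormalPComplement p ↥(Subgroup.normalizer (inducedFunctor W D' : Set X)) := by
    intro T'
    obtain ⟨g, hg⟩ := MulAction.exists_smul_eq X T T'
    have h1 : (T' : Subgroup X) = (T : Subgroup X).map (MulAut.conj g).toMonoidHom := by
      rw [← hg]; rfl
    refine ⟨D.map (MulAut.conj g).toMonoidHom, ?_, ?_, ?_⟩
    · rw [h1]; exact stronglyClosed_map_conj hD g
    · intro h
      exact hDne ((Subgroup.map_eq_bot_iff_of_injective _ (MulAut.conj g).injective).mp h)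
    · have h2 : inducedFunctor W (D.map (MulAut.conj g).toMonoidHom) =
          (inducedFunctor W D).map (MulAut.conj g).toMonoidHom := by
        apply inducedFunctor_map W hW _ _ hDp
        have : (MulAut.conj g).toMonoidHom.ker = ⊥ :=
          (MonoidHom.ker_eq_bot_iff _).mpr (MulAut.conj g).injective
        rw [this, inf_bot_eq]
      rw [h2, ← Subgroup.map_equiv_normalizer_eq]
      exact hasNPC_of_mulEquiv
        (Subgroup.equivMapOfInjective _ _ (MulAut.conj g).injective) hNT
  -- (1) the family ℋ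
  obtain ⟨ℋ, hℋ⟩ : ∃ ℋ : Set (Subgroup X), ℋ = {Q : Subgroup X | IsPGroup p Q ∧ Q ≠ ⊥ ∧
      ¬ HasNormalPComplement p ↥(Subgroup.normalizer (Q : Set X))} := ⟨_, rfl⟩
  have hmemℋ : ∀ Q : Subgroup X, Q ∈ ℋ ↔ (IsPGroup p Q ∧ Q ≠ ⊥ ∧
      ¬ HasNormalPComplement p ↥(Subgroup.normalizer (Q : Set X))) := by
    intro Q; rw [hℋ]; rfl
  have hex : ℋ.Nonempty := by
    by_contra hcon
    rw [Set.not_nonempty_iff_eq_empty] at hcon
    apply hno
    rw [Cfsg.Agent.S0072.result p]
    intro Q hQ hQ1
    by_contra hc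
    have : Q ∈ ℋ := (hmemℋ Q).mpr ⟨hQ, hQ1, hc⟩
    rw [hcon] at this
    exact this
  obtain ⟨e, he⟩ : ∃ e : Subgroup X → ℕ, e = fun Q : Subgroup X =>
      (Nat.card ↥(Subgroup.normalizer (Q : Set X))).factorization p := ⟨_, rfl⟩
  obtain ⟨H, hHℋ, hHmax⟩ := Set.exists_max_image ℋ
    (fun Q => e Q * (Nat.card X + 1) + Nat.card Q) (Set.toFinite ℋ) hex
  have hcardle : ∀ Q : Subgroup X, Nat.card Q ≤ Nat.card X := fun Q => Subgroup.card_le_card_group Q
  have hmax1 : ∀ Q ∈ ℋ, e Q ≤ e H := by
    intro Q hQ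
    by_contra hlt
    rw [not_le] at hlt
    have h1 : e Q * (Nat.card X + 1) + Nat.card Q ≤ e H * (Nat.card X + 1) + Nat.card H :=
      hHmax Q hQ
    have h2 := hcardle H
    have h3 : (e H + 1) * (Nat.card X + 1) ≤ e Q * (Nat.card X + 1) :=
      Nat.mul_le_mul_right _ hlt
    nlinarith
  have hmax2 : ∀ Q ∈ ℋ, e Q = e H → Nat.card Q ≤ Nat.card H := by
    intro Q hQ heq
    have h1 : e Q * (Nat.card X + 1) + Nat.card Q ≤ e H * (Nat.card X + 1) + Nat.card H :=
      hHmax Q hQ
    rw [heq] at h1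
    omega
  obtain ⟨hHp, hH1, hHN⟩ := (hmemℋ H).mp hHℋ
  -- (2) `H` is normal
  have hNtop : Subgroup.normalizer (H : Set X) = ⊤ := by
    by_contra hne
    obtain ⟨N, hN⟩ : ∃ N : Subgroup X, N = Subgroup.normalizer (H : Set X) := ⟨_, rfl⟩
    rw [← hN] at hne hHN
    have hNlt : Nat.card ↥N < n := by
      rw [← hn, ← Subgroup.card_top (G := X)]
      exact card_lt_of_lt (lt_top_iff_ne_top.mpr hne)
    obtain ⟨R⟩ : Nonempty (Sylow p ↥N) := inferInstance
    obtain ⟨R', hR'⟩ : ∃ R' : Subgroup X, R' = (R : Subgroup ↥N).map N.subtype := ⟨_, rfl⟩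
    have hR'p : IsPGroup p R' := by rw [hR']; exact R.2.map _
    have hR'N : R' ≤ N := by rw [hR']; exact Subgroup.map_subtype_le _
    obtain ⟨T', hT'⟩ := hR'p.exists_le_sylow
    obtain ⟨D', hD', hD'ne, hD'N⟩ := h0 T'
    have hD'p : IsPGroup p D' := T'.2.to_le hD'.1
    -- the strongly closed subgroup of `R`
    obtain ⟨DN, hDN⟩ : ∃ DN : Subgroup ↥N, DN = D'.subgroupOf N ⊓ (R : Subgroup ↥N) := ⟨_, rfl⟩
    have hDNsc : IsStronglyClosed DN (R : Subgroup ↥N) := by
      rw [hDN]
      exact stronglyClosed_subgroupOf hD' N (R : Subgroup ↥N) (hR' ▸ hT')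
    obtain ⟨D'', hD''⟩ : ∃ D'' : Subgroup X, D'' = DN.map N.subtype := ⟨_, rfl⟩
    have hD''eq : D'' = D' ⊓ R' := by rw [hD'', hDN, hR', map_subgroupOf_inf]
    have hD''p : IsPGroup p D'' := hD'p.to_le (hD''eq ▸ inf_le_left)
    have h1 : ¬ HasNormalPComplement p
        ↥(Subgroup.normalizer (inducedFunctor W DN : Set ↥N)) :=
      fun h => hHN (ih _ hNlt ↥N rfl R DN hDNsc h)
    have hWD'' : inducedFunctor W D'' = (inducedFunctor W DN).map N.subtype := by
      rw [hD'']
      apply inducedFunctor_map W hW N.subtype _ (R.2.to_le hDNsc.1)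
      rw [Subgroup.ker_subtype, inf_bot_eq]
    have hHR' : H ≤ R' := by
      have hHsn : (H.subgroupOf N).Normal := by
        rw [hN]; exact Subgroup.normal_in_normalizer
      have h2 : H.subgroupOf N ≤ (R : Subgroup ↥N) :=
        normal_pGroup_le_sylow hHsn hHp.comap_subtype R
      intro x hx
      have hxN : x ∈ N := by rw [hN]; exact Subgroup.le_normalizer hx
      rw [hR']
      exact ⟨⟨x, hxN⟩, h2 (Subgroup.mem_subgroupOf.mpr hx), rfl⟩
    -- `T' ∩ N = R'`
    have hTN : (T' : Subgroup X) ⊓ N ≤ R' := by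
      have h2 : IsPGroup p ↥(((T' : Subgroup X) ⊓ N).subgroupOf N) :=
        (T'.2.to_le inf_le_left).comap_subtype
      have h3 : (R : Subgroup ↥N) ≤ ((T' : Subgroup X) ⊓ N).subgroupOf N := by
        intro x hx
        rw [Subgroup.mem_subgroupOf]
        exact ⟨hT' (hR' ▸ ⟨x, hx, rfl⟩), x.2⟩
      have h4 := R.is_maximal' h2 h3
      intro x hx
      rw [hR']
      have h5 : (⟨x, hx.2⟩ : ↥N) ∈ (R : Subgroup ↥N) := by
        rw [← h4]; exact Subgroup.mem_subgroupOf.mpr hx
      exact ⟨⟨x, hx.2⟩, h5, rfl⟩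
    -- `D'' ≠ 1`
    have hD''ne : D'' ≠ ⊥ := by
      obtain ⟨z, hzD, hz1, hzc⟩ := exists_central_mem_of_stronglyClosed T' hD' hD'ne
      have hzN : z ∈ N := by
        rw [hN]
        apply Subgroup.centralizer_le_normalizer
        rw [Subgroup.mem_centralizer_iff]
        intro h hh
        exact hzc h (hT' (hHR' hh))
      intro h
      apply hz1
      have : z ∈ D'' := by
        rw [hD''eq]
        exact ⟨hzD, hTN ⟨hD'.1 hzD, hzN⟩⟩
      rw [h] at this
      exact Subgroup.mem_bot.mp this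
    have h2 : ¬ HasNormalPComplement p
        ↥(Subgroup.normalizer (inducedFunctor W D'' : Set X)) := by
      intro h
      apply h1
      let f : ↥(Subgroup.normalizer (inducedFunctor W DN : Set ↥N)) →*
          ↥(Subgroup.normalizer (inducedFunctor W D'' : Set X)) :=
        (N.subtype.comp (Subgroup.subtype _)).codRestrict _ (by
          intro x
          rw [hWD'']
          exact Subgroup.le_normalizer_map _ ⟨x, x.2, rfl⟩)
      refine hasNPC_of_injective f ?_ h
      intro x y hxy
      have h3 : ((f x : _) : X) = ((f y : _) : X) := congrArg Subtype.val hxy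
      exact Subtype.ext (Subtype.ext h3)
    have hWD''ℋ : inducedFunctor W D'' ∈ ℋ :=
      (hmemℋ _).mpr ⟨hD''p.to_le (inducedFunctor_le W D''),
        inducedFunctor_ne_bot W hW D'' hD''p hD''ne, h2⟩
    -- |R'| is the p-part of |N|
    have hR'card : Nat.card R' = p ^ e H := by
      rw [hR', Subgroup.card_map_of_injective N.subtype_injective,
        R.card_eq_multiplicity, he, hN]
    by_cases hRT : R' = (T' : Subgroup X)
    · apply h2
      have : D'' = D' := by
        rw [hD''eq, hRT]; exact inf_eq_left.mpr hD'.1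
      rw [this]
      exact hD'N
    · have hlt : R' < (T' : Subgroup X) := lt_of_le_of_ne hT' hRT
      have hgrow := lt_normalizer_inf_of_isPGroup T'.2 hlt
      have h3 : Subgroup.normalizer (R' : Set X) ⊓ (T' : Subgroup X) ≤
          Subgroup.normalizer (inducedFunctor W D'' : Set X) := by
        intro t ht
        apply normalizer_le_normalizer_inducedFunctor W hW D'' hD''p
        rw [hD''eq]
        exact mem_normalizer_inf (stronglyClosed_le_normalizer hD' ht.2) ht.1
      have h4 : Nat.card ↥(Subgroup.normalizer (R' : Set X) ⊓ (T' : Subgroup X)) ≤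
          p ^ e (inducedFunctor W D'') := by
        rw [he]
        exact card_pGroup_le_pow_factorization (T'.2.to_le inf_le_right) h3
      have h5 := card_lt_of_lt hgrow
      rw [hR'card] at h5
      have h6 : e H < e (inducedFunctor W D'') :=
        (Nat.pow_lt_pow_iff_right hp'.one_lt).mp (lt_of_lt_of_le h5 h4)
      exact absurd (hmax1 _ hWD''ℋ) (not_le.mpr h6)
  have hHn : H.Normal := Subgroup.normalizer_eq_top_iff.mp hNtop
  -- (2') `H = O_p(X)`
  have heH : e H = (Nat.card X).factorization p := by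
    rw [he]; simp only; rw [hNtop, Subgroup.card_top]
  have hHeq : H = pCore p X := by
    have hHle : H ≤ pCore p X := le_pCore hHn hHp
    have hOℋ : pCore p X ∈ ℋ := by
      refine (hmemℋ _).mpr ⟨pCore_isPGroup p X, fun h => hH1 (le_bot_iff.mp (h ▸ hHle)), ?_⟩
      rw [Subgroup.normalizer_eq_top]
      intro h
      exact hno (hasNPC_top_iff.mp h)
    have heO : e (pCore p X) = e H := by
      rw [heH, he]; simp only; rw [Subgroup.normalizer_eq_top, Subgroup.card_top]
    exact Subgroup.eq_of_le_of_card_ge hHle (hmax2 _ hOℋ heO)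
  subst hHeq
  -- (K1) larger `p`-subgroups normalized by a Sylow subgroup have `p`-nilpotent normalizers
  have hK1 : ∀ L : Subgroup X, IsPGroup p L → pCore p X < L → ∀ T' : Sylow p X,
      (T' : Subgroup X) ≤ Subgroup.normalizer (L : Set X) →
      HasNormalPComplement p ↥(Subgroup.normalizer (L : Set X)) := by
    intro L hLp hlt T' hT'
    by_contra hc
    have hLℋ : L ∈ ℋ := (hmemℋ L).mpr ⟨hLp, fun h => by
      rw [h] at hlt; exact not_lt_bot hlt, hc⟩
    have heL : e L = e (pCore p X) := by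
      rw [heH, he]; simp only
      exact factorization_card_eq_of_sylow_le T' hT'
    exact absurd (hmax2 L hLℋ heL) (not_le.mpr (card_lt_of_lt hlt))
  have hHT : pCore p X ≤ (T : Subgroup X) := pCore_le_sylow T
  have hHcard : 1 < Nat.card ↥(pCore p X) := by
    rw [Finite.one_lt_card_iff_nontrivial]
    exact (Subgroup.nontrivial_iff_ne_bot _).mpr hH1
  have hquotlt : Nat.card (X ⧸ pCore p X) < n := by
    rw [← hn, ← Subgroup.card_mul_index (pCore p X), Subgroup.index_eq_card]
    have : 0 < Nat.card (X ⧸ pCore p X) := Nat.card_pos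
    nlinarith
  have hTD : (T : Subgroup X) ≤ Subgroup.normalizer (D : Set X) := stronglyClosed_le_normalizer hD
  -- (B) `D ≰ O_p(X)`
  have hDH : ¬ D ≤ pCore p X := by
    intro hle
    apply hno
    have hDn : D.Normal := by
      constructor
      intro d hd g
      exact hD.2 d hd g (hHT (hHn.conj_mem d (hle hd) g))
    haveI := inducedFunctor_normal_of_normal W hW D hDp
    rw [Subgroup.normalizer_eq_top] at hNT
    exact hasNPC_top_iff.mp hNT
  -- (3) `X / O_p(X)` has a normal `p`-complement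
  have hquot : HasNormalPComplement p (X ⧸ pCore p X) := by
    have hsurj := QuotientGroup.mk'_surjective (pCore p X)
    obtain ⟨Tb, hTb⟩ : ∃ Tb : Sylow p (X ⧸ pCore p X), (Tb : Subgroup (X ⧸ pCore p X)) =
        (T : Subgroup X).map (QuotientGroup.mk' (pCore p X)) :=
      ⟨T.mapSurjective hsurj, rfl⟩
    obtain ⟨Db, hDb⟩ : ∃ Db : Subgroup (X ⧸ pCore p X),
        Db = D.map (QuotientGroup.mk' (pCore p X)) := ⟨_, rfl⟩
    have hDbsc : IsStronglyClosed Db (Tb : Subgroup (X ⧸ pCore p X)) := by
      rw [hDb, hTb]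
      exact stronglyClosed_map_of_surjective T hD _ hsurj
    have hDbne : Db ≠ ⊥ := by
      intro h
      apply hDH
      intro d hd
      have h1 : QuotientGroup.mk' (pCore p X) d ∈ Db := hDb ▸ Subgroup.mem_map_of_mem _ hd
      rw [h, Subgroup.mem_bot, QuotientGroup.mk'_apply, QuotientGroup.eq_one_iff] at h1
      exact h1
    have hDbp : IsPGroup p Db := Tb.2.to_le hDbsc.1
    apply ih _ hquotlt (X ⧸ pCore p X) rfl Tb Db hDbsc
    obtain ⟨Wb, hWb⟩ : ∃ Wb, Wb = inducedFunctor W Db := ⟨_, rfl⟩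
    rw [← hWb]
    have hWbne : Wb ≠ ⊥ := by rw [hWb]; exact inducedFunctor_ne_bot W hW _ hDbp hDbne
    have hWbT : Wb ≤ (Tb : Subgroup (X ⧸ pCore p X)) := by
      rw [hWb]; exact (inducedFunctor_le W _).trans hDbsc.1
    obtain ⟨L, hL⟩ : ∃ L, L = Wb.comap (QuotientGroup.mk' (pCore p X)) := ⟨_, rfl⟩
    have hLT : L ≤ (T : Subgroup X) := by
      intro x hx
      rw [hL, Subgroup.mem_comap] at hx
      have h1 := hWbT hx
      rw [hTb] at h1
      obtain ⟨t, ht, hxt⟩ := h1
      have h2 : t⁻¹ * x ∈ pCore p X := by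
        rw [← QuotientGroup.eq_one_iff, QuotientGroup.mk_mul, QuotientGroup.mk_inv]
        have : (QuotientGroup.mk t : X ⧸ pCore p X) = QuotientGroup.mk x := hxt
        rw [this, inv_mul_cancel]
      have h3 := mul_mem ht (hHT h2)
      rwa [mul_inv_cancel_left] at h3
    have hHL : pCore p X < L := by
      refine lt_of_le_of_ne ?_ ?_
      · rw [hL]
        intro x hx
        rw [Subgroup.mem_comap, QuotientGroup.mk'_apply, (QuotientGroup.eq_one_iff x).mpr hx]
        exact Subgroup.one_mem _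
      · intro heq
        apply hWbne
        rw [← Subgroup.map_comap_eq_self_of_surjective hsurj Wb, ← hL, ← heq, eq_bot_iff]
        rintro _ ⟨x, hx, rfl⟩
        rw [Subgroup.mem_bot, QuotientGroup.mk'_apply, QuotientGroup.eq_one_iff]
        exact hx
    have hnormeq : Subgroup.normalizer (L : Set X) =
        (Subgroup.normalizer (Wb : Set (X ⧸ pCore p X))).comap (QuotientGroup.mk' (pCore p X)) := by
      rw [hL]; exact (Subgroup.comap_normalizer_eq_of_surjective _ hsurj).symm
    have hTN : (T : Subgroup X) ≤ Subgroup.normalizer (L : Set X) := by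
      rw [hnormeq]
      intro t ht
      rw [Subgroup.mem_comap, hWb]
      apply normalizer_le_normalizer_inducedFunctor W hW _ hDbp
      apply stronglyClosed_le_normalizer hDbsc
      rw [hTb]
      exact Subgroup.mem_map_of_mem _ ht
    have hNL := hK1 L (T.2.to_le hLT) hHL T hTN
    rw [hnormeq] at hNL
    exact hasNPC_of_surjective
      ((QuotientGroup.mk' (pCore p X)).subgroupComap (Subgroup.normalizer (Wb : Set _)))
      (MonoidHom.subgroupComap_surjective_of_surjective _ _ hsurj) hNL
  -- (4) `O_{p'}(X) = 1`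
  have hO : pPrimeCore p X = ⊥ := by
    by_contra hne
    haveI hKn : (pPrimeCore p X).Normal := Cfsg.Agent.Lib.Helper55.pPrimeCore_normal' p
    have hKcop : (Nat.card (pPrimeCore p X)).Coprime p :=
      Cfsg.Agent.Lib.Helper55.pPrimeCore_card_coprime p
    apply hno
    apply hasNPC_of_quotient (pPrimeCore p X) hKcop
    have hKcard : 1 < Nat.card ↥(pPrimeCore p X) := by
      rw [Finite.one_lt_card_iff_nontrivial]
      exact (Subgroup.nontrivial_iff_ne_bot _).mpr hne
    have hlt : Nat.card (X ⧸ pPrimeCore p X) < n := by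
      rw [← hn, ← Subgroup.card_mul_index (pPrimeCore p X), Subgroup.index_eq_card]
      have : 0 < Nat.card (X ⧸ pPrimeCore p X) := Nat.card_pos
      nlinarith
    have hsurj := QuotientGroup.mk'_surjective (pPrimeCore p X)
    have hker : (Nat.card (QuotientGroup.mk' (pPrimeCore p X)).ker).Coprime p := by
      rw [QuotientGroup.ker_mk']; exact hKcop
    obtain ⟨Tb, hTb⟩ : ∃ Tb : Sylow p (X ⧸ pPrimeCore p X),
        (Tb : Subgroup (X ⧸ pPrimeCore p X)) =
        (T : Subgroup X).map (QuotientGroup.mk' (pPrimeCore p X)) :=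
      ⟨T.mapSurjective hsurj, rfl⟩
    have hDbsc : IsStronglyClosed (D.map (QuotientGroup.mk' (pPrimeCore p X)))
        (Tb : Subgroup (X ⧸ pPrimeCore p X)) := by
      rw [hTb]
      exact stronglyClosed_map_of_surjective T hD _ hsurj
    apply ih _ hlt (X ⧸ pPrimeCore p X) rfl Tb _ hDbsc
    have hWTb : inducedFunctor W (D.map (QuotientGroup.mk' (pPrimeCore p X))) =
        (inducedFunctor W D).map (QuotientGroup.mk' (pPrimeCore p X)) := by
      apply inducedFunctor_map W hW _ _ hDp
      exact inf_ker_eq_bot_of_isPGroup p _ hker hDp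
    rw [hWTb]
    exact hasNPC_of_surjective (normalizerMap (QuotientGroup.mk' (pPrimeCore p X)) _)
      (normalizerMap_surjective p _ hsurj hker _ (hDp.to_le (inducedFunctor_le W _))) hNT
  -- (5) `C_X(O_p(X)) ≤ O_p(X)`
  have hcent : Subgroup.centralizer (pCore p X : Set X) ≤ pCore p X :=
    Cfsg.Agent.Lib.Helper76.centralizer_pCore_le_of_isPSolvable
      (isPSolvable_of_npc_quotient (pCore p X) hHp hquot) hO
  -- (6) `T` is a maximal subgroup
  have hTne : (T : Subgroup X) ≠ ⊤ := by
    intro h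
    apply hno
    apply hasNPC_of_isPGroup
    intro x
    obtain ⟨k, hk⟩ := T.2 ⟨x, h ▸ Subgroup.mem_top x⟩
    exact ⟨k, congrArg Subtype.val hk⟩
  have hcoatom : IsCoatom (T : Subgroup X) := by
    refine ⟨hTne, ?_⟩
    intro Y hTY
    by_contra hYtop
    have hYlt : Nat.card ↥Y < n := by
      rw [← hn, ← Subgroup.card_top (G := X)]
      exact card_lt_of_lt (lt_top_iff_ne_top.mpr hYtop)
    -- the Sylow subgroup of `Y` coming from `T`
    obtain ⟨TY, hTY'⟩ : ∃ TY : Sylow p ↥Y, (TY : Subgroup ↥Y) = (T : Subgroup X).subgroupOf Y :=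
      ⟨T.subtype hTY.le, rfl⟩
    have hmapTY : (TY : Subgroup ↥Y).map Y.subtype = (T : Subgroup X) := by
      rw [hTY', Subgroup.map_subgroupOf_eq_of_le hTY.le]
    obtain ⟨DY, hDY⟩ : ∃ DY : Subgroup ↥Y, DY = D.subgroupOf Y ⊓ (TY : Subgroup ↥Y) := ⟨_, rfl⟩
    have hDYsc : IsStronglyClosed DY (TY : Subgroup ↥Y) := by
      rw [hDY]
      exact stronglyClosed_subgroupOf hD Y (TY : Subgroup ↥Y) hmapTY.le
    have hmapDY : DY.map Y.subtype = D := by
      rw [hDY, map_subgroupOf_inf, hmapTY]
      exact inf_eq_left.mpr hD.1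
    have hWDY : inducedFunctor W D = (inducedFunctor W DY).map Y.subtype := by
      rw [← hmapDY]
      apply inducedFunctor_map W hW Y.subtype _ (TY.2.to_le hDYsc.1)
      rw [Subgroup.ker_subtype, inf_bot_eq]
    have hNY : HasNormalPComplement p
        ↥(Subgroup.normalizer (inducedFunctor W DY : Set ↥Y)) := by
      let f : ↥(Subgroup.normalizer (inducedFunctor W DY : Set ↥Y)) →*
          ↥(Subgroup.normalizer (inducedFunctor W D : Set X)) :=
        (Y.subtype.comp (Subgroup.subtype _)).codRestrict _ (by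
          intro x
          rw [hWDY]
          exact Subgroup.le_normalizer_map _ ⟨x, x.2, rfl⟩)
      refine hasNPC_of_injective f ?_ hNT
      intro x y hxy
      have h3 : ((f x : _) : X) = ((f y : _) : X) := congrArg Subtype.val hxy
      exact Subtype.ext (Subtype.ext h3)
    have hYnpc := ih _ hYlt ↥Y rfl TY DY hDYsc hNY
    obtain ⟨K, hK⟩ := exists_wit_of_hasNPC hYnpc
    -- `K` centralizes `O_p(X)`
    have hHY : pCore p X ≤ Y := hHT.trans hTY.le
    have hHYn : ((pCore p X).subgroupOf Y).Normal := Subgroup.Normal.subgroupOf hHn Y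
    have hKc := hK.le_centralizer hHYn hHp.comap_subtype
    have hKbot : K = ⊥ := by
      rw [eq_bot_iff]
      intro k hk
      have h1 : (k : X) ∈ Subgroup.centralizer (pCore p X : Set X) := by
        rw [Subgroup.mem_centralizer_iff]
        intro h hh
        have := (Subgroup.mem_centralizer_iff.mp (hKc hk)) ⟨h, hHY hh⟩
          (Subgroup.mem_subgroupOf.mpr hh)
        exact congrArg Subtype.val this
      have h2 : (k : X) ∈ pCore p X := hcent h1
      have h3 := hK.2.1 k hk
      obtain ⟨j, hj⟩ := (IsPGroup.iff_orderOf.mp hHp) ⟨(k : X), h2⟩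
      rw [Subgroup.orderOf_mk, Subgroup.orderOf_coe] at hj
      rw [hj] at h3
      have hj0 : j = 0 := by
        by_contra hj0
        have h5 : p.Coprime p := Nat.Coprime.coprime_dvd_left (dvd_pow_self p hj0) h3
        exact hp'.one_lt.ne' ((Nat.coprime_self p).mp h5)
      rw [hj0, pow_zero] at hj
      exact Subgroup.mem_bot.mpr (orderOf_eq_one_iff.mp hj)
    -- so `Y` is a `p`-group
    have hYp : IsPGroup p ↥Y := by
      intro y
      obtain ⟨k, hk⟩ := hK.2.2 y
      rw [hKbot, Subgroup.mem_bot] at hk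
      exact ⟨k, hk⟩
    have hYT : Y = (T : Subgroup X) := T.is_maximal' hYp hTY.le
    exact absurd hYT.symm hTY.ne
  -- (7) conclusion
  have hWn := hloc X hcent hquot T hcoatom D hD
  apply hno
  rw [← hasNPC_top_iff, ← Subgroup.normalizer_eq_top_iff.mpr hWn]
  exact hNT

end main

end Cfsg.Agent.Lib.Helper11
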