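import Cfsg.Prelude.Def_ConjugacyFunctors
import Cfsg.Agent.Lib.Helper11.ZJ

set_option autoImplicit false
set_option linter.unusedSectionVars false
open Cfsg

/-!
# Basic properties of the subgroup map induced by an isomorphism-invariant `p`-group functor.
-/

namespace Cfsg.Agent.Lib.Helper11

universe u

section

variable {p : ℕ} (W : ∀ (Q : Type u) [Group Q], Subgroup Q)

theorem inducedFunctor_le {X : Type u} [Group X] (P : Subgroup X) :
    inducedFunctor W P ≤ P := by
  unfold inducedFunctor
  exact Subgroup.map_subtype_le _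

theorem inducedFunctor_ne_bot (hW : IsCharPFunctor.{u} p W) {X : Type u} [Group X] [Finite X]
    (P : Subgroup X) (hP : IsPGroup p P) (hne : P ≠ ⊥) : inducedFunctor W P ≠ ⊥ := by
  unfold inducedFunctor
  have h1 : Nontrivial ↥P := (Subgroup.nontrivial_iff_ne_bot P).mpr hne
  have h2 := hW.1 ↥P hP h1
  intro h
  exact h2 ((Subgroup.map_eq_bot_iff_of_injective _ P.subtype_injective).mp h)

/-- compatibility with homomorphisms that are injective on `P` -/
theorem inducedFunctor_map (hW : IsCharPFunctor.{u} p W) {X X' : Type u} [Group X] [Group X']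
    [Finite X] (f : X →* X') (P : Subgroup X) (hP : IsPGroup p P) (hinj : P ⊓ f.ker = ⊥) :
    inducedFunctor W (P.map f) = (inducedFunctor W P).map f := by
  have hbij : Function.Bijective (f.subgroupMap P) := by
    refine ⟨?_, f.subgroupMap_surjective P⟩
    rw [← MonoidHom.ker_eq_bot_iff, eq_bot_iff]
    intro x hx
    have h1 : f (x : X) = 1 := congrArg Subtype.val (MonoidHom.mem_ker.mp hx)
    have h2 : (x : X) ∈ P ⊓ f.ker := ⟨x.2, MonoidHom.mem_ker.mpr h1⟩
    rw [hinj, Subgroup.mem_bot] at h2
    exact Subgroup.mem_bot.mpr (Subtype.ext h2)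
  have h3 := hW.2 ↥P ↥(P.map f) hP (MulEquiv.ofBijective (f.subgroupMap P) hbij)
  unfold inducedFunctor
  rw [← h3, Subgroup.map_map, Subgroup.map_map]
  rfl

theorem normalizer_le_normalizer_inducedFunctor (hW : IsCharPFunctor.{u} p W) {X : Type u}
    [Group X] [Finite X] (P : Subgroup X) (hP : IsPGroup p P) :
    Subgroup.normalizer (P : Set X) ≤ Subgroup.normalizer (inducedFunctor W P : Set X) := by
  intro g hg
  apply mem_normalizer_of_map_conj_eq'
  have h1 : P.map (MulAut.conj g).toMonoidHom = P := map_conj_eq_of_mem_normalizer' hg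
  have h2 := inducedFunctor_map W hW (MulAut.conj g).toMonoidHom P hP (by
    have : (MulAut.conj g).toMonoidHom.ker = ⊥ :=
      (MonoidHom.ker_eq_bot_iff _).mpr (MulAut.conj g).injective
    rw [this, inf_bot_eq])
  rw [h1] at h2
  exact h2.symm

theorem inducedFunctor_normal_of_normal (hW : IsCharPFunctor.{u} p W) {X : Type u}
    [Group X] [Finite X] (P : Subgroup X) (hP : IsPGroup p P) [hPn : P.Normal] :
    (inducedFunctor W P).Normal := by
  rw [← Subgroup.normalizer_eq_top_iff, eq_top_iff]
  exact (Subgroup.normalizer_eq_top_iff.mpr hPn).symm.le.trans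
    (normalizer_le_normalizer_inducedFunctor W hW P hP)

end

end Cfsg.Agent.Lib.Helper11
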