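import Cfsg.Agent.Lib.Helper11.NPC
import Cfsg.Agent.Lib.Helper11.CharFunctor
import Cfsg.Agent.Lib.Helper11.PStable
import Cfsg.Agent.S0072
import Cfsg.Agent.Lib.Helper91.Matsuyama
import Cfsg.Agent.Lib.Helper54.PConstr5
import Cfsg.Agent.Lib.Helper55.Cores
import Cfsg.Agent.Lib.Helper76.PSolvable
import Cfsg.Agent.Lib.Helper53.SolvPSolv

set_option autoImplicit false
set_option linter.unusedSectionVars false
set_option linter.style.haveILetI false
open Cfsg

/-!
# Thompson's normal `p`-complement criterion, in functor form.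
-/

namespace Cfsg.Agent.Lib.Helper11

universe u

section arith

variable {X : Type*} [Group X] [Finite X] {p : ℕ} [hp : Fact p.Prime]

theorem card_pGroup_le_pow_factorization {R Y : Subgroup X} (hR : IsPGroup p R) (hRY : R ≤ Y) :
    Nat.card R ≤ p ^ (Nat.card Y).factorization p := by
  obtain ⟨j, hj⟩ := IsPGroup.iff_card.mp hR
  have h1 : Nat.card R ∣ Nat.card Y := Subgroup.card_dvd_of_le hRY
  rw [hj] at h1 ⊢
  have h2 : j ≤ (Nat.card Y).factorization p :=
    (hp.out.pow_dvd_iff_le_factorization Nat.card_pos.ne').mp h1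
  exact Nat.pow_le_pow_right hp.out.pos h2

theorem factorization_card_le_of_le {Y Z : Subgroup X} (h : Y ≤ Z) :
    (Nat.card Y).factorization p ≤ (Nat.card Z).factorization p := by
  have h1 : Nat.card Y ∣ Nat.card Z := Subgroup.card_dvd_of_le h
  exact (Nat.factorization_le_iff_dvd Nat.card_pos.ne' Nat.card_pos.ne').mpr h1 p

theorem factorization_card_le_card (Y : Subgroup X) :
    (Nat.card Y).factorization p ≤ (Nat.card X).factorization p := by
  have h1 : Nat.card Y ∣ Nat.card X := Subgroup.card_subgroup_dvd_card Y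
  exact (Nat.factorization_le_iff_dvd Nat.card_pos.ne' Nat.card_pos.ne').mpr h1 p

/-- If a Sylow `p`-subgroup of `X` lies in `Y`, the `p`-parts of `|Y|` and `|X|` agree. -/
theorem factorization_card_eq_of_sylow_le (T : Sylow p X) {Y : Subgroup X}
    (h : (T : Subgroup X) ≤ Y) :
    (Nat.card Y).factorization p = (Nat.card X).factorization p := by
  apply le_antisymm (factorization_card_le_card Y)
  have h1 : Nat.card (T : Subgroup X) ∣ Nat.card Y := Subgroup.card_dvd_of_le h
  rw [T.card_eq_multiplicity] at h1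
  exact (hp.out.pow_dvd_iff_le_factorization Nat.card_pos.ne').mp h1

end arith

section psolv

theorem isPSolvable_of_npc_quotient {X : Type u} [Group X] [Finite X] {p : ℕ} [hp : Fact p.Prime]
    (H : Subgroup X) [H.Normal] (hH : IsPGroup p H) (h : HasNormalPComplement p (X ⧸ H)) :
    IsPSolvable p X := by
  obtain ⟨K, hK⟩ := exists_wit_of_hasNPC h
  haveI := hK.1
  have h1 : IsPSolvable p ((X ⧸ H) ⧸ K) := by
    apply Cfsg.Agent.Lib.Helper53.isPSolvable_of_isSolvable
    haveI : Group.IsNilpotent ((X ⧸ H) ⧸ K) := hK.isPGroup_quotient.isNilpotent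
    infer_instance
  have h2 : IsPSolvable p (X ⧸ H) :=
    Cfsg.Agent.Lib.Helper53.isPSolvable_of_normal_quotient K
      (Or.inr (coprime_card_of_forall_orderOf K hK.2.1)) h1
  obtain ⟨m, hm⟩ := IsPGroup.iff_card.mp hH
  exact Cfsg.Agent.Lib.Helper53.isPSolvable_of_normal_quotient H (Or.inl ⟨m, hm⟩) h2

end psolv


section main

open Cfsg.Agent.Lib.Helper54 Cfsg.Agent.Lib.Helper91

/-- **Thompson's normal `p`-complement criterion** for an isomorphism-invariant functor `W`,
relative to a class `C` of groups closed under subgroups and quotients. -/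
theorem thompson_criterion (p : ℕ) [hp : Fact p.Prime]
    (W : ∀ (Q : Type u) [Group Q], Subgroup Q) (hW : IsCharPFunctor.{u} p W)
    (C : ∀ (X : Type u) [Group X], Prop)
    (hCsub : ∀ (X : Type u) [Group X] (Y : Subgroup X), C X → C ↥Y)
    (hCquot : ∀ (X : Type u) [Group X] (N : Subgroup X) [N.Normal], C X → C (X ⧸ N))
    (hloc : ∀ (X : Type u) [Group X] [Finite X], C X →
      Subgroup.centralizer (pCore p X : Set X) ≤ pCore p X →
      HasNormalPComplement p (X ⧸ pCore p X) →
      ∀ T : Sylow p X, IsCoatom (T : Subgroup X) →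
        (inducedFunctor W (T : Subgroup X)).Normal) :
    ∀ n : ℕ, ∀ (X : Type u) [Group X] [Finite X], C X → Nat.card X = n → ∀ T : Sylow p X,
      HasNormalPComplement p
        ↥(Subgroup.normalizer (inducedFunctor W (T : Subgroup X) : Set X)) →
      HasNormalPComplement p X := by
  intro n
  induction n using Nat.strong_induction_on with
  | _ n ih =>
  intro X _ _ hCX hn T hNT
  by_contra hno
  have hp' := hp.out
  -- (0) the hypothesis holds for all Sylow subgroups
  have hNT' : ∀ T' : Sylow p X, HasNormalPComplement p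
      ↥(Subgroup.normalizer (inducedFunctor W (T' : Subgroup X) : Set X)) := by
    intro T'
    obtain ⟨g, hg⟩ := MulAction.exists_smul_eq X T T'
    have h1 : (T' : Subgroup X) = (T : Subgroup X).map (MulAut.conj g).toMonoidHom := by
      rw [← hg]; rfl
    have h2 : inducedFunctor W (T' : Subgroup X) =
        (inducedFunctor W (T : Subgroup X)).map (MulAut.conj g).toMonoidHom := by
      rw [h1]
      apply inducedFunctor_map W hW _ _ T.2
      have : (MulAut.conj g).toMonoidHom.ker = ⊥ :=
        (MonoidHom.ker_eq_bot_iff _).mpr (MulAut.conj g).injective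
      rw [this, inf_bot_eq]
    rw [h2, ← Subgroup.map_equiv_normalizer_eq]
    exact hasNPC_of_mulEquiv
      (Subgroup.equivMapOfInjective _ _ (MulAut.conj g).injective) hNT
  -- (1) the family ℋ
  obtain ⟨ℋ, hℋ⟩ : ∃ ℋ : Set (Subgroup X), ℋ = {Q : Subgroup X | IsPGroup p Q ∧ Q ≠ ⊥ ∧
      ¬ HasNormalPComplement p ↥(Subgroup.normalizer (Q : Set X))} := ⟨_, rfl⟩
  have hmemℋ : ∀ Q : Subgroup X, Q ∈ ℋ ↔ (IsPGroup p Q ∧ Q ≠ ⊥ ∧
      ¬ HasNormalPComplement p ↥(Subgroup.normalizer (Q : Set X))) := by
    intro Q; rw [hℋ]; rfl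
  have hex : ℋ.Nonempty := by
    by_contra hcon
    rw [Set.not_nonempty_iff_eq_empty] at hcon
    apply hno
    rw [Cfsg.Agent.S0072.result p]
    intro Q hQ hQ1
    by_contra hc
    have : Q ∈ ℋ := (hmemℋ Q).mpr ⟨hQ, hQ1, hc⟩
    rw [hcon] at this
    exact this
  obtain ⟨e, he⟩ : ∃ e : Subgroup X → ℕ, e = fun Q : Subgroup X =>
      (Nat.card ↥(Subgroup.normalizer (Q : Set X))).factorization p := ⟨_, rfl⟩
  obtain ⟨H, hHℋ, hHmax⟩ := Set.exists_max_image ℋ
    (fun Q => e Q * (Nat.card X + 1) + Nat.card Q) (Set.toFinite ℋ) hex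
  have hcardle : ∀ Q : Subgroup X, Nat.card Q ≤ Nat.card X := fun Q => Subgroup.card_le_card_group Q
  have hmax1 : ∀ Q ∈ ℋ, e Q ≤ e H := by
    intro Q hQ
    by_contra hlt
    rw [not_le] at hlt
    have h1 : e Q * (Nat.card X + 1) + Nat.card Q ≤ e H * (Nat.card X + 1) + Nat.card H :=
      hHmax Q hQ
    have h2 := hcardle H
    have h3 : (e H + 1) * (Nat.card X + 1) ≤ e Q * (Nat.card X + 1) :=
      Nat.mul_le_mul_right _ hlt
    nlinarith
  have hmax2 : ∀ Q ∈ ℋ, e Q = e H → Nat.card Q ≤ Nat.card H := by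
    intro Q hQ heq
    have h1 : e Q * (Nat.card X + 1) + Nat.card Q ≤ e H * (Nat.card X + 1) + Nat.card H :=
      hHmax Q hQ
    rw [heq] at h1
    omega
  obtain ⟨hHp, hH1, hHN⟩ := (hmemℋ H).mp hHℋ
  -- (2) `H` is normal
  have hNtop : Subgroup.normalizer (H : Set X) = ⊤ := by
    by_contra hne
    obtain ⟨N, hN⟩ : ∃ N : Subgroup X, N = Subgroup.normalizer (H : Set X) := ⟨_, rfl⟩
    rw [← hN] at hne hHN
    have hNlt : Nat.card ↥N < n := by
      rw [← hn, ← Subgroup.card_top (G := X)]
      exact card_lt_of_lt (lt_top_iff_ne_top.mpr hne)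
    obtain ⟨R⟩ : Nonempty (Sylow p ↥N) := inferInstance
    have h1 : ¬ HasNormalPComplement p
        ↥(Subgroup.normalizer (inducedFunctor W (R : Subgroup ↥N) : Set ↥N)) :=
      fun h => hHN (ih _ hNlt ↥N (hCsub X N hCX) rfl R h)
    obtain ⟨R', hR'⟩ : ∃ R' : Subgroup X, R' = (R : Subgroup ↥N).map N.subtype := ⟨_, rfl⟩
    have hR'p : IsPGroup p R' := by rw [hR']; exact R.2.map _
    have hR'N : R' ≤ N := by rw [hR']; exact Subgroup.map_subtype_le _
    have hWR' : inducedFunctor W R' = (inducedFunctor W (R : Subgroup ↥N)).map N.subtype := by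
      rw [hR']
      apply inducedFunctor_map W hW N.subtype _ R.2
      rw [Subgroup.ker_subtype, inf_bot_eq]
    have hHR' : H ≤ R' := by
      have hHsn : (H.subgroupOf N).Normal := by
        rw [hN]; exact Subgroup.normal_in_normalizer
      have h2 : H.subgroupOf N ≤ (R : Subgroup ↥N) :=
        normal_pGroup_le_sylow hHsn hHp.comap_subtype R
      intro x hx
      have hxN : x ∈ N := by rw [hN]; exact Subgroup.le_normalizer hx
      rw [hR']
      exact ⟨⟨x, hxN⟩, h2 (Subgroup.mem_subgroupOf.mpr hx), rfl⟩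
    have hR'ne : R' ≠ ⊥ := fun h => hH1 (le_bot_iff.mp (h ▸ hHR'))
    have h2 : ¬ HasNormalPComplement p
        ↥(Subgroup.normalizer (inducedFunctor W R' : Set X)) := by
      intro h
      apply h1
      let f : ↥(Subgroup.normalizer (inducedFunctor W (R : Subgroup ↥N) : Set ↥N)) →*
          ↥(Subgroup.normalizer (inducedFunctor W R' : Set X)) :=
        (N.subtype.comp (Subgroup.subtype _)).codRestrict _ (by
          intro x
          rw [hWR']
          exact Subgroup.le_normalizer_map _ ⟨x, x.2, rfl⟩)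
      refine hasNPC_of_injective f ?_ h
      intro x y hxy
      have h3 : ((f x : _) : X) = ((f y : _) : X) := congrArg Subtype.val hxy
      exact Subtype.ext (Subtype.ext h3)
    have hWR'ℋ : inducedFunctor W R' ∈ ℋ :=
      (hmemℋ _).mpr ⟨hR'p.to_le (inducedFunctor_le W R'),
        inducedFunctor_ne_bot W hW R' hR'p hR'ne, h2⟩
    obtain ⟨T', hT'⟩ := hR'p.exists_le_sylow
    -- |R'| is the p-part of |N|
    have hR'card : Nat.card R' = p ^ e H := by
      rw [hR', Subgroup.card_map_of_injective N.subtype_injective,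
        R.card_eq_multiplicity, he, hN]
    by_cases hRT : R' = (T' : Subgroup X)
    · apply h2
      rw [hRT]
      exact hNT' T'
    · have hlt : R' < (T' : Subgroup X) := lt_of_le_of_ne hT' hRT
      have hgrow := lt_normalizer_inf_of_isPGroup T'.2 hlt
      have h3 : Subgroup.normalizer (R' : Set X) ⊓ (T' : Subgroup X) ≤
          Subgroup.normalizer (inducedFunctor W R' : Set X) :=
        inf_le_left.trans (normalizer_le_normalizer_inducedFunctor W hW R' hR'p)
      have h4 : Nat.card ↥(Subgroup.normalizer (R' : Set X) ⊓ (T' : Subgroup X)) ≤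
          p ^ e (inducedFunctor W R') := by
        rw [he]
        exact card_pGroup_le_pow_factorization (T'.2.to_le inf_le_right) h3
      have h5 := card_lt_of_lt hgrow
      rw [hR'card] at h5
      have h6 : e H < e (inducedFunctor W R') :=
        (Nat.pow_lt_pow_iff_right hp'.one_lt).mp (lt_of_lt_of_le h5 h4)
      exact absurd (hmax1 _ hWR'ℋ) (not_le.mpr h6)
  have hHn : H.Normal := Subgroup.normalizer_eq_top_iff.mp hNtop
  -- (2') `H = O_p(X)`
  have heH : e H = (Nat.card X).factorization p := by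
    rw [he]; simp only; rw [hNtop, Subgroup.card_top]
  have hHeq : H = pCore p X := by
    have hHle : H ≤ pCore p X := le_pCore hHn hHp
    have hOℋ : pCore p X ∈ ℋ := by
      refine (hmemℋ _).mpr ⟨pCore_isPGroup p X, fun h => hH1 (le_bot_iff.mp (h ▸ hHle)), ?_⟩
      rw [Subgroup.normalizer_eq_top]
      intro h
      exact hno (hasNPC_top_iff.mp h)
    have heO : e (pCore p X) = e H := by
      rw [heH, he]; simp only; rw [Subgroup.normalizer_eq_top, Subgroup.card_top]
    exact Subgroup.eq_of_le_of_card_ge hHle (hmax2 _ hOℋ heO)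
  subst hHeq
  -- (K1) larger `p`-subgroups normalized by a Sylow subgroup have `p`-nilpotent normalizers
  have hK1 : ∀ L : Subgroup X, IsPGroup p L → pCore p X < L → ∀ T' : Sylow p X,
      (T' : Subgroup X) ≤ Subgroup.normalizer (L : Set X) →
      HasNormalPComplement p ↥(Subgroup.normalizer (L : Set X)) := by
    intro L hLp hlt T' hT'
    by_contra hc
    have hLℋ : L ∈ ℋ := (hmemℋ L).mpr ⟨hLp, fun h => by
      rw [h] at hlt; exact not_lt_bot hlt, hc⟩
    have heL : e L = e (pCore p X) := by
      rw [heH, he]; simp only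
      exact factorization_card_eq_of_sylow_le T' hT'
    exact absurd (hmax2 L hLℋ heL) (not_le.mpr (card_lt_of_lt hlt))
  have hHT : pCore p X ≤ (T : Subgroup X) := pCore_le_sylow T
  have hHcard : 1 < Nat.card ↥(pCore p X) := by
    rw [Finite.one_lt_card_iff_nontrivial]
    exact (Subgroup.nontrivial_iff_ne_bot _).mpr hH1
  have hquotlt : Nat.card (X ⧸ pCore p X) < n := by
    rw [← hn, ← Subgroup.card_mul_index (pCore p X), Subgroup.index_eq_card]
    have : 0 < Nat.card (X ⧸ pCore p X) := Nat.card_pos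
    nlinarith
  -- (3) `X / O_p(X)` has a normal `p`-complement
  have hquot : HasNormalPComplement p (X ⧸ pCore p X) := by
    have hsurj := QuotientGroup.mk'_surjective (pCore p X)
    obtain ⟨Tb, hTb⟩ : ∃ Tb : Sylow p (X ⧸ pCore p X), (Tb : Subgroup (X ⧸ pCore p X)) =
        (T : Subgroup X).map (QuotientGroup.mk' (pCore p X)) :=
      ⟨T.mapSurjective hsurj, rfl⟩
    by_cases hTb1 : (Tb : Subgroup (X ⧸ pCore p X)) = ⊥
    · apply hasNPC_of_coprime_card
      rw [Nat.coprime_comm, Nat.Prime.coprime_iff_not_dvd hp']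
      intro hdvd
      have h1 := Tb.card_eq_multiplicity
      rw [hTb1, Subgroup.card_bot] at h1
      have h2 : 1 ≤ (Nat.card (X ⧸ pCore p X)).factorization p :=
        (hp'.pow_dvd_iff_le_factorization Nat.card_pos.ne').mp (by rwa [pow_one])
      have h3 : p ^ 1 ≤ p ^ (Nat.card (X ⧸ pCore p X)).factorization p :=
        Nat.pow_le_pow_right hp'.pos h2
      rw [← h1, pow_one] at h3
      exact absurd h3 (not_le.mpr hp'.one_lt)
    · apply ih _ hquotlt (X ⧸ pCore p X) (hCquot X (pCore p X) hCX) rfl Tb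
      obtain ⟨Wb, hWb⟩ : ∃ Wb, Wb = inducedFunctor W (Tb : Subgroup (X ⧸ pCore p X)) := ⟨_, rfl⟩
      rw [← hWb]
      have hWbne : Wb ≠ ⊥ := by rw [hWb]; exact inducedFunctor_ne_bot W hW _ Tb.2 hTb1
      have hWbT : Wb ≤ (Tb : Subgroup (X ⧸ pCore p X)) := by rw [hWb]; exact inducedFunctor_le W _
      obtain ⟨L, hL⟩ : ∃ L, L = Wb.comap (QuotientGroup.mk' (pCore p X)) := ⟨_, rfl⟩
      have hLT : L ≤ (T : Subgroup X) := by
        intro x hx
        rw [hL, Subgroup.mem_comap] at hx
        have h1 := hWbT hx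
        rw [hTb] at h1
        obtain ⟨t, ht, hxt⟩ := h1
        have h2 : t⁻¹ * x ∈ pCore p X := by
          rw [← QuotientGroup.eq_one_iff, QuotientGroup.mk_mul, QuotientGroup.mk_inv]
          have : (QuotientGroup.mk t : X ⧸ pCore p X) = QuotientGroup.mk x := hxt
          rw [this, inv_mul_cancel]
        have h3 := mul_mem ht (hHT h2)
        rwa [mul_inv_cancel_left] at h3
      have hHL : pCore p X < L := by
        refine lt_of_le_of_ne ?_ ?_
        · rw [hL]
          intro x hx
          rw [Subgroup.mem_comap, QuotientGroup.mk'_apply, (QuotientGroup.eq_one_iff x).mpr hx]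
          exact Subgroup.one_mem _
        · intro heq
          apply hWbne
          rw [← Subgroup.map_comap_eq_self_of_surjective hsurj Wb, ← hL, ← heq, eq_bot_iff]
          rintro _ ⟨x, hx, rfl⟩
          rw [Subgroup.mem_bot, QuotientGroup.mk'_apply, QuotientGroup.eq_one_iff]
          exact hx
      have hnormeq : Subgroup.normalizer (L : Set X) =
          (Subgroup.normalizer (Wb : Set (X ⧸ pCore p X))).comap (QuotientGroup.mk' (pCore p X)) := by
        rw [hL]; exact (Subgroup.comap_normalizer_eq_of_surjective _ hsurj).symm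
      have hTN : (T : Subgroup X) ≤ Subgroup.normalizer (L : Set X) := by
        rw [hnormeq]
        intro t ht
        rw [Subgroup.mem_comap, hWb]
        apply normalizer_le_normalizer_inducedFunctor W hW _ Tb.2
        apply Subgroup.le_normalizer
        rw [hTb]
        exact Subgroup.mem_map_of_mem _ ht
      have hNL := hK1 L (T.2.to_le hLT) hHL T hTN
      rw [hnormeq] at hNL
      exact hasNPC_of_surjective
        ((QuotientGroup.mk' (pCore p X)).subgroupComap (Subgroup.normalizer (Wb : Set _)))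
        (MonoidHom.subgroupComap_surjective_of_surjective _ _ hsurj) hNL
  -- (4) `O_{p'}(X) = 1`
  have hO : pPrimeCore p X = ⊥ := by
    by_contra hne
    haveI hKn : (pPrimeCore p X).Normal := Cfsg.Agent.Lib.Helper55.pPrimeCore_normal' p
    have hKcop : (Nat.card (pPrimeCore p X)).Coprime p :=
      Cfsg.Agent.Lib.Helper55.pPrimeCore_card_coprime p
    apply hno
    apply hasNPC_of_quotient (pPrimeCore p X) hKcop
    have hKcard : 1 < Nat.card ↥(pPrimeCore p X) := by
      rw [Finite.one_lt_card_iff_nontrivial]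
      exact (Subgroup.nontrivial_iff_ne_bot _).mpr hne
    have hlt : Nat.card (X ⧸ pPrimeCore p X) < n := by
      rw [← hn, ← Subgroup.card_mul_index (pPrimeCore p X), Subgroup.index_eq_card]
      have : 0 < Nat.card (X ⧸ pPrimeCore p X) := Nat.card_pos
      nlinarith
    have hsurj := QuotientGroup.mk'_surjective (pPrimeCore p X)
    have hker : (Nat.card (QuotientGroup.mk' (pPrimeCore p X)).ker).Coprime p := by
      rw [QuotientGroup.ker_mk']; exact hKcop
    obtain ⟨Tb, hTb⟩ : ∃ Tb : Sylow p (X ⧸ pPrimeCore p X),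
        (Tb : Subgroup (X ⧸ pPrimeCore p X)) =
        (T : Subgroup X).map (QuotientGroup.mk' (pPrimeCore p X)) :=
      ⟨T.mapSurjective hsurj, rfl⟩
    apply ih _ hlt (X ⧸ pPrimeCore p X) (hCquot X (pPrimeCore p X) hCX) rfl Tb
    have hWTb : inducedFunctor W (Tb : Subgroup (X ⧸ pPrimeCore p X)) =
        (inducedFunctor W (T : Subgroup X)).map (QuotientGroup.mk' (pPrimeCore p X)) := by
      rw [hTb]
      apply inducedFunctor_map W hW _ _ T.2
      exact inf_ker_eq_bot_of_isPGroup p _ hker T.2
    rw [hWTb]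
    exact hasNPC_of_surjective (normalizerMap (QuotientGroup.mk' (pPrimeCore p X)) _)
      (normalizerMap_surjective p _ hsurj hker _ (T.2.to_le (inducedFunctor_le W _))) hNT
  -- (5) `C_X(O_p(X)) ≤ O_p(X)`
  have hcent : Subgroup.centralizer (pCore p X : Set X) ≤ pCore p X :=
    Cfsg.Agent.Lib.Helper76.centralizer_pCore_le_of_isPSolvable
      (isPSolvable_of_npc_quotient (pCore p X) hHp hquot) hO
  -- (6) `T` is a maximal subgroup
  have hTne : (T : Subgroup X) ≠ ⊤ := by
    intro h
    apply hno
    apply hasNPC_of_isPGroup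
    intro x
    obtain ⟨k, hk⟩ := T.2 ⟨x, h ▸ Subgroup.mem_top x⟩
    exact ⟨k, congrArg Subtype.val hk⟩
  have hcoatom : IsCoatom (T : Subgroup X) := by
    refine ⟨hTne, ?_⟩
    intro Y hTY
    by_contra hYtop
    have hYlt : Nat.card ↥Y < n := by
      rw [← hn, ← Subgroup.card_top (G := X)]
      exact card_lt_of_lt (lt_top_iff_ne_top.mpr hYtop)
    -- the Sylow subgroup of `Y` coming from `T`
    obtain ⟨TY, hTY'⟩ : ∃ TY : Sylow p ↥Y, (TY : Subgroup ↥Y) = (T : Subgroup X).subgroupOf Y :=
      ⟨T.subtype hTY.le, rfl⟩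
    have hmapTY : (TY : Subgroup ↥Y).map Y.subtype = (T : Subgroup X) := by
      rw [hTY', Subgroup.map_subgroupOf_eq_of_le hTY.le]
    have hWTY : inducedFunctor W (T : Subgroup X) =
        (inducedFunctor W (TY : Subgroup ↥Y)).map Y.subtype := by
      rw [← hmapTY]
      apply inducedFunctor_map W hW Y.subtype _ TY.2
      rw [Subgroup.ker_subtype, inf_bot_eq]
    have hNY : HasNormalPComplement p
        ↥(Subgroup.normalizer (inducedFunctor W (TY : Subgroup ↥Y) : Set ↥Y)) := by
      let f : ↥(Subgroup.normalizer (inducedFunctor W (TY : Subgroup ↥Y) : Set ↥Y)) →*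
          ↥(Subgroup.normalizer (inducedFunctor W (T : Subgroup X) : Set X)) :=
        (Y.subtype.comp (Subgroup.subtype _)).codRestrict _ (by
          intro x
          rw [hWTY]
          exact Subgroup.le_normalizer_map _ ⟨x, x.2, rfl⟩)
      refine hasNPC_of_injective f ?_ hNT
      intro x y hxy
      have h3 : ((f x : _) : X) = ((f y : _) : X) := congrArg Subtype.val hxy
      exact Subtype.ext (Subtype.ext h3)
    have hYnpc := ih _ hYlt ↥Y (hCsub X Y hCX) rfl TY hNY
    obtain ⟨K, hK⟩ := exists_wit_of_hasNPC hYnpc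
    -- `K` centralizes `O_p(X)`
    have hHY : pCore p X ≤ Y := hHT.trans hTY.le
    have hHYn : ((pCore p X).subgroupOf Y).Normal := Subgroup.Normal.subgroupOf hHn Y
    have hKc := hK.le_centralizer hHYn hHp.comap_subtype
    have hKbot : K = ⊥ := by
      rw [eq_bot_iff]
      intro k hk
      have h1 : (k : X) ∈ Subgroup.centralizer (pCore p X : Set X) := by
        rw [Subgroup.mem_centralizer_iff]
        intro h hh
        have := (Subgroup.mem_centralizer_iff.mp (hKc hk)) ⟨h, hHY hh⟩
          (Subgroup.mem_subgroupOf.mpr hh)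
        exact congrArg Subtype.val this
      have h2 : (k : X) ∈ pCore p X := hcent h1
      have h3 := hK.2.1 k hk
      obtain ⟨j, hj⟩ := (IsPGroup.iff_orderOf.mp hHp) ⟨(k : X), h2⟩
      rw [Subgroup.orderOf_mk, Subgroup.orderOf_coe] at hj
      rw [hj] at h3
      have hj0 : j = 0 := by
        by_contra hj0
        have h5 : p.Coprime p := Nat.Coprime.coprime_dvd_left (dvd_pow_self p hj0) h3
        exact hp'.one_lt.ne' ((Nat.coprime_self p).mp h5)
      rw [hj0, pow_zero] at hj
      exact Subgroup.mem_bot.mpr (orderOf_eq_one_iff.mp hj)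
    -- so `Y` is a `p`-group
    have hYp : IsPGroup p ↥Y := by
      intro y
      obtain ⟨k, hk⟩ := hK.2.2 y
      rw [hKbot, Subgroup.mem_bot] at hk
      exact ⟨k, hk⟩
    have hYT : Y = (T : Subgroup X) := T.is_maximal' hYp hTY.le
    exact absurd hYT.symm hTY.ne
  -- (7) conclusion
  have hWn := hloc X hCX hcent hquot T hcoatom
  apply hno
  rw [← hasNPC_top_iff, ← Subgroup.normalizer_eq_top_iff.mpr hWn]
  exact hNT

end main

end Cfsg.Agent.Lib.Helper11
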