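import Cfsg.Agent.Lib.Helper11.ZJ

set_option autoImplicit false
open Cfsg

/-!
# `zQ` under a homomorphism that is injective on `P`.
-/

namespace Cfsg.Agent.Lib.Helper11

variable {G H : Type*} [Group G] [Group H]

theorem card_map_of_injOn (ι : G →* H) (P Y : Subgroup G) (hinj : ∀ x ∈ P, ι x = 1 → x = 1)
    (hY : Y ≤ P) : Nat.card (Y.map ι) = Nat.card Y := by
  symm
  apply Nat.card_congr
  refine Equiv.ofBijective (fun y : Y => (⟨ι y, Subgroup.mem_map_of_mem ι y.2⟩ : Y.map ι)) ⟨?_, ?_⟩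
  · intro y₁ y₂ h
    have h1 : ι (y₁ : G) = ι (y₂ : G) := congrArg Subtype.val h
    have h2 : ι ((y₁ : G)⁻¹ * (y₂ : G)) = 1 := by
      rw [map_mul, map_inv, h1, inv_mul_cancel]
    have h3 := hinj _ (hY (Y.mul_mem (Y.inv_mem y₁.2) y₂.2)) h2
    exact Subtype.ext (inv_mul_eq_one.mp h3)
  · rintro ⟨_, y, hy, rfl⟩
    exact ⟨⟨y, hy⟩, rfl⟩

theorem map_comap_inf_eq (ι : G →* H) (P : Subgroup G) (Y' : Subgroup H) (hY' : Y' ≤ P.map ι) :
    (Y'.comap ι ⊓ P).map ι = Y' := by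
  ext w
  constructor
  · rintro ⟨y, hy, rfl⟩
    exact (Subgroup.mem_inf.mp hy).1
  · intro hw
    obtain ⟨y, hy, rfl⟩ := hY' hw
    exact ⟨y, Subgroup.mem_inf.mpr ⟨hw, hy⟩, rfl⟩

/-- `zQ` commutes with a homomorphism injective on `P`, for compatible predicates. -/
theorem zQ_map_of_injOn [Finite G] (ι : G →* H) (P : Subgroup G)
    (hinj : ∀ x ∈ P, ι x = 1 → x = 1) (QG : Subgroup G → Prop) (QH : Subgroup H → Prop)
    (hbot : QG ⊥)
    (h1 : ∀ X : Subgroup G, X ≤ P → QG X → QH (X.map ι))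
    (h2 : ∀ X : Subgroup G, X ≤ P → QH (X.map ι) → QG X) :
    zQ QH (P.map ι) = (zQ QG P).map ι := by
  have C4 : ∀ X ∈ famQ QG P, X.map ι ∈ famQ QH (P.map ι) := by
    rintro X ⟨hXP, hQX, hmax⟩
    refine ⟨Subgroup.map_mono hXP, h1 X hXP hQX, ?_⟩
    intro Y' hY' hQY'
    have hmapY := map_comap_inf_eq ι P Y' hY'
    have hYP : Y'.comap ι ⊓ P ≤ P := inf_le_right
    have hQY : QG (Y'.comap ι ⊓ P) := h2 _ hYP (by rw [hmapY]; exact hQY')
    have := hmax _ hYP hQY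
    rw [← hmapY, card_map_of_injOn ι P _ hinj hYP, card_map_of_injOn ι P X hinj hXP]
    exact this
  have C5 : ∀ X' ∈ famQ QH (P.map ι), ∃ X ∈ famQ QG P, X.map ι = X' := by
    rintro X' ⟨hX'P, hQX', hmax⟩
    have hmapX := map_comap_inf_eq ι P X' hX'P
    have hXP : X'.comap ι ⊓ P ≤ P := inf_le_right
    refine ⟨X'.comap ι ⊓ P, ⟨hXP, h2 _ hXP (by rw [hmapX]; exact hQX'), ?_⟩, hmapX⟩
    intro Y hYP hQY
    have := hmax (Y.map ι) (Subgroup.map_mono hYP) (h1 Y hYP hQY)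
    rw [← hmapX, card_map_of_injOn ι P _ hinj hXP, card_map_of_injOn ι P Y hinj hYP] at this
    exact this
  ext w
  constructor
  · intro hw
    obtain ⟨X₀, hX₀⟩ := famQ_nonempty hbot P
    obtain ⟨z₀, hz₀, rfl⟩ := (mem_zQ.mp hw) _ (C4 X₀ hX₀)
    refine ⟨z₀, ?_, rfl⟩
    rw [SetLike.mem_coe, mem_zQ]
    intro X hX
    obtain ⟨z, hz, hzz⟩ := (mem_zQ.mp hw) _ (C4 X hX)
    have h3 : ι (z⁻¹ * z₀) = 1 := by rw [map_mul, map_inv, hzz, inv_mul_cancel]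
    have h4 := hinj _ (P.mul_mem (P.inv_mem (hX.1 hz)) (hX₀.1 hz₀)) h3
    have : z = z₀ := inv_mul_eq_one.mp h4
    rwa [← this]
  · rintro ⟨z, hz, rfl⟩
    rw [mem_zQ]
    intro X' hX'
    obtain ⟨X, hX, rfl⟩ := C5 X' hX'
    exact Subgroup.mem_map_of_mem ι ((mem_zQ.mp hz) X hX)

end Cfsg.Agent.Lib.Helper11
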