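import Cfsg.Agent.Lib.Helper22.CgDefs

set_option autoImplicit false

namespace Cfsg.Agent.Lib.Helper22.Cg

open Subgroup

universe u

theorem cg0_centralizer_conj {G : Type u} [Group G] (x k : G) :
    centralizer ({k * x * k⁻¹} : Set G) =
      (centralizer ({x} : Set G)).map ((MulAut.conj k : G ≃* G) : G →* G) := by
  ext y
  rw [mem_centralizer_singleton_iff, Subgroup.mem_map]
  constructor
  · intro hy
    refine ⟨k⁻¹ * y * k, ?_, ?_⟩
    · rw [mem_centralizer_singleton_iff]
      have h1 : k⁻¹ * (y * (k * x * k⁻¹)) * k = k⁻¹ * ((k * x * k⁻¹) * y) * k := by rw [hy]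
      calc k⁻¹ * y * k * x = k⁻¹ * (y * (k * x * k⁻¹)) * k := by group
        _ = k⁻¹ * ((k * x * k⁻¹) * y) * k := h1
        _ = x * (k⁻¹ * y * k) := by group
    · show k * (k⁻¹ * y * k) * k⁻¹ = y
      group
  · rintro ⟨z, hz, rfl⟩
    rw [mem_centralizer_singleton_iff] at hz
    show k * z * k⁻¹ * (k * x * k⁻¹) = k * x * k⁻¹ * (k * z * k⁻¹)
    calc k * z * k⁻¹ * (k * x * k⁻¹) = k * (z * x) * k⁻¹ := by group
      _ = k * (x * z) * k⁻¹ := by rw [hz]
      _ = k * x * k⁻¹ * (k * z * k⁻¹) := by group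

/-- CG0. class size is conjugation invariant. -/
theorem cg0 {G : Type u} [Group G] (x k : G) : cs (k * x * k⁻¹) = cs x := by
  unfold cs
  rw [cg0_centralizer_conj, index_map_equiv]

end Cfsg.Agent.Lib.Helper22.Cg
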