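import Cfsg.Agent.Lib.Helper11.QuadRing
import Cfsg.Agent.Lib.Helper11.Quad
import Cfsg.Prelude.Def_Transfer

set_option autoImplicit false
set_option linter.unusedSectionVars false
set_option linter.style.haveILetI false
open Cfsg

/-!
# Quadratic action and abelian `p'`-groups

If `a` acts quadratically on an elementary abelian `p`-group `U` (`p` odd) and normalizes a group `M`
acting on `U` as an abelian `p'`-group, then `[M, a]` acts trivially on `U`.
-/

namespace Cfsg.Agent.Lib.Helper11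

open scoped commutatorElement

section abstract

variable {X : Type*} [Group X] {𝕌 : Type*} [AddCommGroup 𝕌]

/-- abstract (module) form -/
theorem rho_commutator_eq_one {p : ℕ} [hp : Fact p.Prime] (hp2 : p ≠ 2)
    (hpU : ∀ u : 𝕌, p • u = 0) (ρ : X →* AddMonoid.End 𝕌) (M : Subgroup X) [hMn : M.Normal]
    (hab : ∀ m₁ ∈ M, ∀ m₂ ∈ M, ρ ⁅m₁, m₂⁆ = 1) (K : ℕ) (hK : K.Coprime p)
    (hMK : ∀ m ∈ M, ρ (m ^ K) = 1) (a : X) (ha : (ρ a - 1) * (ρ a - 1) = 0) :
    ∀ m ∈ M, ρ ⁅m, a⁆ = 1 := by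
  rcases subsingleton_or_nontrivial 𝕌 with hsub | hnt
  · intro m _
    apply AddMonoidHom.ext
    intro u
    exact Subsingleton.elim _ _
  -- characteristic `p`
  have hnE : Nontrivial (AddMonoid.End 𝕌) := by
    obtain ⟨u, hu⟩ := exists_ne (0 : 𝕌)
    refine ⟨⟨1, 0, fun h => hu ?_⟩⟩
    have := DFunLike.congr_fun h u
    simpa using this
  have hp0 : ((p : ℕ) : AddMonoid.End 𝕌) = 0 := by
    refine DFunLike.ext _ _ (fun u => ?_)
    have h1 : ((p : ℕ) : AddMonoid.End 𝕌) u = p • u := AddMonoid.End.natCast_apply p u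
    exact h1.trans (hpU u)
  haveI : CharP (AddMonoid.End 𝕌) p := (CharP.charP_iff_prime_eq_zero hp.out).mpr hp0
  -- the exponent
  have hKpos : 0 < K := by
    rcases Nat.eq_zero_or_pos K with h0 | h
    · rw [h0, Nat.coprime_zero_left] at hK
      exact absurd hK hp.out.one_lt.ne'
    · exact h
  obtain ⟨n, hn⟩ : ∃ n, n = Nat.totient K := ⟨_, rfl⟩
  have hn1 : 1 ≤ n := by rw [hn]; exact Nat.totient_pos.mpr hKpos
  have hmod : p ^ n ≡ 1 [MOD K] := by rw [hn]; exact Nat.ModEq.pow_totient hK.symm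
  have hpn1 : 1 ≤ p ^ n := Nat.one_le_pow _ _ hp.out.pos
  obtain ⟨t, ht⟩ : K ∣ p ^ n - 1 := (Nat.modEq_iff_dvd' hpn1).mp hmod.symm
  have hpn : p ^ n = 1 + K * t := by omega
  -- the set `S`
  obtain ⟨S, hS⟩ : ∃ S : Set (AddMonoid.End 𝕌), S = {s | ∃ m ∈ M, ρ m = s} := ⟨_, rfl⟩
  have hScomm : ∀ x ∈ S, ∀ y ∈ S, Commute x y := by
    rw [hS]
    rintro _ ⟨m₁, hm₁, rfl⟩ _ ⟨m₂, hm₂, rfl⟩
    have h1 := hab m₁ hm₁ m₂ hm₂
    have h2 : m₁ * m₂ = ⁅m₁, m₂⁆ * (m₂ * m₁) := by rw [commutatorElement_def]; group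
    change ρ m₁ * ρ m₂ = ρ m₂ * ρ m₁
    rw [← map_mul, ← map_mul, h2, map_mul, h1, one_mul]
  have hSq : ∀ s ∈ S, s ^ (p ^ n) = s := by
    rw [hS]
    rintro _ ⟨m, hm, rfl⟩
    rw [hpn, pow_add, pow_one, pow_mul, ← map_pow ρ m K, hMK m hm, one_pow, mul_one]
  have hinv : (2 : AddMonoid.End 𝕌) - ρ a = ρ a⁻¹ := by
    have h1 : ρ a * (2 - ρ a) = 1 := by
      have : ρ a * (2 - ρ a) = 1 - (ρ a - 1) * (ρ a - 1) := by noncomm_ring
      rw [this, ha, sub_zero]
    calc (2 : AddMonoid.End 𝕌) - ρ a = ρ a⁻¹ * ρ a * (2 - ρ a) := by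
          rw [← map_mul, inv_mul_cancel, map_one, one_mul]
      _ = ρ a⁻¹ := by rw [mul_assoc, h1, mul_one]
  have hSconj : ∀ s ∈ S, ρ a * s * (2 - ρ a) ∈ S := by
    rw [hS]
    rintro _ ⟨m, hm, rfl⟩
    refine ⟨a * m * a⁻¹, hMn.conj_mem m hm a, ?_⟩
    rw [hinv, map_mul, map_mul]
  have hkey := quad_commute hp2 (ρ a) ha S hScomm n hn1 hSq hSconj
  intro m hm
  have h1 : Commute (ρ a) (ρ m) := hkey (ρ m) (by rw [hS]; exact ⟨m, hm, rfl⟩)
  have h2 : ⁅m, a⁆ * (a * m) = m * a := by rw [commutatorElement_def]; group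
  have h3 : ρ ⁅m, a⁆ * (ρ a * ρ m) = ρ m * ρ a := by
    rw [← map_mul, ← map_mul, h2, map_mul]
  rw [h1.eq] at h3
  -- cancel the unit `ρ m * ρ a`
  have h4 : ρ m * ρ a * ρ (m * a)⁻¹ = 1 := by
    rw [← map_mul, ← map_mul, mul_inv_cancel, map_one]
  calc ρ ⁅m, a⁆ = ρ ⁅m, a⁆ * (ρ m * ρ a * ρ (m * a)⁻¹) := by rw [h4, mul_one]
    _ = ρ ⁅m, a⁆ * (ρ m * ρ a) * ρ (m * a)⁻¹ := by noncomm_ring
    _ = ρ m * ρ a * ρ (m * a)⁻¹ := by rw [h3]
    _ = 1 := h4

end abstract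

section mulaut

variable {X : Type*} [Group X] {U : Type*} [CommGroup U]

/-- the additive endomorphism-ring representation attached to an action by automorphisms -/
def rhoOfMulAut (φ : X →* MulAut U) : X →* AddMonoid.End (Additive U) where
  toFun g := MonoidHom.toAdditive (φ g).toMonoidHom
  map_one' := by
    rw [map_one]; rfl
  map_mul' g h := by
    rw [map_mul]; rfl

theorem rhoOfMulAut_apply (φ : X →* MulAut U) (g : X) (u : Additive U) :
    rhoOfMulAut φ g u = Additive.ofMul (φ g (Additive.toMul u)) := rfl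

/-- `MulAut` form of `rho_commutator_eq_one`. -/
theorem mulAut_commutator_eq_one {p : ℕ} [hp : Fact p.Prime] (hp2 : p ≠ 2)
    (hpU : ∀ u : U, u ^ p = 1) (φ : X →* MulAut U) (M : Subgroup X) [hMn : M.Normal]
    (hab : ∀ m₁ ∈ M, ∀ m₂ ∈ M, φ ⁅m₁, m₂⁆ = 1) (K : ℕ) (hK : K.Coprime p)
    (hMK : ∀ m ∈ M, φ (m ^ K) = 1) (a : X)
    (ha : ∀ u : U, φ a (φ a u * u⁻¹) = φ a u * u⁻¹) :
    ∀ m ∈ M, φ ⁅m, a⁆ = 1 := by
  have hone : ∀ g : X, φ g = 1 → rhoOfMulAut φ g = 1 := by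
    intro g hg
    refine DFunLike.ext _ _ (fun u => ?_)
    rw [rhoOfMulAut_apply, hg]
    rfl
  have key := rho_commutator_eq_one (𝕌 := Additive U) hp2 (fun u => by
      have h1 := hpU (Additive.toMul u)
      have h2 : p • u = Additive.ofMul ((Additive.toMul u) ^ p) := rfl
      rw [h2, h1]; rfl) (rhoOfMulAut φ) M
    (fun m₁ hm₁ m₂ hm₂ => hone _ (hab m₁ hm₁ m₂ hm₂)) K hK
    (fun m hm => hone _ (hMK m hm)) a (by
      refine DFunLike.ext _ _ (fun u => ?_)
      have e1 : ∀ w, (rhoOfMulAut φ a - 1) w = rhoOfMulAut φ a w - w := fun w => rfl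
      have e2 : ∀ (g k : AddMonoid.End (Additive U)) w, (g * k) w = g (k w) := fun g k w => rfl
      have e3 : ∀ w : Additive U, rhoOfMulAut φ a w - w =
          Additive.ofMul (φ a (Additive.toMul w) * (Additive.toMul w)⁻¹) := fun w => by
        rw [← div_eq_mul_inv]; rfl
      rw [e2, e1, e1, e3 u, e3, toMul_ofMul, ha, mul_inv_cancel]
      rfl)
  intro m hm
  have h1 := key m hm
  ext u
  have h2 := DFunLike.congr_fun h1 (Additive.ofMul u)
  rw [rhoOfMulAut_apply] at h2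
  exact congrArg Additive.toMul h2

end mulaut

section group

variable {X : Type*} [Group X]

/-- **Lemma A.** If `a` acts quadratically on the normal elementary abelian `p`-subgroup `U`
(`p` odd) and `M` is a normal subgroup acting on `U` as an abelian `p'`-group, then `[M, a]`
centralizes `U`. -/
theorem commutator_mem_centralizer_of_quadOn {p : ℕ} [hp : Fact p.Prime] (hp2 : p ≠ 2)
    (U : Subgroup X) [hUn : U.Normal] (hUc : ∀ u₁ ∈ U, ∀ u₂ ∈ U, u₁ * u₂ = u₂ * u₁)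
    (hUp : ∀ u ∈ U, u ^ p = 1) (M : Subgroup X) [hMn : M.Normal]
    (hab : ∀ m₁ ∈ M, ∀ m₂ ∈ M, ⁅m₁, m₂⁆ ∈ Subgroup.centralizer (U : Set X)) (K : ℕ)
    (hK : K.Coprime p) (hMK : ∀ m ∈ M, m ^ K ∈ Subgroup.centralizer (U : Set X)) (a : X)
    (ha : QuadOn U a) : ∀ m ∈ M, ⁅m, a⁆ ∈ Subgroup.centralizer (U : Set X) := by
  letI : CommGroup ↥U :=
    { (inferInstance : Group ↥U) with
      mul_comm := fun x y => Subtype.ext (hUc x x.2 y y.2) }
  have hφ : ∀ g : X, g ∈ Subgroup.centralizer (U : Set X) ↔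
      (MulAut.conjNormal g : MulAut ↥U) = 1 := by
    intro g
    constructor
    · intro hg
      ext u
      rw [MulAut.conjNormal_apply]
      have := Subgroup.mem_centralizer_iff.mp hg u u.2
      change g * (u : X) * g⁻¹ = (u : X)
      rw [← this, mul_inv_cancel_right]
    · intro hg
      rw [Subgroup.mem_centralizer_iff]
      intro u hu
      have h1 := DFunLike.congr_fun hg ⟨u, hu⟩
      have h2 : g * u * g⁻¹ = u := by
        have := congrArg Subtype.val h1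
        rwa [MulAut.conjNormal_apply] at this
      calc u * g = g * u * g⁻¹ * g := by rw [h2]
        _ = g * u := by group
  have key := mulAut_commutator_eq_one (U := ↥U) hp2 (fun u => Subtype.ext (hUp u u.2))
    (MulAut.conjNormal (H := U)) M
    (fun m₁ hm₁ m₂ hm₂ => (hφ _).mp (hab m₁ hm₁ m₂ hm₂)) K hK
    (fun m hm => (hφ _).mp (hMK m hm)) a (by
      intro u
      apply Subtype.ext
      have h1 : Commute a ⁅(u : X), a⁆ := ha u u.2
      have h2 : a * (u : X) * a⁻¹ * (u : X)⁻¹ = ⁅(u : X), a⁆⁻¹ := by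
        rw [commutatorElement_def]; group
      have h3 : a * (a * (u : X) * a⁻¹ * (u : X)⁻¹) * a⁻¹ = a * (u : X) * a⁻¹ * (u : X)⁻¹ := by
        rw [h2, (h1.inv_right).eq, mul_inv_cancel_right]
      simpa [MulAut.conjNormal_apply, mul_assoc] using h3)
  intro m hm
  exact (hφ _).mpr (key m hm)

end group

end Cfsg.Agent.Lib.Helper11
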