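import Cfsg.Agent.Lib.Helper11.MinConfig
import Cfsg.Agent.Lib.Helper11.HHAbelian
import Cfsg.Prelude.Def_LocalEven

set_option autoImplicit false
set_option linter.unusedSectionVars false
set_option linter.style.haveILetI false
open Cfsg

/-!
# Chief factors inside `O_p` in the minimal configuration

In the minimal configuration no element `g ∈ T ∖ O_p(X)` can satisfy `[U, g; p - 1] ≤ V`, `[U, g] ≰ V`
on a chief factor `U / V` with `U ≤ O_p(X)` (abelian Hall–Higman).
-/

namespace Cfsg.Agent.Lib.Helper11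

open scoped commutatorElement

universe u

section chief

variable {Y : Type*} [Group Y]

/-- normal subgroups of `Y / V` inside the image of a chief factor `U / V` -/
theorem chief_quot {U V : Subgroup Y} [hVn : V.Normal] (hc : IsChiefFactor U V)
    (N : Subgroup (Y ⧸ V)) (hN : N.Normal) (hNU : N ≤ U.map (QuotientGroup.mk' V)) :
    N = ⊥ ∨ N = U.map (QuotientGroup.mk' V) := by
  have hsurj := QuotientGroup.mk'_surjective V
  obtain ⟨hVU, hUn, -, hmin⟩ := hc
  obtain ⟨N', hN'⟩ : ∃ N' : Subgroup Y, N' = N.comap (QuotientGroup.mk' V) := ⟨_, rfl⟩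
  have hN'n : N'.Normal := by rw [hN']; infer_instance
  have hVN' : V ≤ N' := by
    intro x hx
    rw [hN', Subgroup.mem_comap, QuotientGroup.mk'_apply, (QuotientGroup.eq_one_iff x).mpr hx]
    exact N.one_mem
  have hN'U : N' ≤ U := by
    intro x hx
    rw [hN', Subgroup.mem_comap] at hx
    obtain ⟨u, hu, hux⟩ := hNU hx
    have h1 : u⁻¹ * x ∈ V := by
      rw [← QuotientGroup.eq_one_iff, QuotientGroup.mk_mul, QuotientGroup.mk_inv]
      have : (QuotientGroup.mk u : Y ⧸ V) = QuotientGroup.mk x := hux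
      rw [this, inv_mul_cancel]
    have h2 := U.mul_mem hu (hVU.le h1)
    rwa [mul_inv_cancel_left] at h2
  have hNmap : N = N'.map (QuotientGroup.mk' V) := by
    rw [hN', Subgroup.map_comap_eq_self_of_surjective hsurj]
  rcases hmin N' hN'n hVN' hN'U with h | h
  · left
    rw [hNmap, h, QuotientGroup.map_mk'_self]
  · right
    rw [hNmap, h]

theorem chief_map_ne_bot {U V : Subgroup Y} [hVn : V.Normal] (hc : IsChiefFactor U V) :
    U.map (QuotientGroup.mk' V) ≠ ⊥ := by
  intro h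
  have h1 : U ≤ V := by
    intro x hx
    rw [← QuotientGroup.eq_one_iff]
    have : QuotientGroup.mk' V x ∈ U.map (QuotientGroup.mk' V) := Subgroup.mem_map_of_mem _ hx
    rw [h, Subgroup.mem_bot] at this
    exact this
  exact absurd hc.1 (not_lt_of_ge h1)

/-- the iterates of `w ↦ [g, w]` stay in the iterated commutators -/
theorem iterate_mem_iterCommutator (U : Subgroup Y) (g : Y) (k : ℕ) {u : Y} (hu : u ∈ U) :
    (fun w : Y => g * w * g⁻¹ * w⁻¹)^[k] u ∈ iterCommutator U (Subgroup.zpowers g) k := by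
  induction k with
  | zero => exact hu
  | succ k ih =>
    rw [Function.iterate_succ_apply']
    obtain ⟨w, hw⟩ : ∃ w, w = (fun w : Y => g * w * g⁻¹ * w⁻¹)^[k] u := ⟨_, rfl⟩
    rw [← hw] at ih ⊢
    have h1 : ⁅w, g⁆ ∈ ⁅iterCommutator U (Subgroup.zpowers g) k, Subgroup.zpowers g⁆ :=
      Subgroup.commutator_mem_commutator ih (Subgroup.mem_zpowers g)
    have h2 : g * w * g⁻¹ * w⁻¹ = ⁅w, g⁆⁻¹ := by rw [commutatorElement_def]; group
    change g * w * g⁻¹ * w⁻¹ ∈ ⁅iterCommutator U (Subgroup.zpowers g) k, Subgroup.zpowers g⁆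
    rw [h2]
    exact Subgroup.inv_mem _ h1

end chief

section main

variable {X : Type u} [Group X] [Finite X] {p : ℕ} [hp : Fact p.Prime]

/-- **Abelian Hall–Higman in the minimal configuration.** -/
theorem MinCfg.no_engel_chief {H : Subgroup X} [hHn : H.Normal] {Mb : Subgroup (X ⧸ H)}
    {T : Sylow p X} (h : MinCfg p H Mb T) {g : X} (hgT : g ∈ (T : Subgroup X)) (hgH : g ∉ H)
    {U V : Subgroup X} (hc : IsChiefFactor U V) (hUH : U ≤ H)
    (hE : iterCommutator U (Subgroup.zpowers g) (p - 1) ≤ V)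
    (hnE : ¬ ⁅U, Subgroup.zpowers g⁆ ≤ V) : False := by
  haveI hVn : V.Normal := hc.2.2.1
  haveI hUn : U.Normal := hc.2.1
  haveI hMn : h.M.Normal := h.M_normal
  obtain ⟨π, hπ⟩ : ∃ π : X →* X ⧸ V, π = QuotientGroup.mk' V := ⟨_, rfl⟩
  have hsurj : Function.Surjective π := by rw [hπ]; exact QuotientGroup.mk'_surjective V
  have hker : ∀ x : X, π x = 1 ↔ x ∈ V := by
    intro x; rw [hπ]; exact QuotientGroup.eq_one_iff x
  obtain ⟨Ub, hUb⟩ : ∃ Ub : Subgroup (X ⧸ V), Ub = U.map π := ⟨_, rfl⟩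
  obtain ⟨Hb, hHb⟩ : ∃ Hb : Subgroup (X ⧸ V), Hb = H.map π := ⟨_, rfl⟩
  obtain ⟨Mq, hMq⟩ : ∃ Mq : Subgroup (X ⧸ V), Mq = h.M.map π := ⟨_, rfl⟩
  haveI hUbn : Ub.Normal := by rw [hUb]; exact hUn.map π hsurj
  haveI hHbn : Hb.Normal := by rw [hHb]; exact hHn.map π hsurj
  haveI hMqn : Mq.Normal := by rw [hMq]; exact hMn.map π hsurj
  have hHbp : IsPGroup p Hb := by rw [hHb]; exact h.hHp.map π
  have hUbHb : Ub ≤ Hb := by rw [hUb, hHb]; exact Subgroup.map_mono hUH
  have hUbne : Ub ≠ ⊥ := by rw [hUb, hπ]; exact chief_map_ne_bot hc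
  have hchief : ∀ N : Subgroup (X ⧸ V), N.Normal → N ≤ Ub → N = ⊥ ∨ N = Ub := by
    intro N hN hNU
    rw [hUb, hπ] at hNU ⊢
    exact chief_quot hc N hN hNU
  -- `Ub` is elementary abelian and centralized by `Hb`
  have hΩ : omegaCentral p Ub Hb hUbHb = Ub := by
    rcases hchief _ (omegaCentral_normal p Ub Hb hUbHb) (omegaCentral_le p Ub Hb hUbHb) with h1 | h1
    · exact absurd h1 (omegaCentral_ne_bot hUbHb hHbp hUbne)
    · exact h1
  have hUbc : ∀ u₁ ∈ Ub, ∀ u₂ ∈ Ub, u₁ * u₂ = u₂ * u₁ := by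
    have := omegaCentral_comm p Ub Hb hUbHb
    rwa [hΩ] at this
  have hUbp : ∀ u ∈ Ub, u ^ p = 1 := by
    intro u hu
    rw [← hΩ] at hu
    exact hu.2.2
  have hHbU : Hb ≤ Subgroup.centralizer (Ub : Set (X ⧸ V)) := by
    have := le_centralizer_omegaCentral p Ub Hb hUbHb
    rwa [hΩ] at this
  -- abelian Hall–Higman
  have hHH : ∀ m ∈ Mq, ⁅m, π g⁆ ∈ Subgroup.centralizer (Ub : Set (X ⧸ V)) := by
    apply commutator_mem_centralizer_of_iter Ub hUbc hUbp Mq
    · rw [hMq]
      rintro _ ⟨m₁, hm₁, rfl⟩ _ ⟨m₂, hm₂, rfl⟩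
      rw [← map_commutatorElement]
      apply hHbU
      rw [hHb]
      exact Subgroup.mem_map_of_mem π (h.commutator_mem hm₁ hm₂)
    · exact h.card_coprime
    · rw [hMq]
      rintro _ ⟨m, hm, rfl⟩
      rw [← map_pow]
      apply hHbU
      rw [hHb]
      exact Subgroup.mem_map_of_mem π (h.pow_card_mem hm)
    · rw [hUb]
      rintro _ ⟨u, hu, rfl⟩
      have h1 : ∀ k : ℕ, (fun w : X ⧸ V => π g * w * (π g)⁻¹ * w⁻¹)^[k] (π u) =
          π ((fun w : X => g * w * g⁻¹ * w⁻¹)^[k] u) := by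
        intro k
        induction k with
        | zero => rfl
        | succ k ih =>
          rw [Function.iterate_succ_apply', Function.iterate_succ_apply', ih]
          simp only [map_mul, map_inv]
      rw [h1, hker]
      exact hE (iterate_mem_iterCommutator U g (p - 1) hu)
  -- the kernel of the action on `U / V`
  obtain ⟨C, hC⟩ : ∃ C : Subgroup X,
      C = (Subgroup.centralizer (Ub : Set (X ⧸ V))).comap π := ⟨_, rfl⟩
  haveI hCn : C.Normal := by rw [hC]; infer_instance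
  have hmemC : ∀ x : X, x ∈ C ↔ π x ∈ Subgroup.centralizer (Ub : Set (X ⧸ V)) := by
    intro x; rw [hC]; exact Subgroup.mem_comap
  have hcommC : ∀ m ∈ h.M, ⁅m, g⁆ ∈ C := by
    intro m hm
    rw [hmemC, map_commutatorElement]
    apply hHH
    rw [hMq]
    exact Subgroup.mem_map_of_mem π hm
  have hgC : g ∉ C := by
    intro hg
    apply hnE
    rw [Subgroup.commutator_le]
    intro u hu y hy
    obtain ⟨z, rfl⟩ := Subgroup.mem_zpowers_iff.mp hy
    have h1 : π (g ^ z) ∈ Subgroup.centralizer (Ub : Set (X ⧸ V)) := by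
      rw [map_zpow]
      exact Subgroup.zpow_mem _ ((hmemC g).mp hg) z
    have h2 : π u ∈ Ub := by rw [hUb]; exact Subgroup.mem_map_of_mem π hu
    have h3 := Subgroup.mem_centralizer_iff.mp h1 (π u) h2
    rw [← hker, map_commutatorElement, commutatorElement_eq_one_iff_mul_comm]
    exact h3
  rcases h.dich C with hCT | hCT
  · -- `C ≤ H`
    have hCH : C ≤ H := h.normal_le hCn hCT
    exact hgH (h.mem_of_commutator_mem hgT (fun y hy => hCH (hcommC y hy)))
  · -- `X = C T`: then `U / V` is central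
    obtain ⟨Tb, hTb⟩ : ∃ Tb : Subgroup (X ⧸ V), Tb = (T : Subgroup X).map π := ⟨_, rfl⟩
    have hTbp : IsPGroup p Tb := by rw [hTb]; exact T.isPGroup'.map π
    have hUbTb : Ub ≤ Tb := by rw [hUb, hTb]; exact Subgroup.map_mono (hUH.trans h.le_T)
    haveI hUTn : (Ub.subgroupOf Tb).Normal := hUbn.subgroupOf Tb
    have hne : Ub.subgroupOf Tb ≠ ⊥ := by
      intro h1
      apply hUbne
      rw [eq_bot_iff]
      intro v hv
      have h2 : (⟨v, hUbTb hv⟩ : ↥Tb) ∈ Ub.subgroupOf Tb := Subgroup.mem_subgroupOf.mpr hv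
      rw [h1, Subgroup.mem_bot] at h2
      exact Subgroup.mem_bot.mpr (congrArg Subtype.val h2)
    obtain ⟨b, hbU, hb1, hbc⟩ :=
      Cfsg.Agent.Lib.Helper53.normal_meets_center hTbp (Ub.subgroupOf Tb) hne
    have hbU' : (b : X ⧸ V) ∈ Ub := Subgroup.mem_subgroupOf.mp hbU
    have hbZ : (b : X ⧸ V) ∈ Subgroup.center (X ⧸ V) := by
      rw [Subgroup.mem_center_iff]
      intro yb
      obtain ⟨y, rfl⟩ := hsurj yb
      have h1 : y ∈ C ⊔ (T : Subgroup X) := by rw [hCT]; trivial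
      rw [← SetLike.mem_coe, Subgroup.normal_mul] at h1
      obtain ⟨c, hc', t, ht, rfl⟩ := Set.mem_mul.mp h1
      have h2 : (b : X ⧸ V) * π c = π c * (b : X ⧸ V) :=
        Subgroup.mem_centralizer_iff.mp ((hmemC c).mp hc') _ hbU'
      have h3 : π t * (b : X ⧸ V) = (b : X ⧸ V) * π t := by
        have h4 : π t ∈ Tb := by rw [hTb]; exact Subgroup.mem_map_of_mem π ht
        have := Subgroup.mem_center_iff.mp hbc ⟨π t, h4⟩
        exact congrArg Subtype.val this
      rw [map_mul, mul_assoc, h3, ← mul_assoc, ← h2, mul_assoc]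
    obtain ⟨F, hF⟩ : ∃ F : Subgroup (X ⧸ V), F = Ub ⊓ Subgroup.center (X ⧸ V) := ⟨_, rfl⟩
    have hFn : F.Normal := by rw [hF]; infer_instance
    have hFU : F ≤ Ub := by rw [hF]; exact inf_le_left
    have hFne : F ≠ ⊥ := by
      intro h1
      have h2 : (b : X ⧸ V) ∈ F := by rw [hF]; exact ⟨hbU', hbZ⟩
      rw [h1, Subgroup.mem_bot] at h2
      exact hb1 (Subtype.ext h2)
    have hFeq : F = Ub := by
      rcases hchief F hFn hFU with h1 | h1
      · exact absurd h1 hFne
      · exact h1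
    apply hgC
    rw [hmemC, Subgroup.mem_centralizer_iff]
    intro v hv
    have h1 : v ∈ Subgroup.center (X ⧸ V) := by
      rw [← hFeq, hF] at hv
      exact hv.2
    exact (Subgroup.mem_center_iff.mp h1 (π g)).symm

end main

end Cfsg.Agent.Lib.Helper11
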