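import Mathlib
import Cfsg.Prelude.Def_Transfer
import Cfsg.Agent.Lib.Helper15.CycSylDefs
import Cfsg.Agent.Lib.Helper17.ActionCounts
import Cfsg.Agent.Lib.Helper11.Repl
import Cfsg.Agent.Lib.Helper39.CycSylW3
import Cfsg.Agent.Lib.Helper43.CycSylW6
import Cfsg.Agent.Lib.Helper97.CycSylW7

set_option autoImplicit false

/-!
# S4016 hive, leaf W8a: `|L| = (p-1)²`, `|T| = p-1`
-/

namespace Cfsg.Agent.Lib.Helper15.CycSyl

open Subgroup

universe u

variable {G : Type*} [Group G] [Finite G] {p : ℕ} [Fact p.Prime]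

/-- a cyclic subgroup is commutative, elementwise -/
theorem w8a_comm_of_cyclic (P : Subgroup G) (hcyc : IsCyclic P) :
    ∀ a ∈ P, ∀ b ∈ P, a * b = b * a := by
  obtain ⟨g, hg⟩ := hcyc.exists_generator
  intro a ha b hb
  obtain ⟨i, hi⟩ := Subgroup.mem_zpowers_iff.mp (hg ⟨a, ha⟩)
  obtain ⟨j, hj⟩ := Subgroup.mem_zpowers_iff.mp (hg ⟨b, hb⟩)
  have h1 : (⟨a, ha⟩ : P) * ⟨b, hb⟩ = ⟨b, hb⟩ * ⟨a, ha⟩ := by
    rw [← hi, ← hj]
    exact (Commute.zpow_zpow (Commute.refl g) i j).eq
  exact congrArg Subtype.val h1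

/-- the normalizer of `P` normalizes the centralizer of `P` -/
theorem w8a_normalizer_le (P : Subgroup G) :
    normalizer (P : Set G) ≤ normalizer ((centralizer (P : Set G) : Subgroup G) : Set G) := by
  intro g hg
  apply Cfsg.Agent.Lib.Helper11.mem_normalizer_of_conj_mem
  intro x hx
  rw [mem_centralizer_iff] at hx ⊢
  intro a ha
  have ha' : g⁻¹ * a * g ∈ P := by
    have := (mem_normalizer_iff.mp (inv_mem hg) a).mp ha
    simpa using this
  have h1 := hx _ ha'
  calc a * (g * x * g⁻¹) = g * ((g⁻¹ * a * g) * x) * g⁻¹ := by group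
    _ = g * (x * (g⁻¹ * a * g)) * g⁻¹ := by rw [h1]
    _ = g * x * g⁻¹ * a := by group

/-- elements of `L` are `p'`-elements -/
theorem w8a_order_coprime {P : Sylow p G} {L : Subgroup G} {u : G} (hc : TConf p P L u) :
    ∀ y ∈ L, (orderOf y).Coprime p := by
  intro y hy
  have : orderOf y ∣ Nat.card L := by
    have := orderOf_dvd_natCard (⟨y, hy⟩ : L)
    rwa [Subgroup.orderOf_mk] at this
  exact Nat.Coprime.coprime_dvd_left this hc.cop

/-- `u T u⁻¹ ≤ L` -/
theorem w8a_conj_le {P : Sylow p G} {L : Subgroup G} {u : G} (hc : TConf p P L u) :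
    (L ⊓ centralizer ((P : Subgroup G) : Set G)).map (MulAut.conj u).toMonoidHom ≤ L := by
  rintro x ⟨y, hy, rfl⟩
  have hyL : y ∈ L := hy.1
  have := (mem_normalizer_iff.mp hc.un y).mp hyL
  simpa using this

/-- `T ⊓ u T u⁻¹ = 1` -/
theorem w8a_inf_conj (h : Local p G) {P : Sylow p G} {L : Subgroup G} {u : G}
    (hc : TConf p P L u) :
    (L ⊓ centralizer ((P : Subgroup G) : Set G)) ⊓
      (L ⊓ centralizer ((P : Subgroup G) : Set G)).map (MulAut.conj u).toMonoidHom = ⊥ := by
  rw [eq_bot_iff]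
  rintro x ⟨hxT, y, hy, hyx⟩
  have hyx' : u * y * u⁻¹ = x := by simpa using hyx
  rw [mem_bot]
  by_contra hx1
  have hy1 : y ≠ 1 := by
    rintro rfl
    apply hx1
    rw [← hyx']; group
  have hyC : y ∈ centralizer ((P : Subgroup G) : Set G) := hy.2
  have hxC : u * y * u⁻¹ ∈ centralizer ((P : Subgroup G) : Set G) := by rw [hyx']; exact hxT.2
  exact hc.unot (h.f3 P u y hyC hy1 (w8a_order_coprime hc y hy.1) hxC)

/-- core of W8a, the other leaves as hypotheses -/
theorem w8a_core (h : Local p G) (P : Sylow p G) (L : Subgroup G) (u : G)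
    (hc : TConf p P L u) (hT : L ⊓ centralizer ((P : Subgroup G) : Set G) ≠ ⊥)
    (hW3 : ∃ e : ℕ, Nat.card (normalizer ((P : Subgroup G) : Set G)) =
        e * Nat.card (centralizer ((P : Subgroup G) : Set G)) ∧ e ∣ p - 1 ∧ 2 ≤ e)
    (hW6 : ∀ v ∈ zpowers u, v ≠ 1 → ∀ y ∈ L, v * y = y * v → y = 1)
    (hW7 : ∀ (q e t : ℕ), q.Prime → e ∣ q - 1 → t ∣ e → 1 < t → e * t ≡ 1 [MOD q] →
      e = q - 1 ∧ t = q - 1) :
    3 ≤ p ∧ Nat.card L = (p - 1) * (p - 1) ∧
      Nat.card (L ⊓ centralizer ((P : Subgroup G) : Set G) : Subgroup G) = p - 1 ∧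
      Nat.card (normalizer ((P : Subgroup G) : Set G)) =
        Nat.card (P : Subgroup G) * ((p - 1) * (p - 1)) ∧
      Nat.card (centralizer ((P : Subgroup G) : Set G)) = Nat.card (P : Subgroup G) * (p - 1) := by
  have hp : p.Prime := Fact.out
  set N := normalizer ((P : Subgroup G) : Set G) with hNdef
  set C := centralizer ((P : Subgroup G) : Set G) with hCdef
  set T := L ⊓ C with hTdef
  have hPpos : 0 < Nat.card (P : Subgroup G) := Nat.card_pos
  have hLpos : 0 < Nat.card L := Nat.card_pos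
  -- (1) |N| = |P| |L|
  have hNcard : Nat.card N = Nat.card (P : Subgroup G) * Nat.card L := by
    have h1 := Cfsg.Agent.Lib.Helper11.card_sup_mul_card_inf L (P : Subgroup G) hc.le
    rw [hc.inf, Subgroup.card_bot, mul_one, sup_comm, hc.sup] at h1
    rw [h1, mul_comm]
  -- (2) P ≤ C ≤ N
  have hPab := w8a_comm_of_cyclic (P : Subgroup G) (h.cyc P)
  have hPC : (P : Subgroup G) ≤ C := by
    intro a ha
    rw [hCdef, mem_centralizer_iff]
    intro b hb
    exact hPab b hb a ha
  have hCN : C ≤ N := Subgroup.centralizer_le_normalizer _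
  -- (4) |N| |T| = |L| |C|
  have hLC : L ≤ normalizer ((C : Subgroup G) : Set G) := hc.le.trans (w8a_normalizer_le _)
  have hsupLC : L ⊔ C = N := by
    apply le_antisymm (sup_le hc.le hCN)
    rw [← hc.sup]
    exact sup_le (hPC.trans le_sup_right) le_sup_left
  have hprod : Nat.card N * Nat.card T = Nat.card L * Nat.card C := by
    have h1 := Cfsg.Agent.Lib.Helper11.card_sup_mul_card_inf L C hLC
    rw [hsupLC] at h1
    exact h1
  have hCcard : Nat.card C = Nat.card (P : Subgroup G) * Nat.card T := by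
    rw [hNcard] at hprod
    have : Nat.card L * (Nat.card (P : Subgroup G) * Nat.card T) = Nat.card L * Nat.card C := by
      rw [← hprod]; ring
    exact (Nat.eq_of_mul_eq_mul_left hLpos this).symm
  -- (5) |L| = e |T|
  obtain ⟨e, he1, he2, he3⟩ := hW3
  have hLe : Nat.card L = e * Nat.card T := by
    rw [hNcard, hCcard] at he1
    have : Nat.card (P : Subgroup G) * Nat.card L = Nat.card (P : Subgroup G) * (e * Nat.card T) := by
      rw [he1]; ring
    exact Nat.eq_of_mul_eq_mul_left hPpos this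
  -- (6) 1 < t
  have ht1 : 1 < Nat.card T := by
    rw [Subgroup.one_lt_card_iff_ne_bot]; exact hT
  have htpos : 0 < Nat.card T := by omega
  -- (7) T' = u T u⁻¹
  set T' := T.map (MulAut.conj u).toMonoidHom with hT'def
  have hLab := h.ab L hc.cop
  have hT'L : T' ≤ L := w8a_conj_le hc
  have hTT' : T ⊓ T' = ⊥ := w8a_inf_conj h hc
  have hTnT' : T ≤ normalizer ((T' : Subgroup G) : Set G) := by
    intro x hx
    apply Cfsg.Agent.Lib.Helper11.mem_normalizer_of_conj_mem
    intro y hy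
    have := hLab x hx.1 y (hT'L hy)
    rw [this, mul_inv_cancel_right]
    exact hy
  have hT'card : Nat.card T' = Nat.card T := by
    rw [hT'def]
    exact Subgroup.card_map_of_injective (MulAut.conj u).injective
  have htt : Nat.card T * Nat.card T ∣ e * Nat.card T := by
    have h1 := Cfsg.Agent.Lib.Helper11.card_sup_mul_card_inf T T' hTnT'
    rw [hTT', Subgroup.card_bot, mul_one, hT'card] at h1
    rw [← h1, ← hLe]
    exact Subgroup.card_dvd_of_le (sup_le inf_le_left hT'L)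
  have hte : Nat.card T ∣ e := Nat.dvd_of_mul_dvd_mul_right htpos htt
  -- (8) |L| ≡ 1 mod p
  have hup : IsPGroup p (zpowers u) := by
    obtain ⟨k, hk⟩ := hc.upow
    rintro ⟨g, hg⟩
    obtain ⟨n, rfl⟩ := mem_zpowers_iff.mp hg
    refine ⟨k, ?_⟩
    apply Subtype.ext
    simp only [SubgroupClass.coe_pow, OneMemClass.coe_one]
    rw [← zpow_natCast, ← zpow_mul, mul_comm, zpow_mul, zpow_natCast, hk, one_zpow]
  have hu1 : u ≠ 1 := by
    rintro rfl
    exact hc.unot (one_mem _)
  have hfix : L ⊓ centralizer ({u} : Set G) = ⊥ := by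
    rw [eq_bot_iff]
    rintro y ⟨hyL, hyc⟩
    rw [mem_bot]
    have hyc' : y ∈ centralizer ({u} : Set G) := hyc
    rw [mem_centralizer_iff] at hyc'
    exact hW6 u (mem_zpowers u) hu1 y hyL (hyc' u rfl)
  have hmod : Nat.card L ≡ 1 [MOD p] := by
    have h1 := Cfsg.Agent.Lib.Helper17.card_modEq_card_inf_centralizer L u hc.un hup
    rw [hfix, Subgroup.card_bot] at h1
    exact h1
  -- (9)
  rw [hLe] at hmod
  obtain ⟨hep, htp⟩ := hW7 p e (Nat.card T) hp he2 hte ht1 hmod
  refine ⟨by omega, ?_, htp, ?_, ?_⟩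
  · rw [hLe, hep, htp]
  · rw [hNcard, hLe, hep, htp]
  · rw [hCcard, htp]

/-- [W8a] In the configuration, with `T = L ⊓ C(P) ≠ 1`: `|T| = p - 1`, `|L| = (p - 1)²`. -/
theorem Local.card_L (h : Local p G) (P : Sylow p G) (L : Subgroup G) (u : G)
    (hc : TConf p P L u) (hT : L ⊓ centralizer ((P : Subgroup G) : Set G) ≠ ⊥) :
    3 ≤ p ∧ Nat.card L = (p - 1) * (p - 1) ∧
      Nat.card (L ⊓ centralizer ((P : Subgroup G) : Set G) : Subgroup G) = p - 1 ∧
      Nat.card (normalizer ((P : Subgroup G) : Set G)) =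
        Nat.card (P : Subgroup G) * ((p - 1) * (p - 1)) ∧
      Nat.card (centralizer ((P : Subgroup G) : Set G)) = Nat.card (P : Subgroup G) * (p - 1) :=
  w8a_core h P L u hc hT (card_normalizer_eq P (h.cyc P) (h.nc P)) (h.semireg P L u hc)
    (fun q e t hq he ht ht1 hmod => numeric_aux q e t hq he ht ht1 hmod)

end Cfsg.Agent.Lib.Helper15.CycSyl
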