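import Mathlib
import Cfsg.Prelude.Def_Transfer
import Cfsg.Agent.Lib.Helper15.CycSylDefs
import Cfsg.Agent.Lib.Helper11.Repl
import Cfsg.Agent.Lib.Helper11.CycSylW8a
import Cfsg.Agent.Lib.Helper39.CycSylC1
import Cfsg.Agent.Lib.Helper43.CycSylW6

set_option autoImplicit false

/-!
# S4016 hive, leaf W8b: `p = 3`
-/

namespace Cfsg.Agent.Lib.Helper15.CycSyl

open Subgroup

universe u

variable {G : Type*} [Group G] [Finite G] {p : ℕ} [Fact p.Prime]

/-- conjugation preserves the order -/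
theorem w8b_orderOf_conj (g x : G) : orderOf (g * x * g⁻¹) = orderOf x := by
  have := orderOf_injective (MulAut.conj g).toMonoidHom (MulAut.conj g).injective x
  simpa using this

/-- an involution normalizing the abelian subgroup `P` and fixing no nontrivial element inverts -/
theorem w8b_inverts (P : Subgroup G) (hab : ∀ a ∈ P, ∀ b ∈ P, a * b = b * a) {z : G}
    (hzN : z ∈ normalizer (P : Set G)) (hz2 : z * z = 1)
    (hfpf : ∀ a ∈ P, a ≠ 1 → z * a * z⁻¹ ≠ a) :
    ∀ a ∈ P, z * a * z⁻¹ = a⁻¹ := by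
  intro a ha
  have ha' : z * a * z⁻¹ ∈ P := (mem_normalizer_iff.mp hzN a).mp ha
  have hzinv : z⁻¹ = z := inv_eq_of_mul_eq_one_left hz2
  have hb : a * (z * a * z⁻¹) ∈ P := mul_mem ha ha'
  have hfix : z * (a * (z * a * z⁻¹)) * z⁻¹ = a * (z * a * z⁻¹) := by
    have h1 : z * (a * (z * a * z⁻¹)) * z⁻¹ = (z * a * z⁻¹) * ((z * z) * a * (z * z)⁻¹) := by
      group
    rw [h1, hz2]
    simp only [one_mul, inv_one, mul_one]
    exact hab _ ha' _ ha
  have hb1 : a * (z * a * z⁻¹) = 1 := by
    by_contra hne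
    exact hfpf _ hb hne hfix
  exact (eq_inv_of_mul_eq_one_right hb1)

/-- core of W8b, the other leaves as hypotheses -/
theorem w8b_core (h : Local p G) (P : Sylow p G) (L : Subgroup G) (u : G)
    (hc : TConf p P L u) (hp : 3 ≤ p) (hL : Nat.card L = (p - 1) * (p - 1))
    (hT : Nat.card (L ⊓ centralizer ((P : Subgroup G) : Set G) : Subgroup G) = p - 1)
    (hC1 : ∀ {l : G}, l ∈ normalizer (((P : Subgroup G)) : Set G) → (orderOf l).Coprime p →
      l ∉ centralizer (((P : Subgroup G)) : Set G) →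
      ∀ a ∈ (P : Subgroup G), a ≠ 1 → l * a * l⁻¹ ≠ a)
    (hW6 : ∀ v ∈ zpowers u, v ≠ 1 → ∀ y ∈ L, v * y = y * v → y = 1) :
    p = 3 := by
  classical
  have hpp : p.Prime := Fact.out
  set C := centralizer ((P : Subgroup G) : Set G) with hCdef
  set T := L ⊓ C with hTdef
  set T' := T.map (MulAut.conj u).toMonoidHom with hT'def
  have hLab := h.ab L hc.cop
  have hPab := w8a_comm_of_cyclic (P : Subgroup G) (h.cyc P)
  have hT'L : T' ≤ L := w8a_conj_le hc
  have hTT' : T ⊓ T' = ⊥ := w8a_inf_conj h hc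
  have hLord := w8a_order_coprime hc
  have hmemT' : ∀ t ∈ T, u * t * u⁻¹ ∈ T' := by
    intro t ht
    exact ⟨t, ht, by simp⟩
  -- Claim A
  have hA : ∀ z' ∈ T', orderOf z' = 2 → ∀ a ∈ (P : Subgroup G), z' * a * z'⁻¹ = a⁻¹ := by
    intro z' hz' ho
    have hz'L : z' ∈ L := hT'L hz'
    have hz'N : z' ∈ normalizer ((P : Subgroup G) : Set G) := hc.le hz'L
    have hz'C : z' ∉ centralizer ((P : Subgroup G) : Set G) := by
      intro hcz
      have : z' ∈ T ⊓ T' := ⟨⟨hz'L, hcz⟩, hz'⟩
      rw [hTT', mem_bot] at this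
      rw [this, orderOf_one] at ho
      omega
    have hz2 : z' * z' = 1 := by
      have := pow_orderOf_eq_one z'
      rw [ho, pow_two] at this
      exact this
    exact w8b_inverts (P : Subgroup G) hPab hz'N hz2 (hC1 hz'N (hLord z' hz'L) hz'C)
  -- Claim B
  have hB : ∀ z1 ∈ T', ∀ z2 ∈ T', orderOf z1 = 2 → orderOf z2 = 2 → z1 = z2 := by
    intro z1 hz1 z2 hz2 ho1 ho2
    have hw : z1 * z2 ∈ T' := mul_mem hz1 hz2
    have hwC : z1 * z2 ∈ C := by
      rw [hCdef, mem_centralizer_iff]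
      intro a ha
      have h2 := hA z2 hz2 ho2 a ha
      have h1 := hA z1 hz1 ho1 a⁻¹ (inv_mem ha)
      rw [inv_inv] at h1
      have : z1 * z2 * a * (z1 * z2)⁻¹ = a := by
        calc z1 * z2 * a * (z1 * z2)⁻¹ = z1 * (z2 * a * z2⁻¹) * z1⁻¹ := by group
          _ = a := by rw [h2, h1]
      calc a * (z1 * z2) = (z1 * z2 * a * (z1 * z2)⁻¹) * (z1 * z2) := by rw [this]
        _ = z1 * z2 * a := by group
    have : z1 * z2 ∈ T ⊓ T' := ⟨⟨hT'L hw, hwC⟩, hw⟩
    rw [hTT', mem_bot] at this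
    have hz22 : z2 * z2 = 1 := by
      have := pow_orderOf_eq_one z2
      rw [ho2, pow_two] at this
      exact this
    calc z1 = z1 * (z2 * z2) := by rw [hz22, mul_one]
      _ = (z1 * z2) * z2 := by group
      _ = z2 := by rw [this, one_mul]
  -- Claim C
  have hCc : ∀ z1 ∈ T, ∀ z2 ∈ T, orderOf z1 = 2 → orderOf z2 = 2 → z1 = z2 := by
    intro z1 hz1 z2 hz2 ho1 ho2
    have e1 : orderOf (u * z1 * u⁻¹) = 2 := by rw [w8b_orderOf_conj]; exact ho1
    have e2 : orderOf (u * z2 * u⁻¹) = 2 := by rw [w8b_orderOf_conj]; exact ho2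
    have := hB _ (hmemT' z1 hz1) _ (hmemT' z2 hz2) e1 e2
    simpa using this
  -- an involution in T
  have h2dvd : 2 ∣ Nat.card T := by
    rw [hT]
    rcases hpp.eq_two_or_odd' with h2 | hodd
    · omega
    · obtain ⟨k, hk⟩ := hodd
      exact ⟨k, by omega⟩
  have : Fact (Nat.Prime 2) := ⟨Nat.prime_two⟩
  obtain ⟨z0, hz0⟩ := exists_prime_orderOf_dvd_card' 2 h2dvd
  set z : G := (z0 : G) with hzdef
  have hzT : z ∈ T := z0.2
  have hzo : orderOf z = 2 := by rw [hzdef, Subgroup.orderOf_coe]; exact hz0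
  have hzL : z ∈ L := hzT.1
  have hz1 : z ≠ 1 := by
    intro h1
    rw [h1, orderOf_one] at hzo
    omega
  set z' : G := u * z * u⁻¹ with hz'def
  have hz'T' : z' ∈ T' := hmemT' z hzT
  have hz'o : orderOf z' = 2 := by rw [hz'def, w8b_orderOf_conj]; exact hzo
  -- L = T T'
  have hT'card : Nat.card T' = Nat.card T := by
    rw [hT'def]
    exact Subgroup.card_map_of_injective (MulAut.conj u).injective
  have hTnT' : T ≤ normalizer ((T' : Subgroup G) : Set G) := by
    intro x hx
    apply Cfsg.Agent.Lib.Helper11.mem_normalizer_of_conj_mem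
    intro y hy
    have := hLab x hx.1 y (hT'L hy)
    rw [this, mul_inv_cancel_right]
    exact hy
  have hsupL : T ⊔ T' = L := by
    have hle : T ⊔ T' ≤ L := sup_le inf_le_left hT'L
    apply Subgroup.eq_of_le_of_card_ge hle
    have h1 := Cfsg.Agent.Lib.Helper11.card_sup_mul_card_inf T T' hTnT'
    rw [hTT', Subgroup.card_bot, mul_one, hT'card, hT] at h1
    rw [h1, hL]
  have hdecomp : ∀ l ∈ L, ∃ t ∈ T, ∃ t' ∈ T', l = t * t' := by
    intro l hl
    rw [← hsupL] at hl
    exact Cfsg.Agent.Lib.Helper11.mem_sup_of_commute T T'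
      (fun a ha b hb => hLab a ha.1 b (hT'L hb)) l hl
  -- involutions of L
  have hinv : ∀ l ∈ L, orderOf l = 2 → l ∈ ({z, z', z * z'} : Finset G) := by
    intro l hl ho
    obtain ⟨t, ht, t', ht', rfl⟩ := hdecomp l hl
    have hcomm : t * t' = t' * t := hLab t ht.1 t' (hT'L ht')
    have hsq : (t * t') * (t * t') = 1 := by
      have := pow_orderOf_eq_one (t * t')
      rw [ho, pow_two] at this
      exact this
    have hsq2 : t * t = (t' * t')⁻¹ := by
      apply eq_inv_of_mul_eq_one_left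
      calc t * t * (t' * t') = t * (t * t') * t' := by group
        _ = t * (t' * t) * t' := by rw [hcomm]
        _ = (t * t') * (t * t') := by group
        _ = 1 := hsq
    have htt : t * t = 1 := by
      have h2 : t * t ∈ T' := by rw [hsq2]; exact T'.inv_mem (T'.mul_mem ht' ht')
      have : t * t ∈ T ⊓ T' := ⟨T.mul_mem ht ht, h2⟩
      rw [hTT', mem_bot] at this
      exact this
    have ht't' : t' * t' = 1 := by
      have : (t' * t')⁻¹ = 1 := by rw [← hsq2]; exact htt
      exact inv_eq_one.mp this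
    have hcase_t : t = 1 ∨ t = z := by
      by_cases h1 : t = 1
      · exact Or.inl h1
      · right
        have : orderOf t = 2 := orderOf_eq_prime (by rw [pow_two]; exact htt) h1
        exact hCc t ht z hzT this hzo
    have hcase_t' : t' = 1 ∨ t' = z' := by
      by_cases h1 : t' = 1
      · exact Or.inl h1
      · right
        have : orderOf t' = 2 := orderOf_eq_prime (by rw [pow_two]; exact ht't') h1
        exact hB t' ht' z' hz'T' this hz'o
    rcases hcase_t with rfl | rfl <;> rcases hcase_t' with rfl | rfl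
    · rw [mul_one, orderOf_one] at ho; omega
    · simp
    · simp
    · simp
  -- p distinct involutions
  have huord : p ≤ orderOf u := by
    have hu1 : u ≠ 1 := by
      rintro rfl
      exact hc.unot (one_mem _)
    obtain ⟨k, hk⟩ := hc.upow
    have hdvd : orderOf u ∣ p ^ k := orderOf_dvd_of_pow_eq_one hk
    obtain ⟨m, hm, hmo⟩ := (Nat.dvd_prime_pow hpp).mp hdvd
    have hm0 : m ≠ 0 := by
      rintro rfl
      rw [pow_zero, orderOf_eq_one_iff] at hmo
      exact hu1 hmo
    rw [hmo]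
    calc p = p ^ 1 := (pow_one p).symm
      _ ≤ p ^ m := Nat.pow_le_pow_right hpp.pos (Nat.one_le_iff_ne_zero.mpr hm0)
  have hunorm : ∀ i : ℕ, u ^ i ∈ normalizer (L : Set G) := fun i => pow_mem hc.un i
  let f : ℕ → G := fun i => u ^ i * z * (u ^ i)⁻¹
  have hfmem : ∀ i ∈ Finset.range p, f i ∈ ({z, z', z * z'} : Finset G) := by
    intro i _
    apply hinv
    · exact (mem_normalizer_iff.mp (hunorm i) z).mp hzL
    · show orderOf (u ^ i * z * (u ^ i)⁻¹) = 2
      rw [w8b_orderOf_conj]; exact hzo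
  have key : ∀ i j : ℕ, i < j → j < p → f i ≠ f j := by
    intro i j hij hjp hfe
    have hj : u ^ j = u ^ i * u ^ (j - i) := by
      rw [← pow_add]; congr 1; omega
    have hfe' : u ^ i * z * (u ^ i)⁻¹ = u ^ j * z * (u ^ j)⁻¹ := hfe
    rw [hj] at hfe'
    have h1 : z = u ^ (j - i) * z * (u ^ (j - i))⁻¹ := by
      have : u ^ i * z * (u ^ i)⁻¹ = u ^ i * (u ^ (j - i) * z * (u ^ (j - i))⁻¹) * (u ^ i)⁻¹ := by
        rw [hfe']; group
      have h2 := mul_right_cancel this
      exact mul_left_cancel h2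
    have hcomm : u ^ (j - i) * z = z * u ^ (j - i) := by
      calc u ^ (j - i) * z = (u ^ (j - i) * z * (u ^ (j - i))⁻¹) * u ^ (j - i) := by group
        _ = z * u ^ (j - i) := by rw [← h1]
    have hv1 : u ^ (j - i) ≠ 1 := by
      apply pow_ne_one_of_lt_orderOf
      · omega
      · omega
    exact hz1 (hW6 _ (pow_mem (mem_zpowers u) _) hv1 z hzL hcomm)
  have hfinj : Set.InjOn f (Finset.range p : Set ℕ) := by
    intro i hi j hj hfe
    simp only [Finset.coe_range, Set.mem_Iio] at hi hj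
    by_contra hne
    rcases Nat.lt_or_gt_of_ne hne with hlt | hgt
    · exact key i j hlt hj hfe
    · exact key j i hgt hi hfe.symm
  have hcard := Finset.card_le_card_of_injOn f hfmem hfinj
  rw [Finset.card_range] at hcard
  have h3 : ({z, z', z * z'} : Finset G).card ≤ 3 := Finset.card_le_three
  omega

/-- [W8b] In the configuration with `|T| = p - 1`, `|L| = (p - 1)²`: `p = 3`. -/
theorem Local.p_eq_three (h : Local p G) (P : Sylow p G) (L : Subgroup G) (u : G)
    (hc : TConf p P L u) (hp : 3 ≤ p) (hL : Nat.card L = (p - 1) * (p - 1))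
    (hT : Nat.card (L ⊓ centralizer ((P : Subgroup G) : Set G) : Subgroup G) = p - 1) :
    p = 3 :=
  w8b_core h P L u hc hp hL hT
    (fun {l} hl hlo hlc => cyc_fpf (P : Subgroup G) (h.cyc P) P.isPGroup' hl hlo hlc)
    (h.semireg P L u hc)

end Cfsg.Agent.Lib.Helper15.CycSyl
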