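import Mathlib
import Cfsg.Prelude.Def_Transfer
import Cfsg.Agent.Lib.Helper15.CycSylDefs

set_option autoImplicit false

/-!
# S4016 hive, leaf W9b: for `p = 3` all involutions are conjugate into `C(P)`
-/

namespace Cfsg.Agent.Lib.Helper15.CycSyl

open Subgroup

universe u

variable {G : Type*} [Group G] [Finite G] {p : ℕ} [Fact p.Prime]

/-- a subgroup of order `4` with three distinct nonidentity elements consists of them -/
theorem w9b_four (S : Subgroup G) (hS : Nat.card S = 4) {a b c : G} (ha : a ∈ S) (hb : b ∈ S)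
    (hc : c ∈ S) (ha1 : a ≠ 1) (hb1 : b ≠ 1) (hc1 : c ≠ 1) (hab : a ≠ b) (hbc : b ≠ c)
    (hac : a ≠ c) : ∀ y ∈ S, y ≠ 1 → y = a ∨ y = b ∨ y = c := by
  classical
  intro y hy hy1
  by_contra hne
  push Not at hne
  obtain ⟨hya, hyb, hyc⟩ := hne
  let A : Finset G := {1, a, b, c, y}
  have hAcard : A.card = 5 := by
    rw [Finset.card_insert_of_notMem, Finset.card_insert_of_notMem, Finset.card_insert_of_notMem,
      Finset.card_insert_of_notMem, Finset.card_singleton]
    · simp only [Finset.mem_singleton]; exact fun h => hyc h.symm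
    · simp only [Finset.mem_insert, Finset.mem_singleton]; push Not
      exact ⟨hbc, fun h => hyb h.symm⟩
    · simp only [Finset.mem_insert, Finset.mem_singleton]; push Not
      exact ⟨hab, hac, fun h => hya h.symm⟩
    · simp only [Finset.mem_insert, Finset.mem_singleton]; push Not
      exact ⟨fun h => ha1 h.symm, fun h => hb1 h.symm, fun h => hc1 h.symm, fun h => hy1 h.symm⟩
  have hAS : (A : Set G) ⊆ (S : Set G) := by
    intro x hx
    simp only [A, Finset.coe_insert, Finset.coe_singleton, Set.mem_insert_iff,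
      Set.mem_singleton_iff] at hx
    rcases hx with rfl | rfl | rfl | rfl | rfl
    · exact S.one_mem
    · exact ha
    · exact hb
    · exact hc
    · exact hy
  have h1 : (A : Set G).ncard ≤ (S : Set G).ncard :=
    Set.ncard_le_ncard hAS (Set.toFinite _)
  rw [Set.ncard_coe_finset, hAcard] at h1
  have h2 : (S : Set G).ncard = 4 := by
    rw [← hS]; exact (Nat.card_coe_set_eq _).symm
  omega

/-- [W9b] -/
theorem Local.invol_conj (h : Local p G) (hp3 : p = 3) (P : Sylow p G)
    (hN : Nat.card (normalizer ((P : Subgroup G) : Set G)) = 4 * Nat.card (P : Subgroup G))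
    (hC : Nat.card (centralizer ((P : Subgroup G) : Set G)) = 2 * Nat.card (P : Subgroup G)) :
    ∀ z : G, orderOf z = 2 → ∃ g : G, g * z * g⁻¹ ∈ centralizer ((P : Subgroup G) : Set G) := by
  subst hp3
  have : Fact (Nat.Prime 2) := ⟨Nat.prime_two⟩
  -- x0
  have h2C : 2 ∣ Nat.card (centralizer ((P : Subgroup G) : Set G)) := by rw [hC]; exact ⟨_, rfl⟩
  obtain ⟨x0', hx0'⟩ := exists_prime_orderOf_dvd_card' 2 h2C
  set x0 : G := (x0' : G) with hx0def
  have hx0C : x0 ∈ centralizer ((P : Subgroup G) : Set G) := x0'.2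
  have hx0o : orderOf x0 = 2 := by rw [hx0def, Subgroup.orderOf_coe]; exact hx0'
  have hx01 : x0 ≠ 1 := by
    intro h1
    rw [h1, orderOf_one] at hx0o
    omega
  have hf2 := h.f2 P x0 hx0C hx01 (by rw [hx0o]; decide)
  -- S
  have hzp : ∀ w : G, orderOf w = 2 → IsPGroup 2 (zpowers w) := by
    intro w hw
    apply IsPGroup.of_card (n := 1)
    rw [Nat.card_zpowers, hw, pow_one]
  obtain ⟨S, hS⟩ := (hzp x0 hx0o).exists_le_sylow
  have hx0S : x0 ∈ (S : Subgroup G) := hS (mem_zpowers x0)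
  obtain ⟨k, hk⟩ := IsPGroup.iff_card.mp S.isPGroup'
  have hScop : (Nat.card (S : Subgroup G)).Coprime 3 := by
    rw [hk]
    exact Nat.Coprime.pow_left k (by decide)
  have hSab := h.ab (S : Subgroup G) hScop
  have hSN : (S : Subgroup G) ≤ normalizer ((P : Subgroup G) : Set G) := by
    rw [← hf2]
    intro s hs
    rw [mem_centralizer_iff]
    intro y hy
    rw [Set.mem_singleton_iff] at hy
    rw [hy]
    exact hSab x0 hx0S s hs
  have hScard : Nat.card (S : Subgroup G) = 4 := by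
    obtain ⟨m, hm⟩ := IsPGroup.iff_card.mp P.isPGroup'
    have h1 : Nat.card (S : Subgroup G) ∣ 4 * Nat.card (P : Subgroup G) := by
      rw [← hN]; exact Subgroup.card_dvd_of_le hSN
    have h2 : Nat.card (S : Subgroup G) ∣ 4 := by
      apply Nat.Coprime.dvd_of_dvd_mul_right _ h1
      rw [hk, hm]
      exact Nat.Coprime.pow k m (by decide)
    have h3 : 4 ∣ Nat.card G := by
      have : Nat.card (normalizer ((P : Subgroup G) : Set G)) ∣ Nat.card G :=
        Subgroup.card_subgroup_dvd_card _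
      rw [hN] at this
      exact (Dvd.intro _ rfl).trans this
    have h4 : 2 ^ 2 ∣ Nat.card (S : Subgroup G) := S.pow_dvd_card_of_pow_dvd_card (by simpa using h3)
    exact Nat.dvd_antisymm h2 (by simpa using h4)
  have hSbot : (S : Subgroup G) ≠ ⊥ := by
    intro hb
    rw [hb, Subgroup.card_bot] at hScard
    omega
  -- burn
  obtain ⟨u, huN, huC, kk, hukk⟩ := h.burn 2 Nat.prime_two (by decide) S hSbot
  have hex : ∃ s ∈ (S : Subgroup G), u * s * u⁻¹ ≠ s := by
    by_contra hne
    push Not at hne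
    apply huC
    rw [mem_centralizer_iff]
    intro s hs
    have := hne s hs
    calc s * u = (u * s * u⁻¹) * u := by rw [this]
      _ = u * s := by group
  obtain ⟨s, hsS, hsu⟩ := hex
  have hconjS : ∀ y ∈ (S : Subgroup G), u * y * u⁻¹ ∈ (S : Subgroup G) :=
    fun y hy => (mem_normalizer_iff.mp huN y).mp hy
  have hs1 : s ≠ 1 := by
    rintro rfl
    apply hsu
    group
  obtain ⟨s', hs'def⟩ : ∃ s' : G, s' = u * s * u⁻¹ := ⟨_, rfl⟩
  obtain ⟨s'', hs''def⟩ : ∃ s'' : G, s'' = u * s' * u⁻¹ := ⟨_, rfl⟩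
  have hs'S : s' ∈ (S : Subgroup G) := by rw [hs'def]; exact hconjS s hsS
  have hs''S : s'' ∈ (S : Subgroup G) := by rw [hs''def]; exact hconjS s' hs'S
  have hs'1 : s' ≠ 1 := by
    intro h1
    apply hs1
    have : s = u⁻¹ * s' * u := by rw [hs'def]; group
    rw [this, h1]; group
  have hs''1 : s'' ≠ 1 := by
    intro h1
    apply hs'1
    have : s' = u⁻¹ * s'' * u := by rw [hs''def]; group
    rw [this, h1]; group
  have hss' : s ≠ s' := fun h1 => hsu (by rw [← hs'def]; exact h1.symm)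
  have hs's'' : s' ≠ s'' := by
    intro h1
    apply hss'
    rw [hs''def] at h1
    nth_rewrite 1 [hs'def] at h1
    exact mul_left_cancel (mul_right_cancel h1)
  have hss'' : s ≠ s'' := by
    intro h1
    -- u^2 commutes with s, and u is a power of u^2
    have hcomm2 : Commute (u ^ 2) s := by
      have : u ^ 2 * s * (u ^ 2)⁻¹ = s := by
        have : u ^ 2 * s * (u ^ 2)⁻¹ = s'' := by rw [hs''def, hs'def, pow_two]; group
        rw [this, ← h1]
      show u ^ 2 * s = s * u ^ 2
      calc u ^ 2 * s = (u ^ 2 * s * (u ^ 2)⁻¹) * u ^ 2 := by group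
        _ = s * u ^ 2 := by rw [this]
    have hodd : Odd (3 ^ kk) := Odd.pow (by decide)
    obtain ⟨m, hm⟩ := hodd
    have hu : u = (u ^ 2) ^ (m + 1) := by
      rw [← pow_mul]
      have : 2 * (m + 1) = 3 ^ kk + 1 := by omega
      rw [this, pow_succ, hukk, one_mul]
    have hcomm : Commute u s := by
      rw [hu]; exact hcomm2.pow_left _
    apply hsu
    rw [hcomm.eq, mul_inv_cancel_right]
  have hcover := w9b_four (S : Subgroup G) hScard hsS hs'S hs''S hs1 hs'1 hs''1 hss' hs's'' hss''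
  -- every nonidentity element of S is conjugate to s
  have hconj_s : ∀ y ∈ (S : Subgroup G), y ≠ 1 → ∃ g : G, y = g * s * g⁻¹ := by
    intro y hy hy1
    rcases hcover y hy hy1 with rfl | rfl | rfl
    · exact ⟨1, by group⟩
    · exact ⟨u, hs'def⟩
    · exact ⟨u * u, by rw [hs''def, hs'def]; group⟩
  obtain ⟨g0, hg0⟩ := hconj_s x0 hx0S hx01
  -- an arbitrary involution
  intro z hz
  obtain ⟨Q, hQ⟩ := (hzp z hz).exists_le_sylow
  obtain ⟨g, hg⟩ := MulAction.exists_smul_eq G S Q
  have hzQ : z ∈ ((g • S : Sylow 2 G) : Subgroup G) := by rw [hg]; exact hQ (mem_zpowers z)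
  rw [Sylow.coe_subgroup_smul, Subgroup.mem_pointwise_smul_iff_inv_smul_mem, ← map_inv,
    MulAut.smul_def, MulAut.conj_apply] at hzQ
  have hy1 : g⁻¹ * z * g⁻¹⁻¹ ≠ 1 := by
    intro h1
    have : z = 1 := by
      have : z = g * (g⁻¹ * z * g⁻¹⁻¹) * g⁻¹ := by group
      rw [this, h1]; group
    rw [this, orderOf_one] at hz
    omega
  obtain ⟨g1, hg1⟩ := hconj_s _ hzQ hy1
  refine ⟨g0 * g1⁻¹ * g⁻¹, ?_⟩
  have : g0 * g1⁻¹ * g⁻¹ * z * (g0 * g1⁻¹ * g⁻¹)⁻¹ = g0 * (g1⁻¹ * (g⁻¹ * z * g⁻¹⁻¹) * g1) * g0⁻¹ := by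
    group
  rw [this, hg1]
  have : g0 * (g1⁻¹ * (g1 * s * g1⁻¹) * g1) * g0⁻¹ = g0 * s * g0⁻¹ := by group
  rw [this, ← hg0]
  exact hx0C

end Cfsg.Agent.Lib.Helper15.CycSyl
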