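import Mathlib

/-! D3 hive (S2183, helper12), leaf D3-TRS: Mathlib-only core (the trace form `tr3` written out). -/

set_option autoImplicit false

namespace Cfsg.Agent.Lib.Helper12.D3

/-- core of D3-TRS with `tr3 x y = φ (φ x) * φ y + φ x * y + x * φ (φ y)` unfolded;
witnesses `σ = d / φ c`, `ρ = d / φ (φ c)`; `3 d = d` in characteristic `2`. -/
theorem d3trs_core (K : Type*) [Field K] (φ : K →+* K) [CharP K 2]
    (h3 : ∀ x : K, φ (φ (φ x)) = x) (c d : K) (hc : c ≠ 0) (hd : φ d = d) :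
    (∃ σ : K, φ (φ c) * φ σ + φ c * σ + c * φ (φ σ) = d) ∧
      (∃ ρ : K, φ (φ ρ) * φ c + φ ρ * c + ρ * φ (φ c) = d) := by
  have h1 : φ c ≠ 0 := (map_ne_zero φ).mpr hc
  have h2 : φ (φ c) ≠ 0 := (map_ne_zero φ).mpr h1
  have h2' : (2 : K) = 0 := by exact_mod_cast CharP.cast_eq_zero K 2
  constructor
  · refine ⟨d / φ c, ?_⟩
    simp only [map_div₀, hd, h3]
    field_simp
    linear_combination d * h2'
  · refine ⟨d / φ (φ c), ?_⟩
    simp only [map_div₀, hd, h3]
    field_simp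
    linear_combination d * h2'

end Cfsg.Agent.Lib.Helper12.D3
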