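import Cfsg.Agent.Lib.Helper12.D3Defs
import Cfsg.Agent.Lib.Helper11.D3TRScore

/-! D3 hive (S2183, helper12), leaf D3-TRS: `tr3_solve` (wrapper of the Mathlib-only core `d3trs_core`). -/

set_option autoImplicit false

namespace Cfsg.Agent.Lib.Helper12.D3

open Cfsg Cfsg.Lie Cfsg.Agent.Lib.Helper36 Cfsg.Agent.Lib.Helper75.D4g

variable (K : Type*) [Field K] (φ : K →+* K)

/-- D3-TRS (`σ = d / φ c`, resp. `ρ = d / φ (φ c)`) -/
theorem tr3_solve [CharP K 2] (h3 : ∀ x : K, φ (φ (φ x)) = x) (c d : K) (hc : c ≠ 0) (hd : φ d = d) :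
    (∃ σ : K, tr3 K φ c σ = d) ∧ (∃ ρ : K, tr3 K φ ρ c = d) :=
  d3trs_core K φ h3 c d hc hd

end Cfsg.Agent.Lib.Helper12.D3
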