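import Cfsg.Prelude.Def_ConjugacyFunctors
import Cfsg.Prelude.Def_TwoFusion
import Cfsg.Agent.Lib.Helper33.WellPlaced
import Cfsg.Agent.Lib.Helper11.ThompsonCritClosed

set_option autoImplicit false
set_option linter.unusedSectionVars false
open Cfsg

/-!
# The part of a `p`-subgroup lying in the conjugates of a strongly closed subgroup, and the
conjugacy functor `R ↦ W(R ∩ D^G)`.
-/

namespace Cfsg.Agent.Lib.Helper11

open Cfsg.Agent.Lib.Helper33

variable {G : Type*} [Group G]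

/-- `R ∩ D^g` for all `g` with `R ≤ P^g`: for a `p`-subgroup `R` and `D` strongly closed in the
Sylow subgroup `P`, this is the intersection of `R` with the union of the conjugates of `D`. -/
def dPart (P D R : Subgroup G) : Subgroup G :=
  R ⊓ ⨅ (g : G) (_ : R ≤ cj g P), cj g D

theorem mem_dPart {P D R : Subgroup G} {x : G} :
    x ∈ dPart P D R ↔ x ∈ R ∧ ∀ g : G, R ≤ cj g P → x ∈ cj g D := by
  unfold dPart
  rw [Subgroup.mem_inf, Subgroup.mem_iInf]
  simp only [Subgroup.mem_iInf]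

theorem dPart_le (P D R : Subgroup G) : dPart P D R ≤ R := inf_le_left

theorem dPart_eq {P D R : Subgroup G} (hD : IsStronglyClosed D P) {g : G} (hR : R ≤ cj g P) :
    dPart P D R = R ⊓ cj g D := by
  ext x
  rw [mem_dPart, Subgroup.mem_inf]
  constructor
  · rintro ⟨h1, h2⟩
    exact ⟨h1, h2 g hR⟩
  · rintro ⟨h1, h2⟩
    refine ⟨h1, ?_⟩
    intro g' hg'
    rw [mem_cj] at h2 ⊢
    have h3 : g'⁻¹ * x * g' ∈ P := mem_cj.mp (hg' h1)
    have h4 := hD.2 _ h2 (g'⁻¹ * g) (by
      have : g'⁻¹ * g * (g⁻¹ * x * g) * (g'⁻¹ * g)⁻¹ = g'⁻¹ * x * g' := by group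
      rw [this]; exact h3)
    have : g'⁻¹ * g * (g⁻¹ * x * g) * (g'⁻¹ * g)⁻¹ = g'⁻¹ * x * g' := by group
    rwa [this] at h4

theorem dPart_eq_self {P D R : Subgroup G} (hD : IsStronglyClosed D P) (hR : R ≤ P) :
    dPart P D R = R ⊓ D := by
  have := dPart_eq (R := R) hD (g := 1) (by rw [cj_one]; exact hR)
  rwa [cj_one] at this

theorem dPart_cj (P D R : Subgroup G) (k : G) : dPart P D (cj k R) = cj k (dPart P D R) := by
  ext x
  rw [mem_cj, mem_dPart, mem_dPart]
  constructor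
  · rintro ⟨h1, h2⟩
    refine ⟨mem_cj.mp h1, ?_⟩
    intro g' hg'
    have h3 := h2 (k * g') (by rw [cj_mul]; exact cj_mono hg')
    rw [cj_mul, mem_cj] at h3
    exact h3
  · rintro ⟨h1, h2⟩
    refine ⟨mem_cj.mpr h1, ?_⟩
    intro g hg
    have h3 := h2 (k⁻¹ * g) (by
      rw [cj_mul, ← cj_le_iff]; exact hg)
    rw [cj_mul, mem_cj, inv_inv] at h3
    have h4 : k * (k⁻¹ * x * k) * k⁻¹ = x := by group
    rwa [h4] at h3

open Classical in
/-- the functor `R ↦ W(R ∩ D^G)` (and `W(R)` when `R ∩ D^G = 1`) -/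
noncomputable def dW (Wz : Subgroup G → Subgroup G) (P D R : Subgroup G) : Subgroup G :=
  if dPart P D R = ⊥ then Wz R else Wz (dPart P D R)

theorem dW_of_ne_bot {Wz : Subgroup G → Subgroup G} {P D R : Subgroup G}
    (h : dPart P D R ≠ ⊥) : dW Wz P D R = Wz (dPart P D R) := by
  unfold dW
  rw [if_neg h]

theorem isConjugacyFunctor_dW {p : ℕ} {Wz : Subgroup G → Subgroup G}
    (hWz : IsConjugacyFunctor p Wz) (P D : Subgroup G) :
    IsConjugacyFunctor p (dW Wz P D) := by
  intro R hR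
  have hdp : IsPGroup p (dPart P D R) := hR.to_le (dPart_le P D R)
  refine ⟨?_, ?_, ?_⟩
  · unfold dW
    split_ifs with h
    · exact (hWz R hR).1
    · exact ((hWz _ hdp).1).trans (dPart_le P D R)
  · intro hne
    unfold dW
    split_ifs with h
    · exact (hWz R hR).2.1 hne
    · exact (hWz _ hdp).2.1 h
  · intro g
    have h1 : dPart P D (R.map (MulAut.conj g).toMonoidHom) =
        (dPart P D R).map (MulAut.conj g).toMonoidHom := dPart_cj P D R g
    have h2 : dPart P D (R.map (MulAut.conj g).toMonoidHom) = ⊥ ↔ dPart P D R = ⊥ := by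
      rw [h1]
      exact Subgroup.map_eq_bot_iff_of_injective _ (MulAut.conj g).injective
    unfold dW
    by_cases h : dPart P D R = ⊥
    · rw [if_pos h, if_pos (h2.mpr h)]
      exact (hWz R hR).2.2 g
    · rw [if_neg h, if_neg (fun h' => h (h2.mp h')), h1]
      exact (hWz _ hdp).2.2 g

section fin

variable [Finite G] {p : ℕ} [Fact p.Prime]

/-- `zQ Q` is a conjugacy functor -/
theorem isConjugacyFunctor_zQ {Q : Subgroup G → Prop} (hbot : Q ⊥)
    (hmap : ∀ (φ : G ≃* G) (X : Subgroup G), Q X → Q (X.map φ.toMonoidHom))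
    (hne : ∀ R : Subgroup G, IsPGroup p R → R ≠ ⊥ → zQ Q R ≠ ⊥) :
    IsConjugacyFunctor p (zQ Q) := by
  intro R hR
  exact ⟨zQ_le hbot R, hne R hR, fun g => zQ_map hmap (MulAut.conj g) R⟩

/-- the `D`-part of a subgroup `R` of the Sylow subgroup `P` containing `Z(P)` is nontrivial -/
theorem dPart_ne_bot (P : Sylow p G) {D : Subgroup G} (hD : IsStronglyClosed D (P : Subgroup G))
    (hDne : D ≠ ⊥) {R : Subgroup G} (hRP : R ≤ (P : Subgroup G))
    (hZ : ∀ z ∈ (P : Subgroup G), (∀ t ∈ (P : Subgroup G), t * z = z * t) → z ∈ R) :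
    dPart (P : Subgroup G) D R ≠ ⊥ := by
  obtain ⟨z, hzD, hz1, hzc⟩ := exists_central_mem_of_stronglyClosed P hD hDne
  intro h
  apply hz1
  have : z ∈ dPart (P : Subgroup G) D R := by
    rw [dPart_eq_self hD hRP]
    exact ⟨hZ z (hD.1 hzD) hzc, hzD⟩
  rw [h] at this
  exact Subgroup.mem_bot.mp this

end fin

end Cfsg.Agent.Lib.Helper11
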