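import Cfsg.Agent.Lib.Helper76.E8mDefs
import Cfsg.Agent.Lib.Helper2.SmCC
import Cfsg.Agent.Lib.Helper24.Sm_GCM

/-! E8m hive (S2107, owner helper76), leaf E-MOVE: the `A₃`-move `f_{p,qr}(t, N_{q,r} s w) = f_{pq,r}(N_{p,q} t s, w)`. -/

set_option autoImplicit false

universe u

namespace Cfsg.Agent.Lib.Helper76.E8m

open Cfsg Cfsg.Lie Cfsg.Agent.Lib.Helper39.Sm
open scoped commutatorElement

section A
variable {D : ChevalleyDatum} {dec : ℕ → ℕ × ℕ} {K : Type*} [Field K] {G : Type*} [Group G]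
  {Y : Type*} [Group Y] (S : SLSys D K G) (φ : Y →* G) (hφ : Function.Surjective φ)

/-- E-MOVE -/
theorem move (hc : φ.ker ≤ Subgroup.center Y) (hL : LAp S φ) {p q r pq qr e : ℕ}
    (h : A3 D p q r pq qr e) (t s w : K) :
    ff S φ hφ p qr t (((ep D q r : ℤ) : K) * s * w) = ff S φ hφ pq r (((ep D p q : ℤ) : K) * t * s) w := by
  obtain ⟨u, hu⟩ : ∃ u : Y, φ u = S.X p t := ⟨_, map_lft φ hφ _⟩
  obtain ⟨v, hv⟩ : ∃ v : Y, φ v = S.X q s := ⟨_, map_lft φ hφ _⟩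
  obtain ⟨w', hw⟩ : ∃ w' : Y, φ w' = S.X r w := ⟨_, map_lft φ hφ _⟩
  have hvw : φ ⁅v, w'⁆ = S.X qr (((ep D q r : ℤ) : K) * s * w) := by
    rw [map_commutatorElement, hv, hw, S.X_sum q r qr h.hqr]
  have huv : φ ⁅u, v⁆ = S.X pq (((ep D p q : ℤ) : K) * t * s) := by
    rw [map_commutatorElement, hu, hv, S.X_sum p q pq h.hpq]
  have huvw : φ ⁅u, ⁅v, w'⁆⁆ =
      S.X e (((ep D p qr : ℤ) : K) * t * (((ep D q r : ℤ) : K) * s * w)) := by
    rw [map_commutatorElement, hu, hvw, S.X_sum p qr e h.hpqr']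
  have h1 : Commute u w' := hL h.c1 t w hu hw
  have h2 : Commute ⁅u, v⁆ ⁅v, w'⁆ := hL h.c2 _ _ huv hvw
  have h3 : Commute ⁅u, ⁅v, w'⁆⁆ ⁅v, w'⁆ := hL h.c3 _ _ huvw hvw
  unfold ff
  rw [cm_eq φ hφ hc hu hvw, cm_eq φ hφ hc huv hw]
  have key := cc_three u v w' h1.eq
    (by simpa only [commutatorElement_def] using h2.eq)
    (by simpa only [commutatorElement_def] using h3.eq)
  simp only [commutatorElement_def]
  exact key.symm

end A

end Cfsg.Agent.Lib.Helper76.E8m
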