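import Cfsg.Agent.Lib.Helper33.SylowSub
import Cfsg.Agent.Lib.Helper33.WellPlaced
import Cfsg.Agent.Lib.Helper33.PPrimeCore
import Cfsg.Agent.Lib.Helper33.NormalFusion

set_option autoImplicit false
set_option linter.unusedSectionVars false
open Cfsg

/-!
# Control of strong fusion by `N(V)` when `V K` is normal, `K` a normal `p'`-subgroup.
-/

namespace Cfsg.Agent.Lib.Helper11

open Cfsg.Agent.Lib.Helper33

variable {X : Type*} [Group X] [Finite X] {p : ℕ} [hp : Fact p.Prime]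

theorem not_dvd_relIndex_sup_of_coprime (K : Subgroup X) [K.Normal]
    (hK : (Nat.card K).Coprime p) (Q : Subgroup X) : ¬ p ∣ Q.relIndex (Q ⊔ K) := by
  have h1 := card_sup_dvd_mul' Q K
  rw [← card_mul_relIndex_eq' (le_sup_left : Q ≤ Q ⊔ K)] at h1
  have h2 : Q.relIndex (Q ⊔ K) ∣ Nat.card K :=
    (Nat.mul_dvd_mul_iff_left Nat.card_pos).mp h1
  intro h
  have h3 : p ∣ Nat.card K := dvd_trans h h2
  have h4 := Nat.Coprime.eq_one_of_dvd hK.symm h3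
  exact hp.out.one_lt.ne' h4

theorem eq_one_of_mem_pGroup_of_mem_coprime {K R : Subgroup X} (hK : (Nat.card K).Coprime p)
    (hR : IsPGroup p R) {x : X} (hxR : x ∈ R) (hxK : x ∈ K) : x = 1 := by
  have h1 : R ⊓ K = ⊥ := by
    apply disjoint_iff.mp
    apply Subgroup.disjoint_of_coprime_natCard
    obtain ⟨j, hj⟩ := IsPGroup.iff_card.mp hR
    rw [hj]
    exact (Nat.Coprime.pow_right j hK).symm
  have : x ∈ R ⊓ K := ⟨hxR, hxK⟩
  rw [h1] at this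
  exact Subgroup.mem_bot.mp this

/-- If `K` is a normal `p'`-subgroup, `R` a `p`-subgroup, `V ≤ R` and `V K` is normal, then
`N(V)` controls strong fusion in `R`. -/
theorem control_of_sup_normal (K : Subgroup X) [hKn : K.Normal] (hK : (Nat.card K).Coprime p)
    (R : Subgroup X) (hR : IsPGroup p R) (V : Subgroup X) (hVR : V ≤ R)
    (hVK : (V ⊔ K).Normal) (A : Set X) (h : X) (hA : A ⊆ R)
    (hAh : ∀ a ∈ A, h * a * h⁻¹ ∈ R) :
    ∃ x ∈ Subgroup.normalizer (V : Set X), ∀ a ∈ A, x * a * x⁻¹ = h * a * h⁻¹ := by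
  obtain ⟨A₀, hA₀⟩ : ∃ A₀ : Subgroup X, A₀ = Subgroup.closure A := ⟨_, rfl⟩
  have hA₀R : A₀ ≤ R := by rw [hA₀]; exact (Subgroup.closure_le R).mpr hA
  have hA₀h : cj h A₀ ≤ R := by
    rw [hA₀, cj_def, MonoidHom.map_closure, Subgroup.closure_le]
    rintro _ ⟨a, ha, rfl⟩
    exact hAh a ha
  obtain ⟨V', hV'⟩ : ∃ V' : Subgroup X, V' = cj h⁻¹ V := ⟨_, rfl⟩
  obtain ⟨P₁, hP₁⟩ : ∃ P₁ : Subgroup X, P₁ = V ⊔ A₀ := ⟨_, rfl⟩
  obtain ⟨P₂, hP₂⟩ : ∃ P₂ : Subgroup X, P₂ = V' ⊔ A₀ := ⟨_, rfl⟩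
  have hP₁R : P₁ ≤ R := by rw [hP₁]; exact sup_le hVR hA₀R
  have hP₁p : IsPGroup p P₁ := hR.to_le hP₁R
  have hP₂R : P₂ ≤ cj h⁻¹ R := by
    rw [hP₂, hV']
    refine sup_le (cj_mono hVR) ?_
    rw [le_cj_iff, inv_inv]
    exact hA₀h
  have hcjp : IsPGroup p (cj h⁻¹ R) := by rw [cj_def]; exact hR.map _
  have hP₂p : IsPGroup p P₂ := hcjp.to_le hP₂R
  have hV'VK : V' ≤ V ⊔ K := by
    rw [hV']
    intro x hx
    obtain ⟨v, hv, rfl⟩ := mem_cj'.mp hx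
    exact hVK.conj_mem v (Subgroup.mem_sup_left hv) h⁻¹
  have hP₂le : P₂ ≤ P₁ ⊔ K := by
    rw [hP₂, hP₁]
    refine sup_le (hV'VK.trans ?_) (le_sup_right.trans le_sup_left)
    exact sup_le (le_sup_left.trans le_sup_left) le_sup_right
  obtain ⟨c, hc, hcP⟩ := sylow_sub (le_sup_left : P₁ ≤ P₁ ⊔ K) hP₁p
    (not_dvd_relIndex_sup_of_coprime K hK P₁) hP₂le hP₂p
  rw [Subgroup.mem_sup_of_normal_right] at hc
  obtain ⟨q, hq, k, hk, rfl⟩ := hc
  -- `k` alone conjugates `P₂` into `P₁`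
  have hkP : cj k P₂ ≤ P₁ := by
    rw [cj_mul] at hcP
    rw [cj_le_iff] at hcP
    refine hcP.trans ?_
    intro x hx
    have := mem_cj.mp hx
    rw [inv_inv] at this
    have h2 := P₁.mul_mem (P₁.mul_mem (P₁.inv_mem hq) this) hq
    have h3 : q⁻¹ * (q * x * q⁻¹) * q = x := by group
    rwa [h3] at h2
  -- `k` centralizes `A₀`
  have hkA : ∀ a ∈ A₀, k * a * k⁻¹ = a := by
    intro a ha
    have h1 : k * a * k⁻¹ ∈ R := hP₁R (hkP (conj_mem_cj (hP₂ ▸ Subgroup.mem_sup_right ha)))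
    have h2 : k * a * k⁻¹ * a⁻¹ ∈ R := R.mul_mem h1 (R.inv_mem (hA₀R ha))
    have h3 : k * a * k⁻¹ * a⁻¹ ∈ K := by
      have : k * a * k⁻¹ * a⁻¹ = k * (a * k⁻¹ * a⁻¹) := by group
      rw [this]
      exact K.mul_mem hk (hKn.conj_mem k⁻¹ (K.inv_mem hk) a)
    have h4 := eq_one_of_mem_pGroup_of_mem_coprime hK hR h2 h3
    exact mul_inv_eq_one.mp h4
  -- `k h⁻¹` normalizes `V`
  have hVsyl : P₁ ⊓ (V ⊔ K) = V := by
    symm
    apply eq_of_le_pgroup_of_not_dvd (le_inf (hP₁ ▸ le_sup_left) le_sup_left) inf_le_right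
      (hP₁p.to_le inf_le_left) (not_dvd_relIndex_sup_of_coprime K hK V)
  have hkV : cj (k * h⁻¹) V ≤ V := by
    rw [cj_mul, ← hV', ← hVsyl]
    refine le_inf ((cj_mono (hP₂ ▸ le_sup_left : V' ≤ P₂)).trans hkP) ?_
    intro x hx
    obtain ⟨v, hv, rfl⟩ := mem_cj'.mp hx
    exact hVK.conj_mem v (hV'VK hv) k
  have hkVeq : cj (k * h⁻¹) V = V := cj_eq_of_le hkV
  have hxN : h * k⁻¹ ∈ Subgroup.normalizer (V : Set X) := by
    have h1 : k * h⁻¹ ∈ Subgroup.normalizer (V : Set X) := by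
      rw [Subgroup.mem_normalizer_iff]
      intro v
      constructor
      · intro hv
        rw [← hkVeq]
        exact conj_mem_cj hv
      · intro hv
        rw [← hkVeq] at hv
        exact conj_mem_cj_iff.mp hv
    have h2 := Subgroup.inv_mem _ h1
    have h3 : (k * h⁻¹)⁻¹ = h * k⁻¹ := by group
    rwa [h3] at h2
  refine ⟨h * k⁻¹, hxN, ?_⟩
  intro a ha
  have ha₀ : a ∈ A₀ := by rw [hA₀]; exact Subgroup.subset_closure ha
  have h1 := hkA a ha₀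
  have h2 : k⁻¹ * a * k = a := by
    calc k⁻¹ * a * k = k⁻¹ * (k * a * k⁻¹) * k := by rw [h1]
      _ = a := by group
  calc h * k⁻¹ * a * (h * k⁻¹)⁻¹ = h * (k⁻¹ * a * k) * h⁻¹ := by group
    _ = h * a * h⁻¹ := by rw [h2]

end Cfsg.Agent.Lib.Helper11
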