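import Cfsg.Agent.Lib.Helper11.Repl
import Cfsg.Agent.S0648

set_option autoImplicit false

namespace Cfsg.Agent.Lib.Helper11

open scoped commutatorElement

variable {S : Type*} [Group S]

/-- generators of `[A, b]` -/
def rGens (A : Subgroup S) (b : S) : Set S := {g : S | ∃ a ∈ A, g = a * b⁻¹ * a⁻¹ * b}

/-- `[A, b]` -/
def rK (A : Subgroup S) (b : S) : Subgroup S := Subgroup.closure (rGens A b)

/-- the conjugate `b⁻¹ A b` -/
def rA1 (A : Subgroup S) (b : S) : Subgroup S := A.map (MulAut.conj b⁻¹).toMonoidHom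

/-- `A ∩ b⁻¹ A b` -/
def rZ (A : Subgroup S) (b : S) : Subgroup S := A ⊓ rA1 A b

/-- the replacement `A*` -/
def rStar (A : Subgroup S) (b : S) : Subgroup S := rZ A b ⊔ rK A b

/-- the standing hypotheses -/
def RSetup (A B : Subgroup S) (b : S) : Prop :=
  B.Normal ∧ (∀ x ∈ A, ∀ y ∈ A, x * y = y * x) ∧ ⁅B, B⁆ ≤ A ∧ b ∈ B ∧
    b ∈ Subgroup.normalizer ((Subgroup.normalizer (A : Set S) : Subgroup S) : Set S)

theorem mem_rA1 (A : Subgroup S) (b x : S) : x ∈ rA1 A b ↔ b * x * b⁻¹ ∈ A := by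
  unfold rA1
  constructor
  · rintro ⟨a, ha, rfl⟩
    have : b * ((MulAut.conj b⁻¹).toMonoidHom a) * b⁻¹ = a := by
      simp [MulAut.conj_apply, mul_assoc]
    rw [this]; exact ha
  · intro h
    refine ⟨b * x * b⁻¹, h, ?_⟩
    simp [MulAut.conj_apply, mul_assoc]

section
variable {A B : Subgroup S} {b : S}

theorem RSetup.conj_mem_N (h : RSetup A B b) {n : S}
    (hn : n ∈ Subgroup.normalizer (A : Set S)) :
    b * n * b⁻¹ ∈ Subgroup.normalizer (A : Set S) ∧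
      b⁻¹ * n * b ∈ Subgroup.normalizer (A : Set S) := by
  have hb := h.2.2.2.2
  rw [Subgroup.mem_normalizer_iff] at hb
  refine ⟨(hb n).mp hn, ?_⟩
  rw [hb (b⁻¹ * n * b)]
  have : b * (b⁻¹ * n * b) * b⁻¹ = n := by group
  rw [this]; exact hn

theorem RSetup.A_le_N (_h : RSetup A B b) : A ≤ Subgroup.normalizer (A : Set S) :=
  Subgroup.le_normalizer

/-- `N` normalizes `A₁` -/
theorem RSetup.N_conj_A1 (h : RSetup A B b) {n : S}
    (hn : n ∈ Subgroup.normalizer (A : Set S)) {x : S} (hx : x ∈ rA1 A b) :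
    n * x * n⁻¹ ∈ rA1 A b := by
  rw [mem_rA1] at hx ⊢
  have h1 := (h.conj_mem_N hn).1
  have h2 : b * (n * x * n⁻¹) * b⁻¹ = (b * n * b⁻¹) * (b * x * b⁻¹) * (b * n * b⁻¹)⁻¹ := by group
  rw [h2]
  exact (Subgroup.mem_normalizer_iff.mp h1 _).mp hx

theorem RSetup.A1_le_N (h : RSetup A B b) : rA1 A b ≤ Subgroup.normalizer (A : Set S) := by
  intro x hx
  rw [mem_rA1] at hx
  have := (h.conj_mem_N (Subgroup.le_normalizer hx)).2
  have h2 : b⁻¹ * (b * x * b⁻¹) * b = x := by group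
  rwa [h2] at this

/-- `N` normalizes `A` (conjugation form) -/
theorem conj_mem_of_mem_normalizer {n : S} (hn : n ∈ Subgroup.normalizer (A : Set S)) {x : S}
    (hx : x ∈ A) : n * x * n⁻¹ ∈ A :=
  (Subgroup.mem_normalizer_iff.mp hn x).mp hx

theorem conj_mem_of_mem_normalizer' {n : S} (hn : n ∈ Subgroup.normalizer (A : Set S)) {x : S}
    (hx : x ∈ A) : n⁻¹ * x * n ∈ A := by
  have := conj_mem_of_mem_normalizer (inv_mem hn) hx
  rwa [inv_inv] at this

theorem RSetup.A1_comm (h : RSetup A B b) : ∀ x ∈ rA1 A b, ∀ y ∈ rA1 A b, x * y = y * x := by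
  intro x hx y hy
  rw [mem_rA1] at hx hy
  have := h.2.1 _ hx _ hy
  have h1 : b * (x * y) * b⁻¹ = b * (y * x) * b⁻¹ := by
    calc b * (x * y) * b⁻¹ = (b * x * b⁻¹) * (b * y * b⁻¹) := by group
      _ = (b * y * b⁻¹) * (b * x * b⁻¹) := this
      _ = b * (y * x) * b⁻¹ := by group
  exact mul_left_cancel (mul_right_cancel h1)

theorem RSetup.rGens_mem_B (h : RSetup A B b) {g : S} (hg : g ∈ rGens A b) : g ∈ B := by
  obtain ⟨a, _, rfl⟩ := hg
  have := h.1.conj_mem b⁻¹ (inv_mem h.2.2.2.1) a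
  exact mul_mem this h.2.2.2.1

theorem RSetup.rK_le_B (h : RSetup A B b) : rK A b ≤ B :=
  (Subgroup.closure_le _).mpr (fun _ hg => h.rGens_mem_B hg)

theorem rGens_mem_sup {g : S} (hg : g ∈ rGens A b) : g ∈ A ⊔ rA1 A b := by
  obtain ⟨a, ha, rfl⟩ := hg
  have h1 : b⁻¹ * a⁻¹ * b ∈ rA1 A b := by
    rw [mem_rA1]
    have : b * (b⁻¹ * a⁻¹ * b) * b⁻¹ = a⁻¹ := by group
    rw [this]; exact inv_mem ha
  have : a * b⁻¹ * a⁻¹ * b = a * (b⁻¹ * a⁻¹ * b) := by group
  rw [this]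
  exact Subgroup.mul_mem_sup ha h1

theorem rK_le_sup : rK A b ≤ A ⊔ rA1 A b :=
  (Subgroup.closure_le _).mpr (fun _ hg => rGens_mem_sup hg)

theorem RSetup.sup_le_N (h : RSetup A B b) : A ⊔ rA1 A b ≤ Subgroup.normalizer (A : Set S) :=
  sup_le Subgroup.le_normalizer h.A1_le_N

theorem RSetup.rK_le_N (h : RSetup A B b) : rK A b ≤ Subgroup.normalizer (A : Set S) :=
  rK_le_sup.trans h.sup_le_N

/-- `A ∩ B ≤ A₁` -/
theorem RSetup.inf_le_rZ (h : RSetup A B b) : A ⊓ B ≤ rZ A b := by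
  intro a ha
  obtain ⟨haA, haB⟩ := Subgroup.mem_inf.mp ha
  refine Subgroup.mem_inf.mpr ⟨haA, ?_⟩
  rw [mem_rA1]
  have h1 : ⁅b, a⁆ ∈ A := h.2.2.1 (Subgroup.commutator_mem_commutator h.2.2.2.1 haB)
  have : b * a * b⁻¹ = ⁅b, a⁆ * a := by rw [commutatorElement_def]; group
  rw [this]
  exact mul_mem h1 haA

/-- `B' ≤ Z` -/
theorem RSetup.commutator_le_rZ (h : RSetup A B b) : ⁅B, B⁆ ≤ rZ A b := by
  refine le_trans (le_inf h.2.2.1 ?_) h.inf_le_rZ
  exact Subgroup.commutator_le_self B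

/-- elements of `Z` commute with `A ⊔ A₁` -/
theorem RSetup.rZ_comm_sup (h : RSetup A B b) : ∀ z ∈ rZ A b, ∀ x ∈ A ⊔ rA1 A b, z * x = x * z := by
  intro z hz x hx
  obtain ⟨hzA, hzA1⟩ := Subgroup.mem_inf.mp hz
  have : A ⊔ rA1 A b ≤ Subgroup.centralizer ({z} : Set S) := by
    apply sup_le
    · intro a ha
      rw [Subgroup.mem_centralizer_singleton_iff]
      exact h.2.1 a ha z hzA
    · intro a ha
      rw [Subgroup.mem_centralizer_singleton_iff]
      exact h.A1_comm a ha z hzA1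
  have h2 := this hx
  rw [Subgroup.mem_centralizer_singleton_iff] at h2
  exact h2.symm

theorem RSetup.rZ_comm_rK (h : RSetup A B b) : ∀ z ∈ rZ A b, ∀ k ∈ rK A b, z * k = k * z :=
  fun z hz k hk => h.rZ_comm_sup z hz k (rK_le_sup hk)

theorem RSetup.rZ_comm (h : RSetup A B b) : ∀ x ∈ rZ A b, ∀ y ∈ rZ A b, x * y = y * x :=
  fun x hx y hy => h.2.1 x (Subgroup.mem_inf.mp hx).1 y (Subgroup.mem_inf.mp hy).1

/-- `[K, A] ≤ A ∩ B` -/
theorem RSetup.commutator_rK_le (h : RSetup A B b) : ⁅rK A b, A⁆ ≤ A ⊓ B := by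
  rw [Subgroup.commutator_le]
  intro k hk a ha
  refine Subgroup.mem_inf.mpr ⟨?_, ?_⟩
  · rw [commutatorElement_def]
    have h1 := conj_mem_of_mem_normalizer (h.rK_le_N hk) ha
    exact mul_mem h1 (inv_mem ha)
  · rw [commutatorElement_def]
    have h1 : a * k⁻¹ * a⁻¹ ∈ B := h.1.conj_mem _ (inv_mem (h.rK_le_B hk)) a
    have : k * a * k⁻¹ * a⁻¹ = k * (a * k⁻¹ * a⁻¹) := by group
    rw [this]
    exact mul_mem (h.rK_le_B hk) h1

theorem RSetup.cubic (h : RSetup A B b) : ⁅⁅rK A b, A⁆, A⁆ = ⊥ := by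
  rw [eq_bot_iff]
  refine (Subgroup.commutator_mono h.commutator_rK_le le_rfl).trans ?_
  rw [Subgroup.commutator_le]
  intro x hx a ha
  rw [Subgroup.mem_bot, commutatorElement_eq_one_iff_mul_comm]
  exact h.2.1 x (Subgroup.mem_inf.mp hx).1 a ha


theorem rK_eq_closure_inv : rK A b =
    Subgroup.closure {g : S | ∃ a ∈ A, g = b⁻¹ * a * b * a⁻¹} := by
  unfold rK rGens
  apply le_antisymm
  · rw [Subgroup.closure_le]
    rintro _ ⟨a, ha, rfl⟩
    have : a * b⁻¹ * a⁻¹ * b = (b⁻¹ * a * b * a⁻¹)⁻¹ := by group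
    rw [this]
    exact inv_mem (Subgroup.subset_closure ⟨a, ha, rfl⟩)
  · rw [Subgroup.closure_le]
    rintro _ ⟨a, ha, rfl⟩
    have : b⁻¹ * a * b * a⁻¹ = (a * b⁻¹ * a⁻¹ * b)⁻¹ := by group
    rw [this]
    exact inv_mem (Subgroup.subset_closure ⟨a, ha, rfl⟩)

/-- `K = [A, b]` is commutative -/
theorem RSetup.rK_comm [Finite S] (h : RSetup A B b) {p : ℕ} [Fact p.Prime] (hS : IsPGroup p S)
    (hB2 : p = 2 → IsMulCommutative B) : ∀ x ∈ rK A b, ∀ y ∈ rK A b, x * y = y * x := by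
  intro x hx y hy
  by_cases hp : p = 2
  · have := Subgroup.le_centralizer_iff_isMulCommutative.mpr (hB2 hp)
    exact (this (h.rK_le_B hy) x (h.rK_le_B hx))
  · haveI := h.1
    have hAB : A ≤ Subgroup.normalizer (B : Set S) := by
      rw [Subgroup.normalizer_eq_top]; exact le_top
    have hAcomm : IsMulCommutative A := by
      rw [← Subgroup.le_centralizer_iff_isMulCommutative]
      intro x hx y hy
      exact h.2.1 y hy x hx
    have hc : ⁅⁅B, B⁆, A⁆ = ⊥ := by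
      rw [eq_bot_iff]
      refine (Subgroup.commutator_mono h.2.2.1 le_rfl).trans ?_
      rw [Subgroup.commutator_le]
      intro u hu a ha
      rw [Subgroup.mem_bot, commutatorElement_eq_one_iff_mul_comm]
      exact h.2.1 u hu a ha
    have h648 := (Cfsg.Agent.S0648.result A B hAB hc).2 hAcomm b h.2.2.2.1
    rw [← rK_eq_closure_inv] at h648
    have hsq := h648 h.cubic ⁅x, y⁆ (Subgroup.commutator_mem_commutator hx hy)
    obtain ⟨k, hk⟩ := hS ⁅x, y⁆
    have hodd : Nat.Coprime 2 (p ^ k) := by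
      apply Nat.Coprime.pow_right
      rw [Nat.coprime_primes Nat.prime_two (Fact.out : p.Prime)]
      exact fun h2 => hp h2.symm
    have h1 : orderOf ⁅x, y⁆ ∣ 2 := orderOf_dvd_of_pow_eq_one hsq
    have h2 : orderOf ⁅x, y⁆ ∣ p ^ k := orderOf_dvd_of_pow_eq_one hk
    have h3 : orderOf ⁅x, y⁆ = 1 := Nat.eq_one_of_dvd_coprimes hodd h1 h2
    exact commutatorElement_eq_one_iff_mul_comm.mp (orderOf_eq_one_iff.mp h3)

theorem RSetup.rStar_comm [Finite S] (h : RSetup A B b) {p : ℕ} [Fact p.Prime]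
    (hS : IsPGroup p S) (hB2 : p = 2 → IsMulCommutative B) :
    IsMulCommutative (rStar A b) :=
  isMulCommutative_sup_of_commute _ _ h.rZ_comm (h.rK_comm hS hB2) h.rZ_comm_rK

theorem rStar_le_sup : rStar A b ≤ A ⊔ rA1 A b :=
  sup_le (inf_le_left.trans le_sup_left) rK_le_sup

theorem RSetup.rStar_le_N (h : RSetup A B b) : rStar A b ≤ Subgroup.normalizer (A : Set S) :=
  rStar_le_sup.trans h.sup_le_N

theorem RSetup.inf_rStar (h : RSetup A B b) : A ⊓ rStar A b = rZ A b := by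
  apply le_antisymm
  · intro x hx
    obtain ⟨hxA, hxS⟩ := Subgroup.mem_inf.mp hx
    obtain ⟨z, hz, k, hk, rfl⟩ := mem_sup_of_commute _ _ h.rZ_comm_rK x hxS
    have hkA : k ∈ A := by
      have : k = z⁻¹ * (z * k) := by group
      rw [this]
      exact mul_mem (inv_mem (Subgroup.mem_inf.mp hz).1) hxA
    have hkZ : k ∈ rZ A b := h.inf_le_rZ (Subgroup.mem_inf.mpr ⟨hkA, h.rK_le_B hk⟩)
    exact mul_mem hz hkZ
  · exact le_inf inf_le_left le_sup_left

theorem RSetup.sup_rStar (h : RSetup A B b) : A ⊔ rStar A b = A ⊔ rA1 A b := by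
  apply le_antisymm
  · exact sup_le le_sup_left rStar_le_sup
  · apply sup_le le_sup_left
    intro x hx
    rw [mem_rA1] at hx
    -- x = b⁻¹ a b with a = b x b⁻¹ ; x = a * gen(a⁻¹)
    set a := b * x * b⁻¹ with ha
    have hg : a⁻¹ * b⁻¹ * a⁻¹⁻¹ * b ∈ rK A b :=
      Subgroup.subset_closure ⟨a⁻¹, inv_mem hx, rfl⟩
    have : x = a * (a⁻¹ * b⁻¹ * a⁻¹⁻¹ * b) := by rw [ha]; group
    rw [this]
    exact Subgroup.mul_mem_sup hx (le_sup_right (a := rZ A b) hg)

/-- `B` normalizes `A* ∩ B` (conjugation form) -/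
theorem RSetup.conj_mem_rStar_of_mem_B (h : RSetup A B b) {x c : S} (hx : x ∈ rStar A b)
    (hxB : x ∈ B) (hc : c ∈ B) : c * x * c⁻¹ ∈ rStar A b := by
  have h1 : ⁅c, x⁆ ∈ rStar A b :=
    le_sup_left (a := rZ A b) (h.commutator_le_rZ (Subgroup.commutator_mem_commutator hc hxB))
  have : c * x * c⁻¹ = ⁅c, x⁆ * x := by rw [commutatorElement_def]; group
  rw [this]
  exact mul_mem h1 hx

theorem RSetup.N_conj_rZ (h : RSetup A B b) {n : S}
    (hn : n ∈ Subgroup.normalizer (A : Set S)) {z : S} (hz : z ∈ rZ A b) :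
    n * z * n⁻¹ ∈ rZ A b := by
  obtain ⟨h1, h2⟩ := Subgroup.mem_inf.mp hz
  exact Subgroup.mem_inf.mpr ⟨conj_mem_of_mem_normalizer hn h1, h.N_conj_A1 hn h2⟩

theorem RSetup.N_conj_rGens (h : RSetup A B b) {n : S}
    (hn : n ∈ Subgroup.normalizer (A : Set S)) {g : S} (hg : g ∈ rGens A b) :
    n * g * n⁻¹ ∈ rStar A b := by
  obtain ⟨a, ha, rfl⟩ := hg
  set a' := n * a * n⁻¹ with ha'
  set m := b⁻¹ * n * b * n⁻¹ with hm
  have ha'A : a' ∈ A := conj_mem_of_mem_normalizer hn ha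
  have hmN : m ∈ Subgroup.normalizer (A : Set S) :=
    mul_mem (h.conj_mem_N hn).2 (inv_mem hn)
  have hmB : m ∈ B := by
    have h1 : n * b * n⁻¹ ∈ B := h.1.conj_mem b h.2.2.2.1 n
    have : m = b⁻¹ * (n * b * n⁻¹) := by rw [hm]; group
    rw [this]
    exact mul_mem (inv_mem h.2.2.2.1) h1
  have hid : n * (a * b⁻¹ * a⁻¹ * b) * n⁻¹ =
      (a' * m⁻¹ * a'⁻¹ * m) * (m⁻¹ * (a' * b⁻¹ * a'⁻¹ * b) * m⁻¹⁻¹) := by
    rw [ha', hm]; group
  rw [hid]
  apply mul_mem
  · -- first factor in A ∩ B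
    apply le_sup_left (a := rZ A b)
    apply h.inf_le_rZ
    refine Subgroup.mem_inf.mpr ⟨?_, ?_⟩
    · have h1 : m⁻¹ * a'⁻¹ * m ∈ A := conj_mem_of_mem_normalizer' hmN (inv_mem ha'A)
      have : a' * m⁻¹ * a'⁻¹ * m = a' * (m⁻¹ * a'⁻¹ * m) := by group
      rw [this]; exact mul_mem ha'A h1
    · have h1 : a' * m⁻¹ * a'⁻¹ ∈ B := h.1.conj_mem _ (inv_mem hmB) a'
      exact mul_mem h1 hmB
  · have hgK : a' * b⁻¹ * a'⁻¹ * b ∈ rK A b := Subgroup.subset_closure ⟨a', ha'A, rfl⟩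
    exact h.conj_mem_rStar_of_mem_B (le_sup_right (a := rZ A b) hgK) (h.rK_le_B hgK)
      (inv_mem hmB)

theorem RSetup.N_conj_rStar (h : RSetup A B b) {n : S}
    (hn : n ∈ Subgroup.normalizer (A : Set S)) {x : S} (hx : x ∈ rStar A b) :
    n * x * n⁻¹ ∈ rStar A b := by
  unfold rStar at hx
  rw [Subgroup.sup_eq_closure] at hx
  induction hx using Subgroup.closure_induction with
  | mem y hy =>
    rcases hy with hy | hy
    · exact le_sup_left (a := rZ A b) (h.N_conj_rZ hn hy)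
    · unfold rK at hy
      induction hy using Subgroup.closure_induction with
      | mem g hg => exact h.N_conj_rGens hn hg
      | one => simp
      | mul u v _ _ ihu ihv =>
        have : n * (u * v) * n⁻¹ = (n * u * n⁻¹) * (n * v * n⁻¹) := by group
        rw [this]; exact mul_mem ihu ihv
      | inv u _ ihu =>
        have : n * u⁻¹ * n⁻¹ = (n * u * n⁻¹)⁻¹ := by group
        rw [this]; exact inv_mem ihu
  | one => simp
  | mul u v _ _ ihu ihv =>
    have : n * (u * v) * n⁻¹ = (n * u * n⁻¹) * (n * v * n⁻¹) := by group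
    rw [this]; exact mul_mem ihu ihv
  | inv u _ ihu =>
    have : n * u⁻¹ * n⁻¹ = (n * u * n⁻¹)⁻¹ := by group
    rw [this]; exact inv_mem ihu

theorem RSetup.N_le_normalizer_rStar [Finite S] (h : RSetup A B b) :
    Subgroup.normalizer (A : Set S) ≤ Subgroup.normalizer ((rStar A b : Subgroup S) : Set S) :=
  fun _ hn => mem_normalizer_of_conj_mem _ _ (fun _ hx => h.N_conj_rStar hn hx)

theorem RSetup.b_conj_rZ (h : RSetup A B b) {z : S} (hz : z ∈ rZ A b) :
    b * z * b⁻¹ ∈ rZ A b := by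
  obtain ⟨h1, h2⟩ := Subgroup.mem_inf.mp hz
  rw [mem_rA1] at h2
  have h3 : z⁻¹ * (b * z * b⁻¹) ∈ A ⊓ B := by
    refine Subgroup.mem_inf.mpr ⟨mul_mem (inv_mem h1) h2, ?_⟩
    have h4 : z⁻¹ * b * z⁻¹⁻¹ ∈ B := h.1.conj_mem b h.2.2.2.1 z⁻¹
    have : z⁻¹ * (b * z * b⁻¹) = (z⁻¹ * b * z⁻¹⁻¹) * b⁻¹ := by group
    rw [this]
    exact mul_mem h4 (inv_mem h.2.2.2.1)
  have : b * z * b⁻¹ = z * (z⁻¹ * (b * z * b⁻¹)) := by group
  rw [this]
  exact mul_mem hz (h.inf_le_rZ h3)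

theorem RSetup.b_mem_normalizer_rStar [Finite S] (h : RSetup A B b) :
    b ∈ Subgroup.normalizer ((rStar A b : Subgroup S) : Set S) := by
  apply mem_normalizer_of_conj_mem
  intro x hx
  obtain ⟨z, hz, k, hk, rfl⟩ := mem_sup_of_commute _ _ h.rZ_comm_rK x hx
  have : b * (z * k) * b⁻¹ = (b * z * b⁻¹) * (b * k * b⁻¹) := by group
  rw [this]
  apply mul_mem
  · exact le_sup_left (a := rZ A b) (h.b_conj_rZ hz)
  · exact h.conj_mem_rStar_of_mem_B (le_sup_right (a := rZ A b) hk) (h.rK_le_B hk) h.2.2.2.1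

/-- some generator lies outside `A` -/
theorem RSetup.exists_rGens_not_mem [Finite S] (h : RSetup A B b)
    (hbA : b ∉ Subgroup.normalizer (A : Set S)) : ∃ g ∈ rGens A b, g ∉ A := by
  by_contra hcon
  push_neg at hcon
  apply hbA
  have : b⁻¹ ∈ Subgroup.normalizer (A : Set S) := by
    apply mem_normalizer_of_conj_mem
    intro x hx
    have h1 := hcon (x⁻¹ * b⁻¹ * x⁻¹⁻¹ * b) ⟨x⁻¹, inv_mem hx, rfl⟩
    have : b⁻¹ * x * b⁻¹⁻¹ = x * (x⁻¹ * b⁻¹ * x⁻¹⁻¹ * b) := by group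
    rw [this]
    exact mul_mem hx h1
  have := inv_mem this
  rwa [inv_inv] at this

theorem RSetup.card_rStar [Finite S] (h : RSetup A B b) :
    Nat.card (rStar A b) = Nat.card A := by
  have hLE1 : A ≤ Subgroup.normalizer ((rA1 A b : Subgroup S) : Set S) :=
    fun a ha => mem_normalizer_of_conj_mem _ _
      (fun x hx => h.N_conj_A1 (Subgroup.le_normalizer ha) hx)
  have hLE2 : A ≤ Subgroup.normalizer ((rStar A b : Subgroup S) : Set S) :=
    Subgroup.le_normalizer.trans h.N_le_normalizer_rStar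
  have e1 := card_sup_mul_card_inf A (rA1 A b) hLE1
  have e2 := card_sup_mul_card_inf A (rStar A b) hLE2
  rw [h.sup_rStar, h.inf_rStar] at e2
  have hA1 : Nat.card (rA1 A b) = Nat.card A :=
    Subgroup.card_map_of_injective (MulAut.conj b⁻¹).injective
  have hZ : A ⊓ rA1 A b = rZ A b := rfl
  rw [hZ, hA1] at e1
  have : Nat.card A * Nat.card (rStar A b) = Nat.card A * Nat.card A := by rw [← e2, e1]
  exact Nat.eq_of_mul_eq_mul_left Nat.card_pos this


theorem pow_exponent_of_mem (A : Subgroup S) {a : S} (ha : a ∈ A) :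
    a ^ Monoid.exponent A = 1 := by
  have := Monoid.pow_exponent_eq_one (⟨a, ha⟩ : A)
  have h2 := congrArg Subtype.val this
  simpa using h2

theorem RSetup.rGens_pow [Finite S] (h : RSetup A B b) (e : ℕ) (he : Odd e)
    (hAe : ∀ a ∈ A, a ^ e = 1) {g : S} (hg : g ∈ rGens A b) : g ^ e = 1 := by
  obtain ⟨a, ha, rfl⟩ := hg
  set y := b⁻¹ * a⁻¹ * b with hy
  have hyA1 : y ∈ rA1 A b := by
    rw [mem_rA1]
    have : b * y * b⁻¹ = a⁻¹ := by rw [hy]; group
    rw [this]; exact inv_mem ha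
  set c := y * a * y⁻¹ * a⁻¹ with hc
  have hcA : c ∈ A := by
    have h1 := conj_mem_of_mem_normalizer (h.A1_le_N hyA1) ha
    exact mul_mem h1 (inv_mem ha)
  have hcA1 : c ∈ rA1 A b := by
    have h1 := h.N_conj_A1 (Subgroup.le_normalizer ha) (inv_mem hyA1)
    have : c = y * (a * y⁻¹ * a⁻¹) := by rw [hc]; group
    rw [this]
    exact mul_mem hyA1 h1
  have hcZ : c ∈ rZ A b := Subgroup.mem_inf.mpr ⟨hcA, hcA1⟩
  have hcx : Commute c a := h.rZ_comm_sup c hcZ a (le_sup_left (b := rA1 A b) ha)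
  have hcy : Commute c y := h.rZ_comm_sup c hcZ y (le_sup_right (a := A) hyA1)
  have hyx : y * a = c * a * y := by rw [hc]; group
  have hform := mul_pow_of_commute_commutator a y c hyx hcx hcy e
  have hg : a * b⁻¹ * a⁻¹ * b = a * y := by rw [hy]; group
  rw [hg, hform, hAe a ha]
  have hye : y ^ e = 1 := by
    have : y = b⁻¹ * a⁻¹ * b⁻¹⁻¹ := by rw [hy]; group
    rw [this, conj_pow, hAe _ (inv_mem ha)]; group
  obtain ⟨m, hm⟩ := dvd_tri_of_odd e he
  rw [hye, hm, pow_mul, hAe c hcA]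
  simp

theorem RSetup.rStar_pow [Finite S] (h : RSetup A B b) {p : ℕ} [Fact p.Prime]
    (hS : IsPGroup p S) (hB2 : p = 2 → IsMulCommutative B) (e : ℕ) (he : Odd e)
    (hAe : ∀ a ∈ A, a ^ e = 1) {x : S} (hx : x ∈ rStar A b) : x ^ e = 1 := by
  have hKc := h.rK_comm hS hB2
  have hK : ∀ k ∈ rK A b, k ^ e = 1 := by
    intro k hk
    unfold rK at hk
    induction hk using Subgroup.closure_induction with
    | mem g hg => exact h.rGens_pow e he hAe hg
    | one => simp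
    | mul u v hu hv ihu ihv =>
      have : Commute u v := hKc u hu v hv
      rw [this.mul_pow, ihu, ihv, one_mul]
    | inv u hu ihu =>
      rw [inv_pow, ihu, inv_one]
  obtain ⟨z, hz, k, hk, rfl⟩ := mem_sup_of_commute _ _ h.rZ_comm_rK x hx
  have hcomm : Commute z k := h.rZ_comm_rK z hz k hk
  rw [hcomm.mul_pow, hAe z (Subgroup.mem_inf.mp hz).1, one_mul]
  exact hK k hk

theorem RSetup.exponent_rStar_dvd [Finite S] (h : RSetup A B b) {p : ℕ} [Fact p.Prime]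
    (hS : IsPGroup p S) (hB2 : p = 2 → IsMulCommutative B) (hp : p ≠ 2) :
    Monoid.exponent (rStar A b) ∣ Monoid.exponent A := by
  have hodd : Odd (Monoid.exponent A) := by
    have h1 : Monoid.exponent A ∣ Nat.card A := Group.exponent_dvd_nat_card
    obtain ⟨n, hn⟩ := IsPGroup.iff_card.mp (hS.to_subgroup A)
    rw [hn] at h1
    obtain ⟨j, -, hj⟩ := (Nat.dvd_prime_pow (Fact.out : p.Prime)).mp h1
    rw [hj]
    exact ((Fact.out : p.Prime).odd_of_ne_two hp).pow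
  apply Monoid.exponent_dvd_of_forall_pow_eq_one
  intro x
  apply Subtype.ext
  have := h.rStar_pow hS hB2 _ hodd (fun a ha => pow_exponent_of_mem A ha) x.2
  simpa using this

end

end Cfsg.Agent.Lib.Helper11
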