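import Cfsg.Agent.Lib.Helper11.QuadRing

set_option autoImplicit false

/-!
# The abelian case of Hall–Higman's Theorem B, in ring form

Let `E` be a ring of prime characteristic `p`, `a ∈ E` a unit with `(a - 1) ^ (p - 1) = 0`, and `S ⊆ E`
a set of pairwise commuting elements with `s ^ (p ^ n) = s` (`n ≥ 1`), stable under conjugation by `a`.
Then `a` commutes with every element of `S`.

(In other words: if a `p`-element `a` normalizes but does not centralize an abelian `p'`-group acting
on a module in characteristic `p`, then its minimal polynomial is `(X - 1) ^ p`.)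
-/

namespace Cfsg.Agent.Lib.Helper11

open Finset

section ring

variable {E : Type*} [Ring E]

theorem pow_eq_self_of_mem_closure' {p : ℕ} [hp : Fact p.Prime] [CharP E p]
    {S : Set E} (hS : ∀ x ∈ S, ∀ y ∈ S, Commute x y) {n : ℕ} (hq : ∀ s ∈ S, s ^ (p ^ n) = s)
    {x : E} (hx : x ∈ Subring.closure S) : x ^ (p ^ n) = x := by
  induction hx using Subring.closure_induction with
  | mem x hx => exact hq x hx
  | zero => exact zero_pow (pow_ne_zero n hp.out.ne_zero)
  | one => exact one_pow _
  | add x y hx hy ihx ihy =>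
    rw [add_pow_char_pow_of_commute p n (commute_of_mem_closure hS hx hy), ihx, ihy]
  | neg x hx ih =>
    rw [neg_pow, ih, neg_one_pow_char_pow E p n, neg_one_mul]
  | mul x y hx hy ihx ihy =>
    rw [(commute_of_mem_closure hS hx hy).mul_pow, ihx, ihy]

/-- **Key lemma** (abelian Hall–Higman). -/
theorem hh_commute {p : ℕ} [hp : Fact p.Prime] [CharP E p] (a b : E) (hab : a * b = 1)
    (hba : b * a = 1) (ha : (a - 1) ^ (p - 1) = 0) (S : Set E)
    (hS : ∀ x ∈ S, ∀ y ∈ S, Commute x y) (n : ℕ) (hn : 1 ≤ n) (hq : ∀ s ∈ S, s ^ (p ^ n) = s)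
    (hconj : ∀ s ∈ S, a * s * b ∈ S) : ∀ s ∈ S, Commute a s := by
  have hp' := hp.out
  have hcab : Commute a b := by rw [Commute, SemiconjBy, hab, hba]
  -- `a ^ p = 1`, `b ^ p = 1`
  have hap : a ^ p = 1 := by
    have h1 : (a - 1) ^ p = 0 := by
      have : p = (p - 1) + 1 := (Nat.sub_add_cancel hp'.one_le).symm
      rw [this, pow_succ, ha, zero_mul]
    rw [sub_pow_char_of_commute p (Commute.one_right a), one_pow, sub_eq_zero] at h1
    exact h1
  have hbk : ∀ k : ℕ, b ^ k * a ^ k = 1 := by
    intro k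
    rw [← hcab.symm.mul_pow, hba, one_pow]
  have hak : ∀ k : ℕ, a ^ k * b ^ k = 1 := by
    intro k
    rw [← hcab.mul_pow, hab, one_pow]
  have hbp : b ^ p = 1 := by
    have := hbk p
    rwa [hap, mul_one] at this
  -- the subring
  obtain ⟨A, hA⟩ : ∃ A : Subring E, A = Subring.closure S := ⟨_, rfl⟩
  have hcomm : ∀ x ∈ A, ∀ y ∈ A, x * y = y * x := by
    intro x hx y hy
    rw [hA] at hx hy
    exact (commute_of_mem_closure hS hx hy).eq
  have hpowA : ∀ x ∈ A, x ^ (p ^ n) = x := by
    intro x hx
    rw [hA] at hx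
    exact pow_eq_self_of_mem_closure' hS hq hx
  -- conjugation by `a`
  let σ : E →+* E :=
    { toFun := fun x => a * x * b
      map_one' := by rw [mul_one, hab]
      map_mul' := fun x y => by
        calc a * (x * y) * b = a * x * 1 * y * b := by noncomm_ring
          _ = a * x * (b * a) * y * b := by rw [hba]
          _ = a * x * b * (a * y * b) := by noncomm_ring
      map_zero' := by rw [mul_zero, zero_mul]
      map_add' := fun x y => by rw [mul_add, add_mul] }
  have hσdef : ∀ x, σ x = a * x * b := fun x => rfl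
  have hσA : ∀ x ∈ A, σ x ∈ A := by
    have h1 : Subring.closure S ≤ (Subring.closure S).comap σ := by
      apply Subring.closure_le.mpr
      intro s hs
      rw [SetLike.mem_coe, Subring.mem_comap, hσdef]
      exact Subring.subset_closure (hconj s hs)
    intro x hx
    rw [hA] at hx ⊢
    exact h1 hx
  -- iterated conjugation
  obtain ⟨cj, hcj⟩ : ∃ cj : ℕ → E → E, cj = fun k l => a ^ k * l * b ^ k := ⟨_, rfl⟩
  have hcj_def : ∀ k l, cj k l = a ^ k * l * b ^ k := by intro k l; rw [hcj]
  have hcj0 : ∀ l, cj 0 l = l := by intro l; rw [hcj_def, pow_zero, pow_zero, one_mul, mul_one]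
  have hcj_add : ∀ i j l, cj (i + j) l = a ^ i * cj j l * b ^ i := by
    intro i j l
    rw [hcj_def, hcj_def, pow_add, add_comm i j, pow_add]
    noncomm_ring
  have hcjA : ∀ k, ∀ l ∈ A, cj k l ∈ A := by
    intro k
    induction k with
    | zero => intro l hl; rw [hcj0]; exact hl
    | succ k ih =>
      intro l hl
      have h1 : cj (k + 1) l = σ (cj k l) := by
        rw [add_comm, hcj_add, pow_one, pow_one, hσdef]
      rw [h1]
      exact hσA _ (ih l hl)
  have hcj_comm : ∀ k l, a ^ k * l = cj k l * a ^ k := by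
    intro k l
    rw [hcj_def, mul_assoc (a ^ k * l), hbk, mul_one]
  have hcj_p : ∀ t l, cj (p * t + 1) l = a * l * b := by
    intro t l
    have e1 : a ^ (p * t + 1) = a := by rw [pow_succ, pow_mul, hap, one_pow, one_mul]
    have e2 : b ^ (p * t + 1) = b := by rw [pow_succ, pow_mul, hbp, one_pow, one_mul]
    rw [hcj_def, e1, e2]
  -- step 3: solving `σ^k l' - l' = σ l - l`
  have hsolve : ∀ k : ℕ, 1 ≤ k → k ≤ p - 1 → ∀ l ∈ A,
      ∃ l' ∈ A, cj k l' - l' = a * l * b - l := by
    intro k hk1 hkp l hl
    have hlt : k < p := by omega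
    have hcop : Nat.Coprime k p :=
      ((Nat.Prime.coprime_iff_not_dvd hp').mpr (Nat.not_dvd_of_pos_of_lt hk1 hlt)).symm
    obtain ⟨k', -, hk'⟩ := Nat.exists_mul_mod_eq_one_of_coprime hcop hp'.one_lt
    have hkk : k * k' = p * (k * k' / p) + 1 := by
      have := Nat.div_add_mod (k * k') p
      rw [hk'] at this
      exact this.symm
    refine ⟨∑ j ∈ range k', cj (k * j) l, Subring.sum_mem A (fun j _ => hcjA _ l hl), ?_⟩
    have h1 : cj k (∑ j ∈ range k', cj (k * j) l) = ∑ j ∈ range k', cj (k * (j + 1)) l := by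
      rw [hcj_def, Finset.mul_sum, Finset.sum_mul]
      apply Finset.sum_congr rfl
      intro j _
      rw [mul_add, mul_one, add_comm (k * j) k, hcj_add]
    rw [h1, ← Finset.sum_sub_distrib, Finset.sum_range_sub (fun j => cj (k * j) l) k', mul_zero, hcj0,
      hkk, hcj_p]
  -- step 4: the elimination
  have hclaim : ∀ m : ℕ, m ≤ p - 1 → ∀ c : ℕ → E, (∀ i, c i ∈ A) →
      ∑ i ∈ range (m + 1), c i * a ^ i = 0 → ∀ l ∈ A, c m * (a * l * b - l) ^ m = 0 := by
    intro m
    induction m with
    | zero =>
      intro _ c _ hsum l _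
      rw [Finset.sum_range_one, pow_zero, mul_one] at hsum
      rw [hsum, zero_mul]
    | succ m ih =>
      intro hm c hc hsum l hl
      obtain ⟨l', hl', hl'x⟩ := hsolve (m + 1) (Nat.succ_le_succ (Nat.zero_le m)) hm l hl
      obtain ⟨c', hc'⟩ : ∃ c' : ℕ → E, c' = fun j => c (j + 1) * (cj (j + 1) l' - l') := ⟨_, rfl⟩
      have hc'j : ∀ j, c' j = c (j + 1) * (cj (j + 1) l' - l') := by intro j; rw [hc']
      have hc'A : ∀ j, c' j ∈ A := by
        intro j; rw [hc'j]
        exact A.mul_mem (hc _) (A.sub_mem (hcjA _ l' hl') hl')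
      have hsum' : ∑ j ∈ range (m + 1), c' j * a ^ j = 0 := by
        have e1 : (∑ i ∈ range (m + 1 + 1), c i * a ^ i) * l' =
            ∑ i ∈ range (m + 1 + 1), c i * cj i l' * a ^ i := by
          rw [Finset.sum_mul]
          apply Finset.sum_congr rfl
          intro i _
          rw [mul_assoc, hcj_comm, mul_assoc]
        have e2 : l' * (∑ i ∈ range (m + 1 + 1), c i * a ^ i) =
            ∑ i ∈ range (m + 1 + 1), c i * l' * a ^ i := by
          rw [Finset.mul_sum]
          apply Finset.sum_congr rfl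
          intro i _
          rw [← mul_assoc, hcomm l' hl' (c i) (hc i)]
        have e3 : ∑ i ∈ range (m + 1 + 1), c i * (cj i l' - l') * a ^ i = 0 := by
          have : ∀ i, c i * (cj i l' - l') * a ^ i = c i * cj i l' * a ^ i - c i * l' * a ^ i := by
            intro i; noncomm_ring
          simp only [this]
          rw [Finset.sum_sub_distrib, ← e1, ← e2, hsum, zero_mul, mul_zero, sub_zero]
        rw [Finset.sum_range_succ', hcj0, sub_self, mul_zero, zero_mul, add_zero] at e3
        have e4 : ∑ j ∈ range (m + 1), c (j + 1) * (cj (j + 1) l' - l') * a ^ (j + 1) =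
            (∑ j ∈ range (m + 1), c' j * a ^ j) * a := by
          rw [Finset.sum_mul]
          apply Finset.sum_congr rfl
          intro j _
          rw [hc'j, pow_succ, ← mul_assoc]
        rw [e4] at e3
        calc ∑ j ∈ range (m + 1), c' j * a ^ j
            = (∑ j ∈ range (m + 1), c' j * a ^ j) * a * b := by rw [mul_assoc, hab, mul_one]
          _ = 0 := by rw [e3, zero_mul]
      have h1 := ih (Nat.le_of_succ_le hm) c' hc'A hsum' l hl
      have h2 : c' m = c (m + 1) * (a * l * b - l) := by rw [hc'j, hl'x]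
      rw [h2] at h1
      rw [pow_succ', ← mul_assoc]
      exact h1
  -- apply with the binomial expansion of `(a - 1) ^ (p - 1)`
  have hkey : ∀ l ∈ A, a * l * b = l := by
    intro l hl
    obtain ⟨c, hc⟩ : ∃ c : ℕ → E, c = fun k => (-1 : E) ^ (p - 1 - k) * ((p - 1).choose k : E) :=
      ⟨_, rfl⟩
    have hcA : ∀ i, c i ∈ A := by
      intro i; rw [hc]
      exact A.mul_mem (A.pow_mem (A.neg_mem A.one_mem) _) (natCast_mem A _)
    have hsum : ∑ i ∈ range (p - 1 + 1), c i * a ^ i = 0 := by
      have h1 : (a + (-1)) ^ (p - 1) =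
          ∑ m ∈ range (p - 1 + 1), a ^ m * (-1 : E) ^ (p - 1 - m) * ((p - 1).choose m : E) :=
        Commute.add_pow ((Commute.one_right a).neg_right) (p - 1)
      rw [← sub_eq_add_neg, ha] at h1
      rw [h1]
      apply Finset.sum_congr rfl
      intro i _
      have hci : c i = (-1 : E) ^ (p - 1 - i) * ((p - 1).choose i : E) := by rw [hc]
      have hc1 : Commute (a ^ i) ((-1 : E) ^ (p - 1 - i)) :=
        ((Commute.one_right (a ^ i)).neg_right).pow_right _
      have hc2 : Commute (a ^ i) (((p - 1).choose i : ℕ) : E) := (Nat.cast_commute _ _).symm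
      rw [hci, mul_assoc (a ^ i)]
      exact ((hc1.mul_right hc2).eq).symm
    have h2 := hclaim (p - 1) le_rfl c hcA hsum l hl
    have hctop : c (p - 1) = 1 := by
      rw [hc]; simp
    rw [hctop, one_mul] at h2
    -- reducedness
    obtain ⟨x, hx⟩ : ∃ x, x = a * l * b - l := ⟨_, rfl⟩
    rw [← hx] at h2
    have hxA : x ∈ A := by
      rw [hx]
      have := hσA l hl
      rw [hσdef] at this
      exact A.sub_mem this hl
    have h3 := hpowA x hxA
    have h4 : p - 1 ≤ p ^ n := by
      calc p - 1 ≤ p := Nat.sub_le p 1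
        _ = p ^ 1 := (pow_one p).symm
        _ ≤ p ^ n := Nat.pow_le_pow_right hp'.pos hn
    obtain ⟨r, hr⟩ := Nat.exists_eq_add_of_le h4
    rw [hr, pow_add, h2, zero_mul] at h3
    have : a * l * b - l = 0 := by rw [← hx, ← h3]
    exact sub_eq_zero.mp this
  intro s hs
  have hsA : s ∈ A := by rw [hA]; exact Subring.subset_closure hs
  have h1 := hkey s hsA
  change a * s = s * a
  calc a * s = a * s * 1 := (mul_one _).symm
    _ = a * s * (b * a) := by rw [hba]
    _ = a * s * b * a := by noncomm_ring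
    _ = s * a := by rw [h1]

end ring

end Cfsg.Agent.Lib.Helper11
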