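import Cfsg.Prelude.Def_LocalEven
import Cfsg.Agent.Lib.Helper11.PStable
import Cfsg.Agent.Lib.Helper11.Quad

set_option autoImplicit false
set_option linter.unusedSectionVars false
open Cfsg

/-!
# Normalizer-form `p`-stability: inheritance by subgroups and by quotients modulo `p'`-subgroups.
-/

namespace Cfsg.Agent.Lib.Helper11

open Cfsg.Agent.Lib.Helper54

open scoped commutatorElement

section sub

variable {G : Type*} [Group G] [Finite G] {p : ℕ} [hp : Fact p.Prime]

theorem map_quad_eq_bot {G' : Type*} [Group G'] (f : G →* G') {Q : Subgroup G} {g : G}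
    (h : ⁅⁅Q, Subgroup.zpowers g⁆, Subgroup.zpowers g⁆ = ⊥) :
    ⁅⁅Q.map f, Subgroup.zpowers (f g)⁆, Subgroup.zpowers (f g)⁆ = ⊥ := by
  rw [← MonoidHom.map_zpowers, ← Subgroup.map_commutator, ← Subgroup.map_commutator, h,
    Subgroup.map_bot]

/-- normalizer-form `p`-stability passes to subgroups -/
theorem isNormalizerPStable_subgroup (M : Subgroup G) (hst : IsNormalizerPStable p G) :
    IsNormalizerPStable p ↥M := by
  intro Q hQ g hg hquad
  obtain ⟨Q', hQ'⟩ : ∃ Q' : Subgroup G, Q' = Q.map M.subtype := ⟨_, rfl⟩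
  have hQ'p : IsPGroup p Q' := by rw [hQ']; exact hQ.map _
  have hnorm : ∀ x : ↥M, x ∈ Subgroup.normalizer (Q : Set ↥M) →
      (x : G) ∈ Subgroup.normalizer (Q' : Set G) := by
    intro x hx
    rw [hQ']
    exact Subgroup.le_normalizer_map M.subtype ⟨x, hx, rfl⟩
  have hquad' : ⁅⁅Q', Subgroup.zpowers (g : G)⁆, Subgroup.zpowers (g : G)⁆ = ⊥ := by
    rw [hQ']
    exact map_quad_eq_bot M.subtype hquad
  have h1 := hst Q' hQ'p (g : G) (hnorm g hg) hquad'
  -- the comparison homomorphism
  let φ : ↥(Subgroup.normalizer (Q : Set ↥M)) →* ↥(Subgroup.normalizer (Q' : Set G)) :=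
    (M.subtype.comp (Subgroup.subtype _)).codRestrict _ (fun x => hnorm x x.2)
  have hφ : ∀ x : ↥(Subgroup.normalizer (Q : Set ↥M)),
      x ∈ (Subgroup.centralizer (Q : Set ↥M)).subgroupOf (Subgroup.normalizer (Q : Set ↥M)) ↔
      φ x ∈ (Subgroup.centralizer (Q' : Set G)).subgroupOf (Subgroup.normalizer (Q' : Set G)) := by
    intro x
    rw [Subgroup.mem_subgroupOf, Subgroup.mem_subgroupOf, Subgroup.mem_centralizer_iff,
      Subgroup.mem_centralizer_iff]
    constructor
    · intro h y hy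
      rw [hQ'] at hy
      obtain ⟨z, hz, rfl⟩ := hy
      have := h z hz
      exact congrArg Subtype.val this
    · intro h y hy
      have := h (y : G) (by rw [hQ']; exact ⟨y, hy, rfl⟩)
      exact Subtype.ext this
  let ψ := QuotientGroup.map
    ((Subgroup.centralizer (Q : Set ↥M)).subgroupOf (Subgroup.normalizer (Q : Set ↥M)))
    ((Subgroup.centralizer (Q' : Set G)).subgroupOf (Subgroup.normalizer (Q' : Set G))) φ
    (fun x hx => (hφ x).mp hx)
  have hψinj : Function.Injective ψ := by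
    rw [← MonoidHom.ker_eq_bot_iff, eq_bot_iff]
    intro z hz
    obtain ⟨x, rfl⟩ := QuotientGroup.mk_surjective z
    have hz' : (QuotientGroup.mk (φ x) : ↥(Subgroup.normalizer (Q' : Set G)) ⧸
        (Subgroup.centralizer (Q' : Set G)).subgroupOf (Subgroup.normalizer (Q' : Set G))) = 1 :=
      MonoidHom.mem_ker.mp hz
    rw [QuotientGroup.eq_one_iff] at hz'
    rw [Subgroup.mem_bot, QuotientGroup.eq_one_iff]
    exact (hφ x).mpr hz'
  have h2 : (pCore p _).comap ψ ≤ pCore p _ :=
    le_pCore (Subgroup.Normal.comap inferInstance ψ)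
      ((pCore_isPGroup p _).comap_of_injective ψ hψinj)
  apply h2
  rw [Subgroup.mem_comap]
  exact h1

end sub

section quot

variable {G : Type*} [Group G] {G' : Type*} [Group G'] [Finite G] (p : ℕ) [hp : Fact p.Prime]
  (f : G →* G') (hf : Function.Surjective f) (hker : (Nat.card f.ker).Coprime p)

include hf hker in
/-- normalizer-form `p`-stability passes to quotients modulo normal `p'`-subgroups -/
theorem isNormalizerPStable_map (hst : IsNormalizerPStable p G) : IsNormalizerPStable p G' := by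
  intro Q' hQ' g' hg' hquad'
  obtain ⟨Q, hQp, rfl⟩ := Cfsg.Agent.Lib.Helper63.exists_pgroup_map_eq' p hf Q' hQ'
  obtain ⟨n, hn⟩ := normalizerMap_surjective p f hf hker Q hQp ⟨g', hg'⟩
  have hng : f (n : G) = g' := congrArg Subtype.val hn
  have hquad : ⁅⁅Q, Subgroup.zpowers (n : G)⁆, Subgroup.zpowers (n : G)⁆ = ⊥ := by
    have hzn : ∀ z ∈ Subgroup.zpowers (n : G), z ∈ Subgroup.normalizer (Q : Set G) :=
      fun z hz => (Subgroup.zpowers_le.mpr n.2) hz
    have hstep : ∀ R : Subgroup G, R ≤ Q → ⁅R, Subgroup.zpowers (n : G)⁆ ≤ Q := by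
      intro R hR
      rw [Subgroup.commutator_le]
      intro a ha z hz
      have h1 : z * a⁻¹ * z⁻¹ ∈ Q :=
        (Subgroup.mem_normalizer_iff.mp (hzn z hz) a⁻¹).mp (Q.inv_mem (hR ha))
      have h2 : ⁅a, z⁆ = a * (z * a⁻¹ * z⁻¹) := by
        rw [commutatorElement_def]; group
      rw [h2]
      exact Q.mul_mem (hR ha) h1
    have h1 : ⁅⁅Q, Subgroup.zpowers (n : G)⁆, Subgroup.zpowers (n : G)⁆ ≤ Q :=
      hstep _ (hstep Q le_rfl)
    have h2 : ⁅⁅Q, Subgroup.zpowers (n : G)⁆, Subgroup.zpowers (n : G)⁆ ≤ f.ker := by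
      rw [← Subgroup.map_eq_bot_iff, Subgroup.map_commutator, Subgroup.map_commutator,
        MonoidHom.map_zpowers, hng]
      exact hquad'
    rw [eq_bot_iff, ← inf_ker_eq_bot_of_isPGroup p f hker hQp]
    exact le_inf h1 h2
  have h1 := hst Q hQp (n : G) n.2 hquad
  have h2 := (normalizer_quotient_pCore_transfer p f hf hker hQp n).mp h1
  rw [hn] at h2
  exact h2

end quot

end Cfsg.Agent.Lib.Helper11
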