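import Cfsg.Agent.Lib.Helper11.FrattiniFusion
import Cfsg.Agent.Lib.Helper11.NormPStable
import Cfsg.Agent.Lib.Helper11.SCLemmas
import Cfsg.Agent.Lib.Helper11.ZJMap
import Cfsg.Agent.Lib.Helper10.Thompson
import Cfsg.Agent.S0630
import Cfsg.Agent.S3079
import Cfsg.Agent.S0659

set_option autoImplicit false
set_option linter.unusedSectionVars false
open Cfsg

/-!
# Control of strong fusion in `p`-constrained, `p`-stable groups by `N(Z(J(D)))`, `D` strongly
closed in a Sylow subgroup.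
-/

namespace Cfsg.Agent.Lib.Helper11

open Cfsg.Agent.Lib.Helper33

section sylow

variable {G : Type*} [Group G] [Finite G] {p : ℕ} [hp : Fact p.Prime]

/-- a `p`-subgroup of `M` of index prime to `p` gives a Sylow subgroup of `M` -/
theorem exists_sylow_of_not_dvd_relIndex {M R : Subgroup G} (hRM : R ≤ M) (hRp : IsPGroup p R)
    (hRi : ¬ p ∣ R.relIndex M) : ∃ S : Sylow p ↥M, (S : Subgroup ↥M) = R.subgroupOf M := by
  obtain ⟨S, hS⟩ := (hRp.comap_subtype (K := M)).exists_le_sylow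
  refine ⟨S, ?_⟩
  have h1 : R ≤ (S : Subgroup ↥M).map M.subtype := by
    intro x hx
    exact ⟨⟨x, hRM hx⟩, hS (Subgroup.mem_subgroupOf.mpr hx), rfl⟩
  have h2 : (S : Subgroup ↥M).map M.subtype ≤ M := Subgroup.map_subtype_le _
  have h3 := eq_of_le_pgroup_of_not_dvd h1 h2 (S.2.map _) hRi
  rw [h3, Subgroup.subgroupOf, Subgroup.comap_map_eq_self_of_injective M.subtype_injective]

end sylow

section ea

theorem isElementaryAbelian_of_map {G H : Type*} [Group G] [Group H] {p : ℕ} (ι : G →* H)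
    (P X : Subgroup G) (hinj : ∀ x ∈ P, ι x = 1 → x = 1) (hXP : X ≤ P)
    (h : IsElementaryAbelian p (X.map ι)) : IsElementaryAbelian p X := by
  refine ⟨Cfsg.Agent.S0659.isMulCommutative_of_map ι P X hinj hXP h.1, ?_⟩
  intro x hx
  apply hinj _ (P.pow_mem (hXP hx) p)
  rw [map_pow]
  exact h.2 _ (Subgroup.mem_map_of_mem ι hx)

theorem zQ_map_ea_injOn {G H : Type*} [Group G] [Group H] [Finite G] (p : ℕ) (ι : G →* H)
    (P : Subgroup G) (hinj : ∀ x ∈ P, ι x = 1 → x = 1) :
    zQ (fun X : Subgroup H => IsElementaryAbelian p X) (P.map ι) =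
      (zQ (fun X : Subgroup G => IsElementaryAbelian p X) P).map ι := by
  apply zQ_map_of_injOn ι P hinj
    (fun X : Subgroup G => IsElementaryAbelian p X)
    (fun X : Subgroup H => IsElementaryAbelian p X) (Cfsg.Agent.S0654.isElementaryAbelian_bot' p)
  · intro X _ hX
    exact Cfsg.Agent.Lib.Helper10.elemAb_map hX ι
  · intro X hXP hX
    exact isElementaryAbelian_of_map ι P X hinj hXP hX

end ea

section main

variable {Y : Type*} [Group Y] [Finite Y] {p : ℕ} [hp : Fact p.Prime]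

/-- **Local ZJ-theorem modulo `O_{p'}`**: in a `p`-constrained group that is `p`-stable in the
normalizer form, `Z(J(E)) O_{p'}(Y)` and `Ω₁Z(J_e(E)) O_{p'}(Y)` are normal, for `E` strongly
closed in a Sylow `p`-subgroup. -/
theorem local_zj (hp2 : p ≠ 2) (hst : IsNormalizerPStable p Y) (hc : IsPConstrained p Y)
    (S : Sylow p Y) (E : Subgroup Y) (hE : IsStronglyClosed E (S : Subgroup Y)) :
    ((zQ (fun X : Subgroup Y => IsMulCommutative X) E).map
        (QuotientGroup.mk' (pPrimeCore p Y))).Normal ∧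
    ((zQ (fun X : Subgroup Y => IsElementaryAbelian p X) E).map
        (QuotientGroup.mk' (pPrimeCore p Y))).Normal := by
  have hsurj := QuotientGroup.mk'_surjective (pPrimeCore p Y)
  have hKcop : (Nat.card (pPrimeCore p Y)).Coprime p :=
    Cfsg.Agent.Lib.Helper55.pPrimeCore_card_coprime p
  have hker : (Nat.card (QuotientGroup.mk' (pPrimeCore p Y)).ker).Coprime p := by
    rw [QuotientGroup.ker_mk']; exact hKcop
  have hc' := Cfsg.Agent.S0630.isPConstrained_iff.mp hc
  have hst' := isNormalizerPStable_map p (QuotientGroup.mk' (pPrimeCore p Y)) hsurj hker hst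
  obtain ⟨Sb, hSb⟩ : ∃ Sb : Sylow p (Y ⧸ pPrimeCore p Y), (Sb : Subgroup (Y ⧸ pPrimeCore p Y)) =
      (S : Subgroup Y).map (QuotientGroup.mk' (pPrimeCore p Y)) :=
    ⟨S.mapSurjective hsurj, rfl⟩
  have hEb : IsStronglyClosed (E.map (QuotientGroup.mk' (pPrimeCore p Y)))
      (Sb : Subgroup (Y ⧸ pPrimeCore p Y)) := by
    rw [hSb]
    exact stronglyClosed_map_of_surjective S hE _ hsurj
  have hEp : IsPGroup p E := S.2.to_le hE.1
  have hinj : ∀ x ∈ E, (QuotientGroup.mk' (pPrimeCore p Y)) x = 1 → x = 1 := by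
    intro x hx hx1
    have h1 : x ∈ E ⊓ (QuotientGroup.mk' (pPrimeCore p Y)).ker := ⟨hx, MonoidHom.mem_ker.mpr hx1⟩
    rw [inf_ker_eq_bot_of_isPGroup p _ hker hEp] at h1
    exact Subgroup.mem_bot.mp h1
  have hmain := Cfsg.Agent.S3079.result hp2 Sb _ hEb hst' hc'
  constructor
  · have h1 := hmain.1
    rw [Cfsg.Agent.S0653.centerThompsonAOf_eq_zQ,
      Cfsg.Agent.S0659.zQ_map_comm _ E hinj] at h1
    exact h1
  · have h1 := hmain.2
    rw [Cfsg.Agent.S3079.omegaOne_centerThompsonOf_eq_zQ _ (Sb.2.to_le hEb.1),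
      zQ_map_ea_injOn p _ E hinj] at h1
    exact h1

/-- control of strong fusion by `N(V)` when `V O_{p'}(Y) / O_{p'}(Y)` is normal -/
theorem control_of_map_normal (S : Sylow p Y) (V : Subgroup Y) (hVS : V ≤ (S : Subgroup Y))
    (hVn : (V.map (QuotientGroup.mk' (pPrimeCore p Y))).Normal) (A : Set Y) (h : Y)
    (hA : A ⊆ (S : Subgroup Y)) (hAh : ∀ a ∈ A, h * a * h⁻¹ ∈ (S : Subgroup Y)) :
    ∃ x ∈ Subgroup.normalizer (V : Set Y), ∀ a ∈ A, x * a * x⁻¹ = h * a * h⁻¹ := by
  have hKcop : (Nat.card (pPrimeCore p Y)).Coprime p :=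
    Cfsg.Agent.Lib.Helper55.pPrimeCore_card_coprime p
  have hVK : (V ⊔ pPrimeCore p Y).Normal := by
    have h1 := Subgroup.Normal.comap hVn (QuotientGroup.mk' (pPrimeCore p Y))
    rwa [Subgroup.comap_map_eq, QuotientGroup.ker_mk'] at h1
  exact control_of_sup_normal (pPrimeCore p Y) hKcop (S : Subgroup Y) S.2 V hVS hVK A h hA hAh

end main

end Cfsg.Agent.Lib.Helper11
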