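import Mathlib
import Cfsg.Prelude.Def_Balance

/-! MC hive (S1305, helper18), leaf MC-PERF: a component is perfect, as a subgroup of `G`. -/

set_option autoImplicit false

open Cfsg

namespace Cfsg.Agent.Lib.Helper18.Mc

open Subgroup

/-- MC-PERF -/
theorem perf_of_comp {G : Type*} [Group G] (C K : Subgroup G) (hKC : K ≤ C) (hK : IsComponent (K.subgroupOf C)) :
    ⁅K, K⁆ = K := by
  haveI : Group.IsPerfect ↥(K.subgroupOf C) := hK.2.1
  have h : Group.IsPerfect ↥K :=
    Group.IsPerfect.ofSurjective (f := (Subgroup.subgroupOfEquivOfLe hKC).toMonoidHom)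
      (Subgroup.subgroupOfEquivOfLe hKC).surjective
  exact Subgroup.isPerfect_iff.mp h

end Cfsg.Agent.Lib.Helper18.Mc
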