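import Cfsg.Agent.Lib.Helper11.PStabAbelian

set_option autoImplicit false
set_option linter.unusedSectionVars false
set_option linter.style.haveILetI false
open Cfsg

/-!
# The minimal configuration of Thompson-type normal `p`-complement arguments

`X` is a finite group, `H = O_p(X)`, `X / H` has a normal `p`-complement `M / H`, and a Sylow
`p`-subgroup `T` of `X` is a maximal subgroup.  Then `M / H` is abelian, `X = M T`, and an element of
`T` centralizing `M / H` lies in `H`.
-/

namespace Cfsg.Agent.Lib.Helper11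

open scoped commutatorElement

universe u

variable {X : Type u} [Group X] [Finite X] {p : ℕ} [hp : Fact p.Prime]

/-- the hypotheses of the minimal configuration -/
structure MinCfg (p : ℕ) [Fact p.Prime] {X : Type u} [Group X] (H : Subgroup X) [H.Normal]
    (Mb : Subgroup (X ⧸ H)) (T : Sylow p X) : Prop where
  hHp : IsPGroup p H
  hmax : ∀ R : Subgroup X, R.Normal → IsPGroup p R → R ≤ H
  hMb : NPCWit p Mb
  hT : IsCoatom (T : Subgroup X)

namespace MinCfg

variable {H : Subgroup X} [hHn : H.Normal] {Mb : Subgroup (X ⧸ H)} {T : Sylow p X}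

/-- the preimage of the normal `p`-complement of `X / H` -/
def M (_ : MinCfg p H Mb T) : Subgroup X := Mb.comap (QuotientGroup.mk' H)

theorem mem_M (h : MinCfg p H Mb T) {x : X} : x ∈ h.M ↔ (x : X ⧸ H) ∈ Mb := Iff.rfl

theorem M_normal (h : MinCfg p H Mb T) : h.M.Normal := by
  haveI := h.hMb.1
  unfold M
  infer_instance

theorem le_M (h : MinCfg p H Mb T) : H ≤ h.M := by
  intro x hx
  rw [h.mem_M, (QuotientGroup.eq_one_iff x).mpr hx]
  exact Mb.one_mem

theorem le_T (h : MinCfg p H Mb T) : H ≤ (T : Subgroup X) :=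
  normal_pGroup_le_sylow hHn h.hHp T

theorem dich (h : MinCfg p H Mb T) (N : Subgroup X) :
    N ≤ (T : Subgroup X) ∨ N ⊔ (T : Subgroup X) = ⊤ := by
  have h1 : (T : Subgroup X) ≤ N ⊔ T := le_sup_right
  rcases h.hT.le_iff.mp h1 with h2 | h2
  · right; exact h2
  · left; rw [← h2]; exact le_sup_left

theorem normal_le (h : MinCfg p H Mb T) {N : Subgroup X} (hN : N.Normal)
    (hNT : N ≤ (T : Subgroup X)) : N ≤ H :=
  h.hmax N hN (T.isPGroup'.to_le hNT)

theorem card_coprime (h : MinCfg p H Mb T) : (Nat.card Mb).Coprime p :=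
  coprime_card_of_forall_orderOf Mb h.hMb.2.1

theorem pow_card_mem (h : MinCfg p H Mb T) {m : X} (hm : m ∈ h.M) : m ^ Nat.card Mb ∈ H := by
  rw [← QuotientGroup.eq_one_iff, QuotientGroup.mk_pow]
  have h1 : (⟨(m : X ⧸ H), h.mem_M.mp hm⟩ : Mb) ^ Nat.card Mb = 1 := pow_card_eq_one'
  exact congrArg Subtype.val h1

theorem dichQ (h : MinCfg p H Mb T) (N : Subgroup (X ⧸ H)) :
    N ≤ (T : Subgroup X).map (QuotientGroup.mk' H) ∨
      N ⊔ (T : Subgroup X).map (QuotientGroup.mk' H) = ⊤ := by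
  have hsurj := QuotientGroup.mk'_surjective H
  rcases h.dich (N.comap (QuotientGroup.mk' H)) with h1 | h1
  · left
    rw [← Subgroup.map_comap_eq_self_of_surjective hsurj N]
    exact Subgroup.map_mono h1
  · right
    have h2 := congrArg (Subgroup.map (QuotientGroup.mk' H)) h1
    rw [Subgroup.map_sup, Subgroup.map_comap_eq_self_of_surjective hsurj N,
      Subgroup.map_top_of_surjective _ hsurj] at h2
    exact h2

theorem commutator_mem (h : MinCfg p H Mb T) {m₁ m₂ : X} (hm₁ : m₁ ∈ h.M) (hm₂ : m₂ ∈ h.M) :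
    ⁅m₁, m₂⁆ ∈ H := by
  haveI := h.hMb.1
  rw [← QuotientGroup.eq_one_iff, ← QuotientGroup.mk'_apply, map_commutatorElement,
    commutatorElement_eq_one_iff_mul_comm]
  exact abelian_of_dichotomy Mb _ h.card_coprime (T.isPGroup'.map _) h.dichQ _
    (h.mem_M.mp hm₁) _ (h.mem_M.mp hm₂)

theorem sup_eq_top (h : MinCfg p H Mb T) : h.M ⊔ (T : Subgroup X) = ⊤ := by
  rcases h.dich h.M with h1 | h1
  swap
  · exact h1
  exfalso
  have hTbp : IsPGroup p ((T : Subgroup X).map (QuotientGroup.mk' H)) := T.isPGroup'.map _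
  have hMb1 : ∀ x ∈ Mb, x = 1 := by
    intro x hx
    obtain ⟨m, rfl⟩ := QuotientGroup.mk'_surjective H x
    have h2 : QuotientGroup.mk' H m ∈ (T : Subgroup X).map (QuotientGroup.mk' H) :=
      Subgroup.mem_map_of_mem _ (h1 (h.mem_M.mpr hx))
    exact eq_one_of_mem_of_mem h.card_coprime hTbp hx h2
  have hXp : IsPGroup p (⊤ : Subgroup X) := by
    rintro ⟨x, -⟩
    obtain ⟨n, hn⟩ := h.hMb.2.2 (x : X ⧸ H)
    have h2 : x ^ (p ^ n) ∈ H := by
      rw [← QuotientGroup.eq_one_iff, QuotientGroup.mk_pow]; exact hMb1 _ hn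
    obtain ⟨i, hi⟩ := h.hHp ⟨x ^ (p ^ n), h2⟩
    have h3 : (x ^ (p ^ n)) ^ (p ^ i) = 1 := congrArg Subtype.val hi
    refine ⟨n + i, Subtype.ext ?_⟩
    change x ^ (p ^ (n + i)) = 1
    rw [pow_add, pow_mul]; exact h3
  have h4 : (⊤ : Subgroup X) = T := T.is_maximal' hXp le_top
  exact h.hT.1 h4.symm

/-- An element of `T` acting trivially on `M / H` lies in `H`. -/
theorem mem_of_commutator_mem (h : MinCfg p H Mb T) {g : X} (hg : g ∈ (T : Subgroup X))
    (hcomm : ∀ y ∈ h.M, ⁅y, g⁆ ∈ H) : g ∈ H := by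
  haveI hMbn : Mb.Normal := h.hMb.1
  haveI hMn : h.M.Normal := h.M_normal
  have hsurj := QuotientGroup.mk'_surjective H
  obtain ⟨C, hC⟩ : ∃ C : Subgroup X,
      C = (Subgroup.centralizer (Mb : Set (X ⧸ H))).comap (QuotientGroup.mk' H) := ⟨_, rfl⟩
  haveI hCn : C.Normal := by rw [hC]; infer_instance
  have hmemC : ∀ x : X, x ∈ C ↔ ∀ y ∈ h.M, ⁅y, x⁆ ∈ H := by
    intro x
    rw [hC, Subgroup.mem_comap, Subgroup.mem_centralizer_iff]
    constructor
    · intro h1 y hy
      rw [← QuotientGroup.eq_one_iff, ← QuotientGroup.mk'_apply, map_commutatorElement,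
        commutatorElement_eq_one_iff_mul_comm]
      exact h1 _ (h.mem_M.mp hy)
    · intro h1 yb hyb
      obtain ⟨y, rfl⟩ := hsurj yb
      have h2 := h1 y (h.mem_M.mpr hyb)
      rw [← QuotientGroup.eq_one_iff, ← QuotientGroup.mk'_apply, map_commutatorElement,
        commutatorElement_eq_one_iff_mul_comm] at h2
      exact h2
  have hHC : H ≤ C := by
    intro x hx
    rw [hmemC]
    intro y _
    rw [commutatorElement_def]
    exact H.mul_mem (hHn.conj_mem x hx y) (H.inv_mem hx)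
  obtain ⟨R, hR⟩ : ∃ R : Subgroup X, R = (T : Subgroup X) ⊓ C := ⟨_, rfl⟩
  have hHR : H ≤ R := by rw [hR]; exact le_inf h.le_T hHC
  have hconjM : ∀ m ∈ h.M, ∀ r ∈ R, m * r * m⁻¹ ∈ R := by
    intro m hm r hr
    have hrC : r ∈ C := by rw [hR] at hr; exact hr.2
    have h1 : ⁅m, r⁆ ∈ H := (hmemC r).mp hrC m hm
    have h2 : m * r * m⁻¹ = ⁅m, r⁆ * r := by rw [commutatorElement_def]; group
    rw [h2]
    exact R.mul_mem (hHR h1) hr
  have hRn : R.Normal := by
    rw [← Subgroup.normalizer_eq_top_iff, eq_top_iff, ← h.sup_eq_top]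
    apply sup_le
    · intro m hm
      rw [Subgroup.mem_normalizer_iff]
      intro r
      constructor
      · exact hconjM m hm r
      · intro h1
        have h2 := hconjM m⁻¹ (h.M.inv_mem hm) _ h1
        have h3 : m⁻¹ * (m * r * m⁻¹) * m⁻¹⁻¹ = r := by group
        rwa [h3] at h2
    · rw [hR]; exact sylow_le_normalizer_inf_normal T C
  have hRH : R ≤ H := h.normal_le hRn (by rw [hR]; exact inf_le_left)
  apply hRH
  rw [hR]
  exact ⟨hg, (hmemC g).mpr hcomm⟩

end MinCfg

/-- the minimal configuration from the hypotheses as they appear in `thompson_criterion` -/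
theorem minCfg_of_coatom (hq : HasNormalPComplement p (X ⧸ pCore p X)) (T : Sylow p X)
    (hT : IsCoatom (T : Subgroup X)) :
    ∃ Mb : Subgroup (X ⧸ pCore p X), MinCfg p (pCore p X) Mb T := by
  obtain ⟨Mb, hMb⟩ := exists_wit_of_hasNPC hq
  exact ⟨Mb, pCore_isPGroup p X, fun R hRn hRp => le_pCore hRn hRp, hMb, hT⟩

end Cfsg.Agent.Lib.Helper11
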