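import Mathlib
import Cfsg.Agent.Lib.Helper6.Nc.Defs
import Cfsg.Agent.Lib.Helper6.Nc.Leaves

/-! Nc hive (S3894, architect helper6), case assembly NC-CASE2B2: `n = 2`, `Gh = Z · SL_2`, `i² = -1`, char `≠ 2`. -/

set_option autoImplicit false

namespace Cfsg.Agent.Lib.Helper6.Nc

open Matrix

variable {F : Type*} [Field F]

/-- central factors cancel in a commutator word -/
theorem nccase2b2_cancel {Γ : Type*} [Group Γ] {ζ ζ' g x : Γ} (hζ : ζ ∈ Subgroup.center Γ)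
    (hζ' : ζ' ∈ Subgroup.center Γ) :
    (ζ' * x) * (ζ * g) * (ζ' * x)⁻¹ * (ζ * g)⁻¹ = x * g * x⁻¹ * g⁻¹ := by
  have h1 : ∀ y, ζ * y = y * ζ := fun y => ((Subgroup.mem_center_iff.mp hζ) y).symm
  have h2 : ∀ y, ζ' * y = y * ζ' := fun y => ((Subgroup.mem_center_iff.mp hζ') y).symm
  calc (ζ' * x) * (ζ * g) * (ζ' * x)⁻¹ * (ζ * g)⁻¹
      = ζ' * (x * (ζ * g) * x⁻¹) * ζ'⁻¹ * (g⁻¹ * ζ⁻¹) := by group
    _ = (x * (ζ * g) * x⁻¹) * ζ' * ζ'⁻¹ * (g⁻¹ * ζ⁻¹) := by rw [h2 (x * (ζ * g) * x⁻¹)]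
    _ = x * (ζ * (g * x⁻¹ * g⁻¹)) * ζ⁻¹ := by group
    _ = x * ((g * x⁻¹ * g⁻¹) * ζ) * ζ⁻¹ := by rw [h1 (g * x⁻¹ * g⁻¹)]
    _ = x * g * x⁻¹ * g⁻¹ := by group

/-- elements of `Z · SL_2` are a central element times an element of determinant `1` -/
theorem nccase2b2_decomp {g : GL (Fin 2) F} (hg : g ∈ Lh 2 F) :
    ∃ ζ ∈ Subgroup.center (GL (Fin 2) F), ∃ τ : GL (Fin 2) F,
      (τ : Matrix (Fin 2) (Fin 2) F).det = 1 ∧ g = ζ * τ := by
  unfold Lh at hg
  rw [Subgroup.mem_sup_of_normal_left] at hg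
  obtain ⟨ζ, hζ, τ', ⟨τ, rfl⟩, rfl⟩ := hg
  exact ⟨ζ, hζ, _, τ.det_coe, rfl⟩

/-- `u_x = σ_x uUg σ_x⁻¹` -/
noncomputable def nccase2b2_u (x : Option F) : GL (Fin 2) F :=
  Matrix.SpecialLinearGroup.toGL (sig x) * uUg F * (Matrix.SpecialLinearGroup.toGL (sig x))⁻¹

theorem nccase2b2_vec (x : Option F) :
    ((Matrix.SpecialLinearGroup.toGL (sig x) : GL (Fin 2) F) : Matrix (Fin 2) (Fin 2) F) *ᵥ
      ![(1 : F), 0] = vec x := sig_vec x

theorem nccase2b2_u_mem_range (x : Option F) :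
    nccase2b2_u x ∈ (Matrix.SpecialLinearGroup.toGL :
      Matrix.SpecialLinearGroup (Fin 2) F →* GL (Fin 2) F).range :=
  ⟨sig x * uU F * (sig x)⁻¹, by simp only [map_mul, map_inv]; rfl⟩

theorem nccase2b2_u_mem (x : Option F) : nccase2b2_u x ∈ lineStab (vec x) := by
  rw [← nccase2b2_vec x, lineStab_conj]
  have e : (Matrix.SpecialLinearGroup.toGL (sig x))⁻¹ * nccase2b2_u x *
      Matrix.SpecialLinearGroup.toGL (sig x) = uUg F := by
    unfold nccase2b2_u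
    group
  rw [e]
  exact uUg_mem

theorem nccase2b2_unique (x : Option F) (g : GL (Fin 2) F)
    (h : g⁻¹ * nccase2b2_u x * g ∈ lineStab (vec x)) : g ∈ lineStab (vec x) := by
  rw [← nccase2b2_vec x, lineStab_conj] at h ⊢
  apply uUg_unique
  have e : ((Matrix.SpecialLinearGroup.toGL (sig x))⁻¹ * g *
        Matrix.SpecialLinearGroup.toGL (sig x))⁻¹ * uUg F *
      ((Matrix.SpecialLinearGroup.toGL (sig x))⁻¹ * g * Matrix.SpecialLinearGroup.toGL (sig x)) =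
      (Matrix.SpecialLinearGroup.toGL (sig x))⁻¹ * (g⁻¹ * nccase2b2_u x * g) *
        Matrix.SpecialLinearGroup.toGL (sig x) := by
    unfold nccase2b2_u
    group
  rw [e]
  exact h

theorem nccase2b2_inj (x y : Option F) (h : nccase2b2_u x ∈ lineStab (vec y)) : x = y := by
  rw [← nccase2b2_vec y, lineStab_conj] at h
  have e : ((Matrix.SpecialLinearGroup.toGL (sig x))⁻¹ *
        Matrix.SpecialLinearGroup.toGL (sig y))⁻¹ * uUg F *
      ((Matrix.SpecialLinearGroup.toGL (sig x))⁻¹ * Matrix.SpecialLinearGroup.toGL (sig y)) =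
      (Matrix.SpecialLinearGroup.toGL (sig y))⁻¹ * nccase2b2_u x *
        Matrix.SpecialLinearGroup.toGL (sig y) := by
    unfold nccase2b2_u
    group
  rw [← e] at h
  obtain ⟨c, hc⟩ := uUg_unique _ h
  symm
  apply vec_inj y x
  refine ⟨c, ?_⟩
  rw [← nccase2b2_vec y, ← nccase2b2_vec x]
  have h3 : ((Matrix.SpecialLinearGroup.toGL (sig y) : GL (Fin 2) F) : Matrix (Fin 2) (Fin 2) F) *ᵥ
      ![(1 : F), 0] =
      ((Matrix.SpecialLinearGroup.toGL (sig x) : GL (Fin 2) F) : Matrix (Fin 2) (Fin 2) F) *ᵥ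
        ((((Matrix.SpecialLinearGroup.toGL (sig x))⁻¹ *
          Matrix.SpecialLinearGroup.toGL (sig y) : GL (Fin 2) F) : Matrix (Fin 2) (Fin 2) F) *ᵥ
          ![(1 : F), 0]) := by
    rw [Matrix.mulVec_mulVec, ← Units.val_mul, mul_inv_cancel_left]
  rw [h3, hc, Matrix.mulVec_smul]

theorem nccase2b2_u_none : nccase2b2_u (none : Option F) = uUg F := by
  simp [nccase2b2_u, sig]

/-- NC-CASE2B2 -/
theorem nc_case2B2 [Fintype F] (Gh : Subgroup (GL (Fin 2) F))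
    (hSL : (Matrix.SpecialLinearGroup.toGL :
      Matrix.SpecialLinearGroup (Fin 2) F →* GL (Fin 2) F).range ≤ Gh)
    (AA : Finset (Subgroup (GL (Fin 2) F))) (h : MinNilCover Gh AA)
    (hle : Gh ≤ Lh 2 F) (i : Fˣ) (hi : (i : F) * i = -1) (h2 : (2 : F) ≠ 0) : False := by
  classical
  have hi2 : i ^ 2 ≠ 1 := by
    intro h'
    have h'' : (i : F) ^ 2 = 1 := by
      rw [← Units.val_pow_eq_pow_val, h', Units.val_one]
    exact h2 (by linear_combination hi - h'')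
  have hd : (i : F) ≠ ((i⁻¹ : Fˣ) : F) := by
    intro hEq
    apply hi2
    have e : i = i⁻¹ := Units.ext hEq
    calc i ^ 2 = i * i := pow_two i
      _ = i * i⁻¹ := by rw [← e]
      _ = 1 := mul_inv_cancel i
  have hsG : sDg i ∈ Gh := hSL ⟨sD i, rfl⟩
  have huG : ∀ x : Option F, nccase2b2_u x ∈ Gh := fun x => hSL (nccase2b2_u_mem_range x)
  obtain ⟨As, hAsAA, hsAs⟩ := h.cover.covers (sDg i) hsG
  have hu_ex := fun x : Option F => h.cover.covers (nccase2b2_u x) (huG x)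
  choose Au hAuAA huAu using hu_ex
  have hAu_le : ∀ x, Au x ≤ lineStab (vec x) := fun x =>
    nc_nfp (Au x) (lineStab (vec x)) (h.nilp _ (hAuAA x)) (nccase2b2_u x) (huAu x)
      (nccase2b2_u_mem x) (fun g _ hg => nccase2b2_unique x g hg)
  -- the member of `s` is none of the unipotent members
  have key : ∀ x : Option F, As = Au x → False := by
    intro x hx
    have hsx : sDg i ∈ lineStab (vec x) := hAu_le x (hx ▸ hsAs)
    obtain ⟨hU, hL⟩ := sD_not_with_unip i hi2 As (h.nilp _ hAsAA) hsAs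
    rcases sDg_fix i hi2 x hsx with rfl | rfl
    · apply hU
      rw [hx, ← nccase2b2_u_none]
      exact huAu none
    · apply hL
      have h1 : nccase2b2_u (some (0 : F)) = (uLg F)⁻¹ := sig_some_zero
      have h3 : (uLg F)⁻¹ ∈ As := by
        rw [hx, ← h1]
        exact huAu (some 0)
      exact (inv_mem_iff).mp h3
  -- every element of the member of `s` has a fixed line
  have hsZ : sDg i ∉ Subgroup.center (GL (Fin 2) F) := by
    intro hc
    have h1 : sDg i ∈ lineStab (vec (some (1 : F))) := center_le_lineStab _ hc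
    rcases sDg_fix i hi2 _ h1 with h3 | h3
    · exact Option.some_ne_none _ h3
    · exact one_ne_zero (Option.some.inj h3)
  have hAsP : ∀ b ∈ As, HasFix b := by
    have hnot : ¬ As ≤ Subgroup.center (GL (Fin 2) F) := fun hle' => hsZ (hle' hsAs)
    obtain ⟨z, hzA, hzZ, hzc⟩ :=
      nc_cent As (Subgroup.center (GL (Fin 2) F)) (h.nilp _ hAsAA) hnot
    obtain ⟨ζ, hζ, σ, hσdet, rfl⟩ := nccase2b2_decomp (hle (h.le _ hAsAA hzA))
    have hσZ : σ ∉ Subgroup.center (GL (Fin 2) F) := fun hc => hzZ (mul_mem hζ hc)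
    have hcomm_s : σ * sDg i * σ⁻¹ * (sDg i)⁻¹ ∈ Subgroup.center (GL (Fin 2) F) := by
      have h1 := inv_mem (hzc (sDg i) hsAs)
      have h3 : (sDg i * (ζ * σ) * (sDg i)⁻¹ * (ζ * σ)⁻¹)⁻¹ = σ * sDg i * σ⁻¹ * (sDg i)⁻¹ := by
        have h4 := nccase2b2_cancel (ζ := ζ) (ζ' := 1) (g := σ) (x := sDg i) hζ (one_mem _)
        rw [one_mul] at h4
        rw [h4]
        group
      rw [h3] at h1
      exact h1
    have hσmono : IsMono σ :=
      comm_diag_mono (i : F) ((i⁻¹ : Fˣ) : F) hd (sDg i) (coe_sDg i) σ hcomm_s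
    obtain ⟨P, δ, d₀, d₁, hd01, hδ, hσP⟩ := mono_diagonalize (i : F) hi h2 σ hσmono hσdet hσZ
    intro b hb
    obtain ⟨ζ', hζ', τ, hτdet, rfl⟩ := nccase2b2_decomp (hle (h.le _ hAsAA hb))
    have hbz := hzc (ζ' * τ) hb
    rw [nccase2b2_cancel hζ hζ'] at hbz
    have hβ : (P⁻¹ * τ * P) * δ * (P⁻¹ * τ * P)⁻¹ * δ⁻¹ ∈ Subgroup.center (GL (Fin 2) F) := by
      have e : (P⁻¹ * τ * P) * δ * (P⁻¹ * τ * P)⁻¹ * δ⁻¹ = P⁻¹ * (τ * σ * τ⁻¹ * σ⁻¹) * P := by
        rw [hσP]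
        group
      rw [e]
      exact (inferInstance : (Subgroup.center (GL (Fin 2) F)).Normal).conj_mem' _ hbz P
    have hβmono := comm_diag_mono d₀ d₁ hd01 δ hδ (P⁻¹ * τ * P) hβ
    have hβdet : ((P⁻¹ * τ * P : GL (Fin 2) F) : Matrix (Fin 2) (Fin 2) F).det = 1 := by
      rw [Units.val_mul, Units.val_mul, Matrix.det_mul, Matrix.det_mul, hτdet, mul_one,
        ← Matrix.det_mul, ← Units.val_mul, inv_mul_cancel, Units.val_one, Matrix.det_one]
    obtain ⟨v, hv, hβv⟩ := mono_hasFix (i : F) hi _ hβmono hβdet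
    refine ⟨(P : Matrix (Fin 2) (Fin 2) F) *ᵥ v, ?_, ?_⟩
    · intro h0
      apply hv
      have e : v = ((P⁻¹ : GL (Fin 2) F) : Matrix (Fin 2) (Fin 2) F) *ᵥ
          ((P : Matrix (Fin 2) (Fin 2) F) *ᵥ v) := by
        rw [Matrix.mulVec_mulVec, ← Units.val_mul, inv_mul_cancel, Units.val_one,
          Matrix.one_mulVec]
      rw [e, h0, Matrix.mulVec_zero]
    · exact mul_mem (center_le_lineStab _ hζ') ((lineStab_conj P τ v).mpr hβv)
  -- the count
  let f : Option (Option F) → Subgroup (GL (Fin 2) F) := fun o => o.elim As Au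
  refine nc_count h HasFix (fun x : Option F => lineStab (vec x))
    (fun x => center_le_lineStab (vec x)) ?_ ?_ f ?_ ?_ ?_
  · intro x hG
    obtain ⟨t, ht⟩ := vec_proper x
    exact ht (hG (hSL ⟨t, rfl⟩))
  · rintro g _ ⟨v, hv, hgv⟩
    obtain ⟨x, hx⟩ := vec_cover v hv
    exact ⟨x, by rw [← hx]; exact hgv⟩
  · intro o₁ o₂ h12
    rcases o₁ with _ | x <;> rcases o₂ with _ | y
    · rfl
    · exact (key y h12).elim
    · exact (key x h12.symm).elim
    · have h12' : Au x = Au y := h12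
      have h3 : nccase2b2_u x ∈ lineStab (vec y) := hAu_le y (h12' ▸ huAu x)
      rw [nccase2b2_inj x y h3]
  · rintro (_ | x)
    · exact hAsAA
    · exact hAuAA x
  · rintro (_ | x) g hg
    · exact hAsP g hg
    · exact ⟨vec x, vec_ne_zero x, hAu_le x hg⟩

end Cfsg.Agent.Lib.Helper6.Nc
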