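import Cfsg.Agent.Lib.Helper11.MinConfig
import Cfsg.Agent.Lib.Helper11.PConstrained
import Cfsg.Prelude.Def_LocalEven

set_option autoImplicit false
set_option linter.unusedSectionVars false
set_option linter.style.haveILetI false
open Cfsg

/-!
# Groups with a normal series `p`-group / abelian `p'`-group / `p`-group are `p`-stable (`p` odd)

`PAbP p Z` says that `Z` has normal subgroups `Z₁`, `Z₂` with `Z₁` a `p`-group, `Z₂ Z₁ / Z₁` an abelian
`p'`-group and `Z / Z₂` a `p`-group.  The class is closed under subgroups and quotients, contains the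
minimal configuration `MinCfg`, and consists of `p`-stable groups (both in the `IsPStableOn` and in the
normalizer form).  No Dickson-type theorem is used.
-/

namespace Cfsg.Agent.Lib.Helper11

open scoped commutatorElement

universe u

/-- `Z` has a normal series `p`-group / abelian `p'`-group / `p`-group -/
def PAbP (p : ℕ) (Z : Type*) [Group Z] : Prop :=
  ∃ Z₁ Z₂ : Subgroup Z, Z₁.Normal ∧ Z₂.Normal ∧ IsPGroup p Z₁ ∧
    (∀ a ∈ Z₂, ∀ b ∈ Z₂, ⁅a, b⁆ ∈ Z₁) ∧ (∃ K : ℕ, K.Coprime p ∧ ∀ a ∈ Z₂, a ^ K ∈ Z₁) ∧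
    ∀ z : Z, ∃ k : ℕ, z ^ (p ^ k) ∈ Z₂

section closure

variable {p : ℕ} {Z Y : Type*} [Group Z] [Group Y]

theorem PAbP.of_injective (h : PAbP p Z) (f : Y →* Z) (hf : Function.Injective f) : PAbP p Y := by
  obtain ⟨Z₁, Z₂, h1, h2, h3, h4, ⟨K, hK, h5⟩, h6⟩ := h
  refine ⟨Z₁.comap f, Z₂.comap f, inferInstance, inferInstance, h3.comap_of_injective f hf, ?_,
    ⟨K, hK, ?_⟩, ?_⟩
  · intro a ha b hb
    rw [Subgroup.mem_comap, map_commutatorElement]
    exact h4 _ ha _ hb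
  · intro a ha
    rw [Subgroup.mem_comap, map_pow]
    exact h5 _ ha
  · intro z
    obtain ⟨k, hk⟩ := h6 (f z)
    exact ⟨k, by rw [Subgroup.mem_comap, map_pow]; exact hk⟩

theorem PAbP.of_surjective (h : PAbP p Z) (f : Z →* Y) (hf : Function.Surjective f) : PAbP p Y := by
  obtain ⟨Z₁, Z₂, h1, h2, h3, h4, ⟨K, hK, h5⟩, h6⟩ := h
  refine ⟨Z₁.map f, Z₂.map f, h1.map f hf, h2.map f hf, h3.map f, ?_, ⟨K, hK, ?_⟩, ?_⟩
  · rintro _ ⟨a, ha, rfl⟩ _ ⟨b, hb, rfl⟩
    rw [← map_commutatorElement]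
    exact Subgroup.mem_map_of_mem f (h4 a ha b hb)
  · rintro _ ⟨a, ha, rfl⟩
    rw [← map_pow]
    exact Subgroup.mem_map_of_mem f (h5 a ha)
  · intro y
    obtain ⟨z, rfl⟩ := hf y
    obtain ⟨k, hk⟩ := h6 z
    exact ⟨k, by rw [← map_pow]; exact Subgroup.mem_map_of_mem f hk⟩

/-- sections -/
theorem PAbP.section (h : PAbP p Z) (K R : Subgroup Z) [hR : (R.subgroupOf K).Normal] :
    PAbP p (↥K ⧸ R.subgroupOf K) :=
  (h.of_injective K.subtype K.subtype_injective).of_surjective _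
    (QuotientGroup.mk'_surjective (R.subgroupOf K))

end closure

section mincfg

variable {X : Type u} [Group X] [Finite X] {p : ℕ} [hp : Fact p.Prime]

theorem MinCfg.pAbP {H : Subgroup X} [hHn : H.Normal] {Mb : Subgroup (X ⧸ H)} {T : Sylow p X}
    (h : MinCfg p H Mb T) : PAbP p X := by
  refine ⟨H, h.M, hHn, h.M_normal, h.hHp, fun a ha b hb => h.commutator_mem ha hb,
    ⟨Nat.card Mb, h.card_coprime, fun a ha => h.pow_card_mem ha⟩, ?_⟩
  intro z
  obtain ⟨n, hn⟩ := h.hMb.2.2 (z : X ⧸ H)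
  refine ⟨n, ?_⟩
  rw [h.mem_M, QuotientGroup.mk_pow]
  exact hn

end mincfg

section stable

variable {Z : Type u} [Group Z] [Finite Z] {p : ℕ} [hp : Fact p.Prime]

/-- a normal subgroup with `p`-power "index" together with a Sylow `p`-subgroup generates -/
theorem sup_sylow_eq_top (N : Subgroup Z) [hN : N.Normal] (hNp : ∀ z : Z, ∃ k : ℕ, z ^ (p ^ k) ∈ N)
    (P : Sylow p Z) : N ⊔ (P : Subgroup Z) = ⊤ := by
  have hsurj := QuotientGroup.mk'_surjective N
  have hqp : IsPGroup p (⊤ : Subgroup (Z ⧸ N)) := by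
    rintro ⟨x, -⟩
    obtain ⟨z, rfl⟩ := hsurj x
    obtain ⟨k, hk⟩ := hNp z
    refine ⟨k, Subtype.ext ?_⟩
    change (QuotientGroup.mk' N z) ^ (p ^ k) = 1
    rw [← map_pow, QuotientGroup.mk'_apply, QuotientGroup.eq_one_iff]
    exact hk
  have h1 : (⊤ : Subgroup (Z ⧸ N)) = (P.mapSurjective hsurj : Sylow p (Z ⧸ N)) :=
    (P.mapSurjective hsurj).is_maximal' hqp le_top
  rw [eq_top_iff]
  intro z _
  have h2 : QuotientGroup.mk' N z ∈ ((P.mapSurjective hsurj : Sylow p (Z ⧸ N)) : Subgroup (Z ⧸ N)) := by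
    rw [← h1]; trivial
  obtain ⟨t, ht, htz⟩ := h2
  have h3 : t⁻¹ * z ∈ N := by
    rw [← QuotientGroup.eq_one_iff, QuotientGroup.mk_mul, QuotientGroup.mk_inv]
    have : (QuotientGroup.mk t : Z ⧸ N) = QuotientGroup.mk z := htz
    rw [this, inv_mul_cancel]
  have h4 : z = t * (t⁻¹ * z) := by group
  rw [h4]
  exact Subgroup.mul_mem _ (Subgroup.mem_sup_right ht) (Subgroup.mem_sup_left h3)

/-- **`p`-stability of `PAbP`-groups** (`p` odd). -/
theorem isPStableOn_of_pAbP (hp2 : p ≠ 2) (h : PAbP p Z) (V : Subgroup Z) [hVn : V.Normal]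
    (hV : IsPGroup p V) : IsPStableOn p V := by
  intro a ha
  have hquad : QuadOn V a := (quadOn_iff V a).mpr ha
  obtain ⟨Z₁, Z₂, hZ₁n, hZ₂n, hZ₁p, hcomm, ⟨K, hK, hpowK⟩, hZ₂p⟩ := h
  haveI hCn : (Subgroup.centralizer (V : Set Z)).Normal := inferInstance
  -- `H = O_p(Z)`, `M = Z₂ H`
  obtain ⟨H, hH⟩ : ∃ H : Subgroup Z, H = pCore p Z := ⟨_, rfl⟩
  haveI hHn : H.Normal := by rw [hH]; infer_instance
  have hHp : IsPGroup p H := by rw [hH]; exact pCore_isPGroup p Z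
  have hZ₁H : Z₁ ≤ H := by rw [hH]; exact le_pCore hZ₁n hZ₁p
  have hVH : V ≤ H := by rw [hH]; exact le_pCore hVn hV
  obtain ⟨M, hM⟩ : ∃ M : Subgroup Z, M = Z₂ ⊔ H := ⟨_, rfl⟩
  haveI hMn : M.Normal := by rw [hM]; infer_instance
  have hMdec : ∀ m ∈ M, ∃ z ∈ Z₂, ∃ x ∈ H, m = z * x := by
    intro m hm
    rw [hM, ← SetLike.mem_coe, Subgroup.mul_normal] at hm
    obtain ⟨z, hz, x, hx, rfl⟩ := Set.mem_mul.mp hm
    exact ⟨z, hz, x, hx, rfl⟩
  have hmodH : ∀ {m z x : Z}, x ∈ H → m = z * x →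
      (QuotientGroup.mk m : Z ⧸ H) = QuotientGroup.mk z := by
    intro m z x hx hm
    rw [hm, QuotientGroup.mk_mul, (QuotientGroup.eq_one_iff x).mpr hx, mul_one]
  have hab : ∀ m₁ ∈ M, ∀ m₂ ∈ M, ⁅m₁, m₂⁆ ∈ H := by
    intro m₁ hm₁ m₂ hm₂
    obtain ⟨z₁, hz₁, x₁, hx₁, e₁⟩ := hMdec m₁ hm₁
    obtain ⟨z₂, hz₂, x₂, hx₂, e₂⟩ := hMdec m₂ hm₂
    rw [← QuotientGroup.eq_one_iff, ← QuotientGroup.mk'_apply, map_commutatorElement,
      QuotientGroup.mk'_apply, QuotientGroup.mk'_apply, hmodH hx₁ e₁, hmodH hx₂ e₂,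
      ← QuotientGroup.mk'_apply, ← QuotientGroup.mk'_apply, ← map_commutatorElement,
      QuotientGroup.mk'_apply, QuotientGroup.eq_one_iff]
    exact hZ₁H (hcomm z₁ hz₁ z₂ hz₂)
  have hMK : ∀ m ∈ M, m ^ K ∈ H := by
    intro m hm
    obtain ⟨z, hz, x, hx, e⟩ := hMdec m hm
    rw [← QuotientGroup.eq_one_iff, QuotientGroup.mk_pow, hmodH hx e, ← QuotientGroup.mk_pow,
      QuotientGroup.eq_one_iff]
    exact hZ₁H (hpowK z hz)
  have hMp : ∀ z : Z, ∃ k : ℕ, z ^ (p ^ k) ∈ M := by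
    intro z
    obtain ⟨k, hk⟩ := hZ₂p z
    exact ⟨k, by rw [hM]; exact Subgroup.mem_sup_left hk⟩
  -- `Q`, the preimage of `O_p(Z / C)`
  obtain ⟨πC, hπC⟩ : ∃ πC : Z →* Z ⧸ Subgroup.centralizer (V : Set Z),
      πC = QuotientGroup.mk' (Subgroup.centralizer (V : Set Z)) := ⟨_, rfl⟩
  have hπCsurj : Function.Surjective πC := by rw [hπC]; exact QuotientGroup.mk'_surjective _
  have hπCker : ∀ x : Z, πC x = 1 ↔ x ∈ Subgroup.centralizer (V : Set Z) := by
    intro x; rw [hπC]; exact QuotientGroup.eq_one_iff x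
  obtain ⟨Q, hQ⟩ : ∃ Q : Subgroup Z,
      Q = (pCore p (Z ⧸ Subgroup.centralizer (V : Set Z))).comap πC := ⟨_, rfl⟩
  haveI hQn : Q.Normal := by rw [hQ]; infer_instance
  have hmemQ : ∀ x : Z, x ∈ Q ↔ πC x ∈ pCore p (Z ⧸ Subgroup.centralizer (V : Set Z)) := by
    intro x; rw [hQ]; exact Subgroup.mem_comap
  have hCQ : Subgroup.centralizer (V : Set Z) ≤ Q := by
    intro x hx
    rw [hmemQ, (hπCker x).mpr hx]
    exact Subgroup.one_mem _
  have hQmax : ∀ N : Subgroup Z, N.Normal → (∀ n ∈ N, ∃ k : ℕ, n ^ (p ^ k) ∈ Q) → N ≤ Q := by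
    intro N hNn hNp
    have h1 : IsPGroup p (N.map πC) := by
      rintro ⟨_, n, hn, rfl⟩
      obtain ⟨k, hk⟩ := hNp n hn
      obtain ⟨i, hi⟩ := (pCore_isPGroup p (Z ⧸ Subgroup.centralizer (V : Set Z)))
        ⟨πC (n ^ (p ^ k)), (hmemQ _).mp hk⟩
      have h2 : (πC (n ^ (p ^ k))) ^ (p ^ i) = 1 := congrArg Subtype.val hi
      refine ⟨k + i, Subtype.ext ?_⟩
      change (πC n) ^ (p ^ (k + i)) = 1
      rw [pow_add, pow_mul, ← map_pow]; exact h2
    have h2 : N.map πC ≤ pCore p (Z ⧸ Subgroup.centralizer (V : Set Z)) :=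
      le_pCore (hNn.map πC hπCsurj) h1
    intro n hn
    rw [hmemQ]
    exact h2 (Subgroup.mem_map_of_mem πC hn)
  have hHQ : H ≤ Q := by
    apply hQmax H hHn
    intro n hn
    obtain ⟨k, hk⟩ := hHp ⟨n, hn⟩
    refine ⟨k, ?_⟩
    have : n ^ (p ^ k) = 1 := congrArg Subtype.val hk
    rw [this]; exact Q.one_mem
  -- Step 2: `[M, a] ≤ Q`
  have hstep2 : ∀ y ∈ M, ⁅y, a⁆ ∈ Q := by
    intro y hy
    have hcM : ⁅y, a⁆ ∈ M := by
      rw [commutatorElement_def]
      have h1 := hMn.conj_mem y⁻¹ (M.inv_mem hy) a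
      have h2 : y * a * y⁻¹ * a⁻¹ = y * (a * y⁻¹ * a⁻¹) := by group
      rw [h2]; exact M.mul_mem hy h1
    obtain ⟨k, hk⟩ := exists_pow_commutator_mem_centralizer hp2 _ Z H M V hHn hMn hVn hHp hab K hK
      hMK hVH rfl a hquad y hy
    have h3 : ⁅y, a⁆ ∈ H ⊔ Subgroup.centralizer (V : Set Z) := by
      apply mem_of_pow_mem_of_coprime' _ (m := p ^ k) (n := K)
      · exact (Nat.Coprime.pow_right k hK).symm
      · exact Subgroup.mem_sup_right hk
      · exact Subgroup.mem_sup_left (hMK _ hcM)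
    exact (sup_le hHQ hCQ) h3
  -- Step 1: `a` is a `p`-element modulo `C`
  obtain ⟨j, m, hm, hjm⟩ := Nat.exists_eq_pow_mul_and_not_dvd (orderOf_pos a).ne' p hp.out.ne_one
  have haC : a ^ (p ^ j) ∈ Subgroup.centralizer (V : Set Z) :=
    pow_mem_centralizer_of_quadOn hVn hV hquad hjm hm
  -- Step 3: work in `Z / Q`
  obtain ⟨π, hπ⟩ : ∃ π : Z →* Z ⧸ Q, π = QuotientGroup.mk' Q := ⟨_, rfl⟩
  have hsurj : Function.Surjective π := by rw [hπ]; exact QuotientGroup.mk'_surjective Q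
  have hker : ∀ x : Z, π x = 1 ↔ x ∈ Q := by
    intro x; rw [hπ]; exact QuotientGroup.eq_one_iff x
  obtain ⟨Mq, hMq⟩ : ∃ Mq : Subgroup (Z ⧸ Q), Mq = M.map π := ⟨_, rfl⟩
  haveI hMqn : Mq.Normal := by rw [hMq]; exact hMn.map π hsurj
  have hMqp : ∀ z : Z ⧸ Q, ∃ k : ℕ, z ^ (p ^ k) ∈ Mq := by
    intro zb
    obtain ⟨z, rfl⟩ := hsurj zb
    obtain ⟨k, hk⟩ := hMp z
    exact ⟨k, by rw [hMq, ← map_pow]; exact Subgroup.mem_map_of_mem π hk⟩
  have hπa : (π a) ^ (p ^ j) = 1 := by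
    rw [← map_pow, hker]; exact hCQ haC
  have hzp : IsPGroup p (Subgroup.zpowers (π a)) := by
    rintro ⟨x, hx⟩
    obtain ⟨z, rfl⟩ := Subgroup.mem_zpowers_iff.mp hx
    refine ⟨j, Subtype.ext ?_⟩
    change ((π a) ^ z) ^ (p ^ j) = 1
    rw [← zpow_natCast, ← zpow_mul, mul_comm, zpow_mul, zpow_natCast, hπa, one_zpow]
  obtain ⟨P, hP⟩ := hzp.exists_le_sylow
  have haP : π a ∈ (P : Subgroup (Z ⧸ Q)) := hP (Subgroup.mem_zpowers _)
  have hMP : Mq ⊔ (P : Subgroup (Z ⧸ Q)) = ⊤ := sup_sylow_eq_top Mq hMqp P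
  haveI hCMn : (Subgroup.centralizer (Mq : Set (Z ⧸ Q))).Normal := inferInstance
  obtain ⟨R, hR⟩ : ∃ R : Subgroup (Z ⧸ Q),
      R = (P : Subgroup (Z ⧸ Q)) ⊓ Subgroup.centralizer (Mq : Set (Z ⧸ Q)) := ⟨_, rfl⟩
  have hRn : R.Normal := by
    rw [← Subgroup.normalizer_eq_top_iff, eq_top_iff, ← hMP]
    apply sup_le
    · -- `Mq` centralizes `R`
      intro m hm
      rw [Subgroup.mem_normalizer_iff]
      intro r
      have hfix : ∀ r' ∈ R, m * r' * m⁻¹ = r' := by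
        intro r' hr'
        rw [hR] at hr'
        have := Subgroup.mem_centralizer_iff.mp hr'.2 m hm
        rw [this, mul_inv_cancel_right]
      constructor
      · intro hr; rw [hfix r hr]; exact hr
      · intro hr
        have h1 := hfix _ hr
        have h2 : r = m * r * m⁻¹ := by
          have : m⁻¹ * (m * (m * r * m⁻¹) * m⁻¹) * m = m * r * m⁻¹ := by group
          rw [h1] at this
          have h3 : m⁻¹ * (m * r * m⁻¹) * m = r := by group
          rw [h3] at this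
          exact this
        rw [h2]; exact hr
    · rw [hR]; exact sylow_le_normalizer_inf_normal P _
  have hRp : IsPGroup p R := P.isPGroup'.to_le (by rw [hR]; exact inf_le_left)
  have hNQ : R.comap π ≤ Q := by
    apply hQmax _ inferInstance
    intro n hn
    obtain ⟨k, hk⟩ := hRp ⟨π n, hn⟩
    refine ⟨k, ?_⟩
    have : (π n) ^ (p ^ k) = 1 := congrArg Subtype.val hk
    rw [← hker, map_pow]; exact this
  have haR : π a ∈ R := by
    rw [hR]
    refine Subgroup.mem_inf.mpr ⟨haP, ?_⟩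
    rw [Subgroup.mem_centralizer_iff]
    rw [hMq]
    rintro _ ⟨y, hy, rfl⟩
    have := hstep2 y hy
    rw [← hker, map_commutatorElement, commutatorElement_eq_one_iff_mul_comm] at this
    exact this
  have haQ : a ∈ Q := hNQ haR
  have hfin := (hmemQ a).mp haQ
  rw [hπC] at hfin
  exact hfin

/-- **Normalizer-form `p`-stability of `PAbP`-groups** (`p` odd). -/
theorem isNormalizerPStable_of_pAbP (hp2 : p ≠ 2) (h : PAbP p Z) : IsNormalizerPStable p Z := by
  intro P hP g hg hquad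
  have hNP : PAbP p ↥(Subgroup.normalizer (P : Set Z)) :=
    h.of_injective _ (Subgroup.subtype_injective _)
  haveI hVn : (P.subgroupOf (Subgroup.normalizer (P : Set Z))).Normal :=
    Subgroup.normal_in_normalizer
  have hVp : IsPGroup p (P.subgroupOf (Subgroup.normalizer (P : Set Z))) := hP.comap_subtype
  have hquadZ : QuadOn P g := (quadOn_iff P g).mpr hquad
  have hmapV : (P.subgroupOf (Subgroup.normalizer (P : Set Z))).map
      (Subgroup.normalizer (P : Set Z)).subtype = P :=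
    Subgroup.map_subgroupOf_eq_of_le Subgroup.le_normalizer
  have hquadN : QuadOn (P.subgroupOf (Subgroup.normalizer (P : Set Z)))
      (⟨g, hg⟩ : ↥(Subgroup.normalizer (P : Set Z))) := by
    apply (quadOn_map_iff (Subgroup.normalizer (P : Set Z)).subtype
      (Subgroup.subtype_injective _) _ _).mp
    rw [hmapV]
    exact hquadZ
  have hst := isPStableOn_of_pAbP hp2 hNP (P.subgroupOf (Subgroup.normalizer (P : Set Z))) hVp
    ⟨g, hg⟩ ((quadOn_iff _ _).mp hquadN)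
  have heq : Subgroup.centralizer
      ((P.subgroupOf (Subgroup.normalizer (P : Set Z)) :
        Subgroup ↥(Subgroup.normalizer (P : Set Z))) : Set ↥(Subgroup.normalizer (P : Set Z))) =
      (Subgroup.centralizer (P : Set Z)).subgroupOf (Subgroup.normalizer (P : Set Z)) := by
    ext x
    rw [Subgroup.mem_centralizer_iff, Subgroup.mem_subgroupOf, Subgroup.mem_centralizer_iff]
    constructor
    · intro h1 q hq
      have := h1 ⟨q, Subgroup.le_normalizer hq⟩ (Subgroup.mem_subgroupOf.mpr hq)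
      exact congrArg Subtype.val this
    · intro h1 v hv
      exact Subtype.ext (h1 _ (Subgroup.mem_subgroupOf.mp hv))
  have h2 := pCore_map_equiv_le' p (QuotientGroup.quotientMulEquivOfEq heq)
    (Subgroup.mem_map_of_mem _ hst)
  exact h2

end stable

end Cfsg.Agent.Lib.Helper11
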