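import Cfsg.Agent.Lib.Helper41.PsDefs

set_option autoImplicit false

namespace Cfsg.Agent.Lib.Helper41.Ps

open Subgroup
open Cfsg.Agent.Lib.Helper22.Cg

universe u

/-- PS8. elements of a Sylow `p`-subgroup have `p`-power order; nontrivial ones are
`p`-singular. -/
theorem ps_sylow_elt {G : Type u} [Group G] [Finite G] (p : ℕ) [Fact p.Prime] (P : Sylow p G)
    (x : G) (hx : x ∈ P) : (∃ n : ℕ, orderOf x = p ^ n) ∧ (x ≠ 1 → p ∣ orderOf x) := by
  have hp : p.Prime := Fact.out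
  have h1 : ∃ n : ℕ, orderOf x = p ^ n := by
    obtain ⟨k, hk⟩ := P.isPGroup' ⟨x, hx⟩
    have hk' : x ^ p ^ k = 1 := by
      have := congrArg (fun y : (P : Subgroup G) => (y : G)) hk
      simpa using this
    have hdvd : orderOf x ∣ p ^ k := orderOf_dvd_of_pow_eq_one hk'
    obtain ⟨n, _, hn⟩ := (Nat.dvd_prime_pow hp).mp hdvd
    exact ⟨n, hn⟩
  refine ⟨h1, fun hx1 => ?_⟩
  obtain ⟨n, hn⟩ := h1
  rw [hn]
  have hn0 : n ≠ 0 := by
    rintro rfl
    rw [pow_zero, orderOf_eq_one_iff] at hn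
    exact hx1 hn
  exact dvd_pow_self p hn0

end Cfsg.Agent.Lib.Helper41.Ps
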