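import Mathlib

set_option autoImplicit false

/-!
# A ring-theoretic lemma on quadratic elements

Let `E` be a ring of odd prime characteristic `p`, `a ∈ E` with `(a - 1)² = 0`, and `S ⊆ E` a set of
pairwise commuting elements with `s ^ (p ^ n) = s` (`n ≥ 1`), stable under conjugation by `a`.
Then `a` commutes with every element of `S`.

This is the "abelian `p'`-group" case of `p`-stability.
-/

namespace Cfsg.Agent.Lib.Helper11

section ring

variable {E : Type*} [Ring E]

theorem commute_of_mem_closure {S : Set E} (hS : ∀ x ∈ S, ∀ y ∈ S, Commute x y) {x y : E}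
    (hx : x ∈ Subring.closure S) (hy : y ∈ Subring.closure S) : Commute x y := by
  have h1 : Subring.closure S ≤ Subring.centralizer S := by
    apply Subring.closure_le.mpr
    intro s hs
    rw [SetLike.mem_coe, Subring.mem_centralizer_iff]
    intro t ht
    exact (hS t ht s hs).eq
  have h2 : Subring.closure S ≤ Subring.centralizer (Subring.closure S : Set E) := by
    apply Subring.closure_le.mpr
    intro s hs
    rw [SetLike.mem_coe, Subring.mem_centralizer_iff]
    intro t ht
    have := h1 ht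
    rw [Subring.mem_centralizer_iff] at this
    exact (this s hs).symm
  have h3 := h2 hy
  rw [Subring.mem_centralizer_iff] at h3
  exact h3 x hx

theorem pow_eq_self_of_mem_closure {p : ℕ} [hp : Fact p.Prime] [CharP E p] (hp2 : p ≠ 2)
    {S : Set E} (hS : ∀ x ∈ S, ∀ y ∈ S, Commute x y) {n : ℕ} (hq : ∀ s ∈ S, s ^ (p ^ n) = s)
    {x : E} (hx : x ∈ Subring.closure S) : x ^ (p ^ n) = x := by
  have hodd : Odd (p ^ n) := (hp.out.odd_of_ne_two hp2).pow
  induction hx using Subring.closure_induction with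
  | mem x hx => exact hq x hx
  | zero => exact zero_pow (pow_ne_zero n hp.out.ne_zero)
  | one => exact one_pow _
  | add x y hx hy ihx ihy =>
    rw [add_pow_char_pow_of_commute p n (commute_of_mem_closure hS hx hy), ihx, ihy]
  | neg x hx ih => rw [hodd.neg_pow, ih]
  | mul x y hx hy ihx ihy =>
    rw [(commute_of_mem_closure hS hx hy).mul_pow, ihx, ihy]

/-- **Key lemma.** -/
theorem quad_commute {p : ℕ} [hp : Fact p.Prime] [CharP E p] (hp2 : p ≠ 2) (a : E)
    (ha : (a - 1) * (a - 1) = 0) (S : Set E) (hS : ∀ x ∈ S, ∀ y ∈ S, Commute x y)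
    (n : ℕ) (hn : 1 ≤ n) (hq : ∀ s ∈ S, s ^ (p ^ n) = s)
    (hconj : ∀ s ∈ S, a * s * (2 - a) ∈ S) : ∀ s ∈ S, Commute a s := by
  -- notation
  obtain ⟨N, hN⟩ : ∃ N, N = a - 1 := ⟨_, rfl⟩
  have hNN : N * N = 0 := by rw [hN]; exact ha
  have haN : a = 1 + N := by rw [hN]; abel
  obtain ⟨b, hb⟩ : ∃ b, b = 2 - a := ⟨_, rfl⟩
  have hbN : b = 1 - N := by rw [hb, hN, sub_sub_eq_add_sub, one_add_one_eq_two]
  have hab : a * b = 1 := by
    rw [haN, hbN]
    calc (1 + N) * (1 - N) = 1 - N * N := by noncomm_ring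
      _ = 1 := by rw [hNN, sub_zero]
  have hba : b * a = 1 := by
    rw [haN, hbN]
    calc (1 - N) * (1 + N) = 1 - N * N := by noncomm_ring
      _ = 1 := by rw [hNN, sub_zero]
  -- 2 is cancellable
  have h2 : ∀ z : E, 2 * z = 0 → z = 0 := by
    intro z hz
    obtain ⟨k, hk⟩ := hp.out.odd_of_ne_two hp2
    have h1 : (p : E) = 0 := CharP.cast_eq_zero E p
    have h3 : ((2 * k + 1 : ℕ) : E) * z = 0 := by rw [← hk, h1, zero_mul]
    push_cast at h3
    have h4 : (2 * (k : E) + 1) * z = (k : E) * (2 * z) + z := by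
      have hc : Commute (k : E) (2 : E) := (Nat.cast_commute k (2 : E))
      calc (2 * (k : E) + 1) * z = 2 * (k : E) * z + z := by rw [add_mul, one_mul]
        _ = (k : E) * 2 * z + z := by rw [hc.eq]
        _ = (k : E) * (2 * z) + z := by rw [mul_assoc]
    rw [h4, hz, mul_zero, zero_add] at h3
    exact h3
  -- the subring
  obtain ⟨A, hA⟩ : ∃ A : Subring E, A = Subring.closure S := ⟨_, rfl⟩
  have hcomm : ∀ x ∈ A, ∀ y ∈ A, x * y = y * x := by
    intro x hx y hy
    rw [hA] at hx hy
    exact (commute_of_mem_closure hS hx hy).eq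
  have hred : ∀ x ∈ A, x * x = 0 → x = 0 := by
    intro x hx hxx
    rw [hA] at hx
    have h1 := pow_eq_self_of_mem_closure hp2 hS hq hx
    have h2 : 2 ≤ p ^ n := by
      calc 2 ≤ p := hp.out.two_le
        _ = p ^ 1 := (pow_one p).symm
        _ ≤ p ^ n := Nat.pow_le_pow_right hp.out.pos hn
    obtain ⟨m, hm⟩ := Nat.exists_eq_add_of_le h2
    rw [hm, pow_add, pow_two, hxx, zero_mul] at h1
    exact h1.symm
  have hred3 : ∀ x ∈ A, x * x * x = 0 → x = 0 := by
    intro x hx hxxx
    apply hred x hx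
    apply hred (x * x) (A.mul_mem hx hx)
    calc x * x * (x * x) = x * x * x * x := by rw [mul_assoc (x * x) x x]
      _ = 0 := by rw [hxxx, zero_mul]
  -- conjugation by `a`
  let σ : E →+* E :=
    { toFun := fun x => a * x * b
      map_one' := by rw [mul_one, hab]
      map_mul' := fun x y => by
        calc a * (x * y) * b = a * x * 1 * y * b := by noncomm_ring
          _ = a * x * (b * a) * y * b := by rw [hba]
          _ = a * x * b * (a * y * b) := by noncomm_ring
      map_zero' := by rw [mul_zero, zero_mul]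
      map_add' := fun x y => by rw [mul_add, add_mul] }
  have hσdef : ∀ x, σ x = a * x * b := fun x => rfl
  have hσA : ∀ x ∈ A, σ x ∈ A := by
    have h1 : Subring.closure S ≤ (Subring.closure S).comap σ := by
      apply Subring.closure_le.mpr
      intro s hs
      rw [SetLike.mem_coe, Subring.mem_comap, hσdef, hb]
      exact Subring.subset_closure (hconj s hs)
    intro x hx
    rw [hA] at hx ⊢
    exact h1 hx
  -- identities for `x = σ l - l`
  have hE3 : ∀ l : E, N * (σ l - l) = -(σ l - l) * N := by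
    intro l
    rw [hσdef, haN, hbN]
    have e1 : N * ((1 + N) * l * (1 - N) - l) = N * N * l * (1 - N) - N * l * N := by noncomm_ring
    have e2 : -((1 + N) * l * (1 - N) - l) * N = -(N * l * N) + (1 + N) * l * (N * N) := by
      noncomm_ring
    rw [e1, e2, hNN]
    noncomm_ring
  have hσx : ∀ l : E, σ (σ l - l) = (σ l - l) - 2 * ((σ l - l) * N) := by
    intro l
    obtain ⟨x, hx⟩ : ∃ x, x = σ l - l := ⟨_, rfl⟩
    have h3 := hE3 l
    rw [← hx] at h3 ⊢
    rw [hσdef, haN, hbN]
    calc (1 + N) * x * (1 - N) = x + N * x - x * N - N * x * N := by noncomm_ring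
      _ = x + -x * N - x * N - (-x * N) * N := by rw [h3]
      _ = x - 2 * (x * N) + x * (N * N) := by noncomm_ring
      _ = x - 2 * (x * N) := by rw [hNN, mul_zero, add_zero]
  -- (E5): x * δ x = 0
  have hE5 : ∀ l ∈ A, (σ l - l) * (σ (σ l - l) - (σ l - l)) = 0 := by
    intro l hl
    obtain ⟨x, hx⟩ : ∃ x, x = σ l - l := ⟨_, rfl⟩
    have hxA : x ∈ A := by rw [hx]; exact A.sub_mem (hσA l hl) hl
    have h3 : N * x = -x * N := by rw [hx]; exact hE3 l
    have h4 : σ x = x - 2 * (x * N) := by rw [hx]; exact hσx l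
    rw [← hx]
    have h5 := hcomm x hxA (σ x) (hσA x hxA)
    rw [h4] at h5
    -- x * (x - 2 x N) = (x - 2 x N) * x
    have h6 : x * (x - 2 * (x * N)) = x * x - 2 * (x * x * N) := by noncomm_ring
    have h7 : (x - 2 * (x * N)) * x = x * x - 2 * (x * (N * x)) := by noncomm_ring
    rw [h6, h7, h3] at h5
    have h8 : x * (-x * N) = -(x * x * N) := by noncomm_ring
    rw [h8] at h5
    -- so 4 x x N = 0
    have h9 : 2 * (2 * (x * x * N)) = 0 := by
      have : x * x - 2 * (x * x * N) - (x * x - 2 * -(x * x * N)) = 0 := by rw [h5, sub_self]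
      have e : x * x - 2 * (x * x * N) - (x * x - 2 * -(x * x * N)) = -(2 * (2 * (x * x * N))) := by
        noncomm_ring
      rw [e, neg_eq_zero] at this
      exact this
    have h10 : x * x * N = 0 := h2 _ (h2 _ h9)
    rw [h4]
    calc x * (x - 2 * (x * N) - x) = -(2 * (x * x * N)) := by noncomm_ring
      _ = 0 := by rw [h10, mul_zero, neg_zero]
  -- δ² = 0
  have hδ2 : ∀ l ∈ A, σ (σ l - l) = σ l - l := by
    intro l hl
    obtain ⟨x, hx⟩ : ∃ x, x = σ l - l := ⟨_, rfl⟩
    have hxA : x ∈ A := by rw [hx]; exact A.sub_mem (hσA l hl) hl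
    obtain ⟨y, hy⟩ : ∃ y, y = σ x - x := ⟨_, rfl⟩
    have hyA : y ∈ A := by rw [hy]; exact A.sub_mem (hσA x hxA) hxA
    have hxy : x * y = 0 := by rw [hy, hx]; exact hE5 l hl
    have hyy : y * (σ y - y) = 0 := by rw [hy]; exact hE5 x hxA
    have h1 : σ x * σ y = 0 := by rw [← map_mul, hxy, map_zero]
    have h2' : σ x = x + y := by rw [hy]; abel
    rw [h2'] at h1
    have h3 : y * σ y = y * y := by
      have : y * (σ y - y) = y * σ y - y * y := mul_sub _ _ _
      rw [this, sub_eq_zero] at hyy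
      exact hyy
    have h4 : y * x = 0 := by rw [hcomm y hyA x hxA]; exact hxy
    have h5 : y * ((x + y) * σ y) = 0 := by rw [h1, mul_zero]
    have h6 : y * ((x + y) * σ y) = y * x * σ y + y * (y * σ y) := by noncomm_ring
    rw [h6, h4, zero_mul, zero_add, h3] at h5
    have h7 : y = 0 := hred3 y hyA (by rw [mul_assoc]; exact h5)
    rw [← hx]
    have : σ x - x = 0 := by rw [← hy, h7]
    exact sub_eq_zero.mp this
  -- δ = 0
  have hδ : ∀ l ∈ A, σ l = l := by
    intro l hl
    obtain ⟨x, hx⟩ : ∃ x, x = σ l - l := ⟨_, rfl⟩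
    have hxA : x ∈ A := by rw [hx]; exact A.sub_mem (hσA l hl) hl
    have hσx' : σ x = x := by rw [hx]; exact hδ2 l hl
    have hσl : σ l = l + x := by rw [hx]; abel
    have hlx : l * x = x * l := hcomm l hl x hxA
    have hll : l * l ∈ A := A.mul_mem hl hl
    have h1 := hδ2 (l * l) hll
    rw [map_mul, hσl] at h1
    have e1 : (l + x) * (l + x) - l * l = 2 * (l * x) + x * x := by
      calc (l + x) * (l + x) - l * l = l * x + x * l + x * x := by noncomm_ring
        _ = l * x + l * x + x * x := by rw [hlx]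
        _ = 2 * (l * x) + x * x := by rw [two_mul]
    rw [e1, map_add, map_mul, map_mul, map_mul, hσl, hσx'] at h1
    have hσ2 : σ 2 = 2 := map_ofNat σ 2
    rw [hσ2] at h1
    have e2 : 2 * ((l + x) * x) + x * x = 2 * (l * x) + x * x + 2 * (x * x) := by noncomm_ring
    rw [e2] at h1
    have h3 : 2 * (x * x) = 0 := by
      have := add_eq_left.mp h1
      exact this
    have h4 : x = 0 := hred x hxA (h2 _ h3)
    have : σ l - l = 0 := by rw [← hx, h4]
    exact sub_eq_zero.mp this
  intro s hs
  have hsA : s ∈ A := by rw [hA]; exact Subring.subset_closure hs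
  have h1 := hδ s hsA
  rw [hσdef] at h1
  -- a s b = s ⇒ a s = s a
  have : a * s = s * a := by
    calc a * s = a * s * 1 := (mul_one _).symm
      _ = a * s * (b * a) := by rw [hba]
      _ = a * s * b * a := by noncomm_ring
      _ = s * a := by rw [h1]
  exact this

end ring

end Cfsg.Agent.Lib.Helper11
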