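import Mathlib
import Cfsg.Agent.Lib.Helper38.RhDefs

set_option autoImplicit false

/-! RH-T7 (Rh hive of helper38): some torus contains a Sylow `p`-subgroup. -/

namespace Cfsg.Agent.Lib.Helper38.Rh

section abstract
variable {G : Type*} [Group G] [Finite G] {N : ℕ}

/-- RH-T7.  For a prime `p ∣ N` whose full power in `|G|` is the one in `N`, some torus contains a Sylow `p`-subgroup.
(`P` Sylow, `x ∈ Z(P)` of order `p`, `P ≤ C(x)`.)  [`N ≠ 0` is needed: the statement is false for `N = 0`, `G = 1`.] -/
theorem exists_torus_sylow (h : TorusHyp G N) (hN : N ≠ 0) {p : ℕ} (hp : p.Prime) (hpN : p ∣ N)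
    (hfac : (Nat.card G).factorization p = N.factorization p) :
    ∃ T : Subgroup G, IsTorus N T ∧ (Nat.card ↥T).factorization p = N.factorization p := by
  haveI : Fact p.Prime := ⟨hp⟩
  have hpos : 0 < N.factorization p := hp.factorization_pos_of_dvd hN hpN
  obtain ⟨P⟩ : Nonempty (Sylow p G) := inferInstance
  have hPcard : Nat.card ↥(P : Subgroup G) = p ^ (Nat.card G).factorization p := P.card_eq_multiplicity
  have hPgroup : IsPGroup p ↥(P : Subgroup G) := P.isPGroup'
  -- `P` is non-trivial
  have hPnt : Nontrivial ↥(P : Subgroup G) := by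
    rw [← Finite.one_lt_card_iff_nontrivial, hPcard, hfac]
    exact Nat.one_lt_pow hpos.ne' hp.one_lt
  -- an element of order `p` in the centre of `P`
  haveI := hPgroup.center_nontrivial
  have hZp : IsPGroup p ↥(Subgroup.center ↥(P : Subgroup G)) := hPgroup.to_subgroup _
  have hZdvd : p ∣ Nat.card ↥(Subgroup.center ↥(P : Subgroup G)) := by
    rcases hZp.card_eq_or_dvd with h1 | h1
    · exfalso
      have := Finite.one_lt_card_iff_nontrivial.2
        (inferInstance : Nontrivial ↥(Subgroup.center ↥(P : Subgroup G)))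
      omega
    · exact h1
  obtain ⟨z, hz⟩ := exists_prime_orderOf_dvd_card' p hZdvd
  set x : G := ((z : ↥(P : Subgroup G)) : G) with hx
  have hxord : orderOf x = p := by
    rw [hx, Subgroup.orderOf_coe, Subgroup.orderOf_coe, hz]
  refine ⟨Subgroup.centralizer ({x} : Set G), ⟨x, p, hp, hpN, hxord, rfl⟩, ?_⟩
  -- `P ≤ C(x)`
  have hPle : (P : Subgroup G) ≤ Subgroup.centralizer ({x} : Set G) := by
    intro y hy
    rw [Subgroup.mem_centralizer_iff]
    intro g hg
    rw [Set.mem_singleton_iff] at hg
    subst hg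
    have hzc := Subgroup.mem_center_iff.1 z.2 ⟨y, hy⟩
    have := congrArg (Subtype.val : ↥(P : Subgroup G) → G) hzc
    simpa [hx] using this.symm
  obtain ⟨-, hTN, -⟩ := h x p hp hpN hxord
  have hT0 : Nat.card ↥(Subgroup.centralizer ({x} : Set G)) ≠ 0 := Nat.card_pos.ne'
  apply le_antisymm
  · exact (Nat.factorization_le_iff_dvd hT0 hN).2 hTN p
  · have hdvd : p ^ (Nat.card G).factorization p ∣ Nat.card ↥(Subgroup.centralizer ({x} : Set G)) := by
      rw [← hPcard]
      exact Subgroup.card_dvd_of_le hPle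
    rw [← hfac]
    exact (hp.pow_dvd_iff_le_factorization hT0).1 hdvd

end abstract

end Cfsg.Agent.Lib.Helper38.Rh
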