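import Mathlib
import Cfsg.Agent.Lib.Helper21.S11Defs

set_option autoImplicit false

namespace Cfsg.Agent.Lib.Helper21.S11

variable {G : Type*} [Group G] [Finite G]

/-- |X| = |XM/M| * |X ⊓ M|. -/
theorem card_eq_card_map_mul (M : Subgroup G) [M.Normal] (X : Subgroup G) :
    Nat.card ↥X = Nat.card ↥(X.map (QuotientGroup.mk' M)) * Nat.card ↥(X ⊓ M) := by
  classical
  set f : ↥X →* ↥(X.map (QuotientGroup.mk' M)) := (QuotientGroup.mk' M).subgroupMap X with hf
  have hsurj : Function.Surjective f := (QuotientGroup.mk' M).subgroupMap_surjective X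
  have h1 : Nat.card ↥X = Nat.card (↥X ⧸ f.ker) * Nat.card ↥f.ker :=
    Subgroup.card_eq_card_quotient_mul_card_subgroup f.ker
  have h2 : Nat.card (↥X ⧸ f.ker) = Nat.card ↥(X.map (QuotientGroup.mk' M)) :=
    Nat.card_congr (QuotientGroup.quotientKerEquivOfSurjective f hsurj).toEquiv
  have h3 : f.ker = (X ⊓ M).subgroupOf X := by
    ext x
    rw [MonoidHom.mem_ker, Subgroup.mem_subgroupOf, Subgroup.mem_inf]
    constructor
    · intro hx
      have hx' : ((f x : ↥(X.map (QuotientGroup.mk' M))) : G ⧸ M) = 1 := by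
        rw [hx]; rfl
      have hx2 : (QuotientGroup.mk' M) (x : G) = 1 := hx'
      rw [QuotientGroup.mk'_apply, QuotientGroup.eq_one_iff] at hx2
      exact ⟨x.2, hx2⟩
    · rintro ⟨-, hxM⟩
      apply Subtype.ext
      show (QuotientGroup.mk' M) (x : G) = 1
      rw [QuotientGroup.mk'_apply, QuotientGroup.eq_one_iff]
      exact hxM
  have h4 : Nat.card ↥f.ker = Nat.card ↥(X ⊓ M) := by
    rw [h3]
    exact Nat.card_congr (Subgroup.subgroupOfEquivOfLe (inf_le_left : X ⊓ M ≤ X)).toEquiv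
  rw [h1, h2, h4]

end Cfsg.Agent.Lib.Helper21.S11
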