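import Cfsg.Agent.Lib.Helper66.S3Defs

set_option autoImplicit false

namespace Cfsg.Agent.Lib.Helper66.S3

universe u

section decomp

variable {H V : Type u} [Group H] [CommGroup V] [MulDistribMulAction A3 H]
  [MulDistribMulAction A3 V] [MulDistribMulAction H V] {p r : ℕ} {F : Subgroup H}

theorem d9_mem_mapA (a : A3) (C : Subgroup H) (x : H) :
    x ∈ mapA a C ↔ ∃ c ∈ C, a • c = x := by
  unfold mapA
  exact Subgroup.mem_map

theorem d9_mapA_one (C : Subgroup H) : mapA (1 : A3) C = C := by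
  ext x
  rw [d9_mem_mapA]
  constructor
  · rintro ⟨c, hc, rfl⟩
    rwa [one_smul]
  · intro hx
    exact ⟨x, hx, one_smul _ _⟩

theorem d9_mapA_mul (a b : A3) (C : Subgroup H) : mapA (a * b) C = mapA a (mapA b C) := by
  ext x
  rw [d9_mem_mapA, d9_mem_mapA]
  constructor
  · rintro ⟨c, hc, rfl⟩
    exact ⟨b • c, (d9_mem_mapA b C _).mpr ⟨c, hc, rfl⟩, (mul_smul a b c).symm⟩
  · rintro ⟨y, hy, rfl⟩
    obtain ⟨c, hc, rfl⟩ := (d9_mem_mapA b C y).mp hy
    exact ⟨c, hc, mul_smul a b c⟩

/-- The stabilizer of `C` in `A3` (for the action `mapA`). -/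
def d9_stab (C : Subgroup H) : Subgroup A3 where
  carrier := {b | mapA b C = C}
  one_mem' := d9_mapA_one C
  mul_mem' := by
    intro a b ha hb
    have ha' : mapA a C = C := ha
    have hb' : mapA b C = C := hb
    show mapA (a * b) C = C
    rw [d9_mapA_mul, hb', ha']
  inv_mem' := by
    intro a ha
    have ha' : mapA a C = C := ha
    show mapA a⁻¹ C = C
    calc mapA a⁻¹ C = mapA a⁻¹ (mapA a C) := by rw [ha']
      _ = mapA (a⁻¹ * a) C := (d9_mapA_mul _ _ _).symm
      _ = C := by rw [inv_mul_cancel, d9_mapA_one]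

theorem d9_fixed_trivial (cfg : Config H V p r F)
    (hD4 : ∀ (C : Subgroup H) (a : A3) (v : V), v ∈ comp F C → a • v ∈ comp F (mapA a C))
    (hD6 : iSupIndep (fun C : Subgroup H => comp (V := V) F C))
    (C : Subgroup H) (v : V) (hv : v ∈ comp F C)
    (hfix : ∀ b : A3, mapA b C = C → b • v = v) : v = 1 := by
  classical
  have : Finite V := cfg.hyp.finV
  set P : V := ∏ b : A3, b • v with hP
  have hPfix : ∀ a : A3, a • P = P := by
    intro a
    have h1 : a • P = ∏ b : A3, a • (b • v) := by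
      rw [hP]
      exact map_prod (MulDistribMulAction.toMonoidHom V a) (fun b => b • v) Finset.univ
    rw [h1]
    have h2 : ∀ b : A3, a • (b • v) = (a * b) • v := fun b => (mul_smul a b v).symm
    simp_rw [h2]
    exact (Group.mulLeft_bijective a).prod_comp (fun b => b • v)
  have hP1 : P = 1 := cfg.hyp.fpfV P hPfix
  let T : Finset A3 := Finset.univ.filter (fun b => mapA b C = C)
  have hsplit : P = (∏ b ∈ T, b • v) *
      ∏ b ∈ Finset.univ.filter (fun b : A3 => ¬ mapA b C = C), b • v := by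
    rw [hP]
    exact (Finset.prod_filter_mul_prod_filter_not Finset.univ (fun b : A3 => mapA b C = C)
      (fun b => b • v)).symm
  have hT : ∏ b ∈ T, b • v = v ^ T.card := by
    rw [Finset.prod_congr rfl (fun b hb => hfix b (Finset.mem_filter.mp hb).2), Finset.prod_const]
  have hQ : (∏ b ∈ Finset.univ.filter (fun b : A3 => ¬ mapA b C = C), b • v) ∈
      ⨆ (j : Subgroup H) (_ : j ≠ C), comp (V := V) F j := by
    apply Subgroup.prod_mem
    intro b hb
    have hne : mapA b C ≠ C := (Finset.mem_filter.mp hb).2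
    have hbv : b • v ∈ comp (V := V) F (mapA b C) := hD4 C b v hv
    exact (le_iSup₂ (f := fun (j : Subgroup H) (_ : j ≠ C) => comp (V := V) F j)
      (mapA b C) hne) hbv
  have hvT : v ^ T.card ∈ comp (V := V) F C := Subgroup.pow_mem _ hv _
  have hvT' : v ^ T.card ∈ ⨆ (j : Subgroup H) (_ : j ≠ C), comp (V := V) F j := by
    have hinv : v ^ T.card =
        (∏ b ∈ Finset.univ.filter (fun b : A3 => ¬ mapA b C = C), b • v)⁻¹ := by
      rw [eq_inv_iff_mul_eq_one, ← hT, ← hsplit, hP1]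
    rw [hinv]
    exact Subgroup.inv_mem _ hQ
  have hdisj := hD6 C
  have hvT1 : v ^ T.card = 1 := (Subgroup.disjoint_def.mp hdisj) hvT hvT'
  have hTcard : T.card ∣ 6 := by
    have h1 : Nat.card (d9_stab (H := H) C) = T.card :=
      Nat.subtype_card T (by intro x; simp [T, d9_stab])
    have h2 : Nat.card (d9_stab (H := H) C) ∣ Nat.card A3 := Subgroup.card_subgroup_dvd_card _
    have h3 : Nat.card A3 = 6 := by
      rw [Nat.card_eq_fintype_card, Fintype.card_perm, Fintype.card_fin]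
      rfl
    rw [h1, h3] at h2
    exact h2
  have hv6 : v ^ 6 = 1 := by
    obtain ⟨k, hk⟩ := hTcard
    rw [hk, pow_mul, hvT1, one_pow]
  have hvV : v ^ Nat.card V = 1 := pow_card_eq_one'
  have hg : v ^ Nat.gcd (Nat.card V) 6 = 1 := pow_gcd_eq_one.mpr ⟨hvV, hv6⟩
  rw [Nat.Coprime.gcd_eq_one cfg.hyp.copV, pow_one] at hg
  exact hg

/-- D9 with D4 and D6 as explicit hypotheses. -/
theorem d9_core (cfg : Config H V p r F)
    (hD4 : ∀ (C : Subgroup H) (a : A3) (v : V), v ∈ comp F C → a • v ∈ comp F (mapA a C))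
    (hD6 : iSupIndep (fun C : Subgroup H => comp (V := V) F C))
    (C : Subgroup H) (hC : comp (V := V) F C ≠ ⊥) :
    ∃ a : A3, a ≠ 1 ∧ mapA a C = C ∧
      ∀ v ∈ comp (V := V) F C, (∀ b : A3, mapA b C = C → b • v = v) → v = 1 := by
  have key : ∀ v ∈ comp (V := V) F C, (∀ b : A3, mapA b C = C → b • v = v) → v = 1 :=
    fun v hv hfix => d9_fixed_trivial cfg hD4 hD6 C v hv hfix
  by_contra hcon
  apply hC
  rw [eq_bot_iff]
  intro v hv
  rw [Subgroup.mem_bot]
  apply key v hv
  intro b hb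
  by_cases hb1 : b = 1
  · rw [hb1, one_smul]
  · exact absurd ⟨b, hb1, hb, key⟩ hcon

end decomp

end Cfsg.Agent.Lib.Helper66.S3
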