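import Cfsg.Agent.Lib.Helper76.SlDefs

set_option autoImplicit false

/-! SL-AR5 (Sl hive of helper76, S2332): the three concrete cases `(4,4)`, `(5,2)`, `(5,3)`. -/

namespace Cfsg.Agent.Lib.Helper76.Sl

/-- AR5 (special: the predecessor `(n-1, q)` is exceptional, `(n, q)` is not) -/
theorem ar5 (q n c m0 : ℕ) (hn : Exc (n - 1) q) (hn' : ¬ Exc n q) (h4 : 4 ≤ n)
    (hc : c = 0 ∨ c = 1 ∨ q ^ (n - 3) - 1 ≤ c) (hm0 : m0 = c + (q ^ (n - 2) - 1))
    (hdvd : ((m0 + (q ^ (n - 1) - 1) : ℕ) : ℤ) ∣ (Ccl q n : ℤ) * ((m0 : ℤ) - 1)) :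
    Npt q (n - 1) ≤ m0 := by
  subst hm0
  by_contra hlt
  rw [not_le] at hlt
  have hcases : (n = 4 ∧ q = 4) ∨ (n = 5 ∧ q = 2) ∨ (n = 5 ∧ q = 3) := by
    rcases hn with ⟨h1, h2⟩ | ⟨h1, h2⟩ | ⟨h1, h2⟩ | ⟨h1, h2⟩
    · exfalso
      apply hn'
      right; right; left
      exact ⟨by omega, h2⟩
    · left; exact ⟨by omega, h2⟩
    · right; left; exact ⟨by omega, h2⟩
    · right; right; exact ⟨by omega, h2⟩
  rcases hcases with ⟨rfl, rfl⟩ | ⟨rfl, rfl⟩ | ⟨rfl, rfl⟩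
  · have hN3 : Npt 4 (4 - 1) = 21 := by simp [Npt, Finset.sum_range_succ]
    have hC : Ccl 4 4 = 5355 := by simp [Ccl, Npt, Finset.sum_range_succ]
    rw [hN3] at hlt
    rw [hC] at hdvd
    norm_num at hc hlt hdvd
    have hc5 : c ≤ 5 := by omega
    interval_cases c <;> first | omega | (norm_num at hdvd)
  · have hN3 : Npt 2 (5 - 1) = 15 := by simp [Npt, Finset.sum_range_succ]
    have hC : Ccl 2 5 = 465 := by simp [Ccl, Npt, Finset.sum_range_succ]
    rw [hN3] at hlt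
    rw [hC] at hdvd
    norm_num at hc hlt hdvd
    have hc5 : c ≤ 7 := by omega
    interval_cases c <;> first | omega | (norm_num at hdvd)
  · have hN3 : Npt 3 (5 - 1) = 40 := by simp [Npt, Finset.sum_range_succ]
    have hC : Ccl 3 5 = 9680 := by simp [Ccl, Npt, Finset.sum_range_succ]
    rw [hN3] at hlt
    rw [hC] at hdvd
    norm_num at hc hlt hdvd
    have hc5 : c ≤ 13 := by omega
    interval_cases c <;> first | omega | (norm_num at hdvd)

end Cfsg.Agent.Lib.Helper76.Sl
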