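import Cfsg.Agent.Lib.Helper23.U3Defs
import Cfsg.Agent.Lib.Helper13.UnitaryGen4
import Cfsg.Agent.Lib.Helper13.UnitaryConfig
import Cfsg.Agent.Lib.Helper99.UnitaryND1

set_option autoImplicit false

/-! U3-EX (U3 hive of helper23, S2283): the configuration exists. -/

namespace Cfsg.Agent.Lib.Helper23.U3

open Matrix Cfsg.Agent.Lib.Helper99 Cfsg.Agent.Lib.Helper13 Cfsg.Agent.Lib.Helper90.Psu

variable {F : Type*} [Field F] [Fintype F] {q : ℕ}

local notation "hh" => Cfsg.hermForm 3 F q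

/-- an element of order `q + 1` in `F` -/
theorem u3ex11_exists_mu (hF : Fintype.card F = q ^ 2) : ∃ μ : F, orderOf μ = q + 1 := by
  classical
  have hq := Cfsg.Agent.Lib.Helper99.q_ge_two hF
  obtain ⟨g, hg⟩ := IsCyclic.exists_generator (α := Fˣ)
  have hord : orderOf g = q ^ 2 - 1 := by
    rw [orderOf_eq_card_of_forall_mem_zpowers hg, Nat.card_eq_fintype_card, Fintype.card_units, hF]
  refine ⟨((g ^ (q - 1) : Fˣ) : F), ?_⟩
  have h1 : q ^ 2 - 1 = (q - 1) * (q + 1) := by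
    obtain ⟨k, rfl⟩ : ∃ k, q = k + 1 := ⟨q - 1, by omega⟩
    have e : (k + 1) ^ 2 = k * (k + 1 + 1) + 1 := by ring
    rw [e, Nat.add_sub_cancel, Nat.add_sub_cancel]
  rw [orderOf_units, orderOf_pow' g (by omega : q - 1 ≠ 0), hord, h1,
    Nat.gcd_eq_right (Dvd.intro _ rfl)]
  exact Nat.mul_div_cancel_left (q + 1) (by omega)

/-- characteristic `2` when `q = 8` -/
theorem u3ex11_two_eq_zero (hF : Fintype.card F = q ^ 2) (h8 : q = 8) : (2 : F) = 0 := by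
  subst h8
  obtain ⟨p, hp⟩ := CharP.exists F
  haveI := hp
  obtain ⟨n, hpp, hn⟩ := FiniteField.card F p
  have hdvd : p ∣ 2 ^ 6 := by
    have h1 : p ∣ Fintype.card F := by
      rw [hn]
      exact dvd_pow_self p n.ne_zero
    rw [hF] at h1
    norm_num at h1 ⊢
    exact h1
  have hp2 : p = 2 := (Nat.prime_dvd_prime_iff_eq hpp Nat.prime_two).1 (hpp.dvd_of_dvd_pow hdvd)
  subst hp2
  exact_mod_cast CharP.cast_eq_zero F 2

/-- U3-EX -/
theorem exists_cfg (hF : Fintype.card F = q ^ 2) (hq : 3 ≤ q) :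
    ∃ C : Cfg q F, orderOf C.μ = q + 1 ∧ (q = 8 → C.c = 1) := by
  obtain ⟨e, f, hee, hff, hef, -⟩ :=
    Cfsg.Agent.Lib.Helper13.exists_hyp_pair_coords (n := 3) hF (0 : Fin 3) 1 (by decide)
  have hfe : hh f e = 1 := by rw [← hermForm_conj hF 3 e f, hef, one_pow]
  obtain ⟨ε, hεε, hεe, hεf⟩ := Cfsg.Agent.Lib.Helper13.exists_unit_perp hF le_rfl e f hee hff hfe
  obtain ⟨μ, hμord⟩ := u3ex11_exists_mu hF
  have hμ : μ ^ (q + 1) = 1 := by rw [← hμord]; exact pow_orderOf_eq_one μ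
  have hμ2 : μ ^ 2 ≠ 1 := by
    intro h
    have h1 := orderOf_dvd_of_pow_eq_one h
    rw [hμord] at h1
    have h2 := Nat.le_of_dvd (by norm_num) h1
    omega
  have hμ0 : μ ≠ 0 := by
    intro h
    rw [h, zero_pow (Nat.succ_ne_zero q)] at hμ
    exact zero_ne_one hμ
  obtain ⟨c, hc0, hc, hc8⟩ : ∃ c : F, c ≠ 0 ∧ c + c ^ q = 0 ∧ (q = 8 → c = 1) := by
    by_cases h8 : q = 8
    · refine ⟨1, one_ne_zero, ?_, fun _ => rfl⟩
      rw [one_pow, one_add_one_eq_two]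
      exact u3ex11_two_eq_zero hF h8
    · obtain ⟨τ, hτ0, hτ⟩ := Cfsg.Agent.Lib.Helper99.exists_trace_zero hF
      exact ⟨τ, hτ0, hτ, fun h => absurd h h8⟩
  have hμq : μ ^ q = μ⁻¹ := by
    have h1 : μ ^ q * μ = 1 := by rw [← pow_succ]; exact hμ
    exact eq_inv_of_mul_eq_one_left h1
  have hsq : (μ⁻¹ - μ) ^ q = -(μ⁻¹ - μ) := by
    rw [Cfsg.Agent.Lib.Helper99.frob_sub hF, inv_pow, hμq, inv_inv]
    ring
  have hcq : c ^ q = -c := by linear_combination hc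
  have hfix : ((μ⁻¹ - μ) ^ 3 / c) ^ q = (μ⁻¹ - μ) ^ 3 / c := by
    rw [div_pow, ← pow_mul, mul_comm 3 q, pow_mul, hsq, hcq, Odd.neg_pow (by decide : Odd 3),
      neg_div_neg_eq]
  obtain ⟨a, ha⟩ := Cfsg.Agent.Lib.Helper99.exists_norm_eq hF ((μ⁻¹ - μ) ^ 3 / c) hfix
  refine ⟨{ e := e, ε := ε, f := f, μ := μ, c := c, a := a, β := (3 * μ⁻¹ - 2 - μ⁻¹ ^ 3) / c,
            hee := hee, hff := hff, hef := hef, hεε := hεε, hεe := hεe, hεf := hεf,
            hμ := hμ, hμ2 := hμ2, hc := hc, hc0 := hc0,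
            hβ := by field_simp,
            ha := by rw [ha]; field_simp }, hμord, hc8⟩

end Cfsg.Agent.Lib.Helper23.U3
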