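import Cfsg.Agent.Lib.Helper27.U3Line3Defs

set_option autoImplicit false

/-! L3-PIGEON (U3-LINE3 sub-hive of helper27, U3 hive S2283): more than `|F| + 1` vectors of `F^3`
outside the line `F x`: two of them are collinear with `x`. -/

namespace Cfsg.Agent.Lib.Helper23.U3

open Matrix Cfsg.Agent.Lib.Helper99 Cfsg.Agent.Lib.Helper13 Cfsg.Agent.Lib.Helper90.Psu

variable {F : Type*} [Field F] [Fintype F] {q : ℕ}

local notation "hh" => Cfsg.hermForm 3 F q

omit [Fintype F] in
/-- the two `2 x 2` minors against `x` vanish: `v` is a multiple of `x` -/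
theorem l3pigeon_prop (x v : Fin 3 → F) (k : Fin 3) (hk : x k ≠ 0)
    (ha : v (k + 1) * x k - v k * x (k + 1) = 0) (hb : v (k + 2) * x k - v k * x (k + 2) = 0) :
    v = (v k / x k) • x := by
  have key : ∀ k i : Fin 3, i = k ∨ i = k + 1 ∨ i = k + 2 := by decide
  funext i
  rw [Pi.smul_apply, smul_eq_mul]
  rcases key k i with rfl | rfl | rfl
  · field_simp
  · field_simp
    linear_combination ha
  · field_simp
    linear_combination hb

/-- L3-PIGEON -/
theorem l3_pigeon {ι : Type*} [Finite ι] (x : Fin 3 → F) (hx0 : x ≠ 0) (p : ι → Fin 3 → F)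
    (hcard : Nat.card F + 1 < Nat.card ι) (hp : ∀ i, ∀ t : F, p i ≠ t • x) :
    ∃ i j, i ≠ j ∧ ∃ l m : F, p i = l • p j + m • x := by
  classical
  haveI : Fintype ι := Fintype.ofFinite ι
  obtain ⟨k, hk⟩ : ∃ k, x k ≠ 0 := by
    by_contra h
    push_neg at h
    exact hx0 (funext h)
  let A : (Fin 3 → F) → F := fun v => v (k + 1) * x k - v k * x (k + 1)
  let B : (Fin 3 → F) → F := fun v => v (k + 2) * x k - v k * x (k + 2)
  have hAB : ∀ v, A v = 0 → B v = 0 → v = (v k / x k) • x :=
    fun v ha hb => l3pigeon_prop x v k hk ha hb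
  have hAlin : ∀ (l : F) (v w : Fin 3 → F), A (v - l • w) = A v - l * A w := by
    intro l v w
    simp only [A, Pi.sub_apply, Pi.smul_apply, smul_eq_mul]
    ring
  have hBlin : ∀ (l : F) (v w : Fin 3 → F), B (v - l • w) = B v - l * B w := by
    intro l v w
    simp only [B, Pi.sub_apply, Pi.smul_apply, smul_eq_mul]
    ring
  let s : ι → Option F := fun i => if B (p i) = 0 then none else some (A (p i) / B (p i))
  have hlt : Fintype.card (Option F) < Fintype.card ι := by
    rw [Fintype.card_option, ← Nat.card_eq_fintype_card, ← Nat.card_eq_fintype_card]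
    exact hcard
  obtain ⟨i, j, hij, hs⟩ := Fintype.exists_ne_map_eq_of_card_lt s hlt
  refine ⟨i, j, hij, ?_⟩
  suffices h : ∃ l : F, A (p i - l • p j) = 0 ∧ B (p i - l • p j) = 0 by
    obtain ⟨l, ha, hb⟩ := h
    refine ⟨l, (p i - l • p j) k / x k, ?_⟩
    have h1 := hAB _ ha hb
    rw [← h1]
    abel
  by_cases hbi : B (p i) = 0
  · have hbj : B (p j) = 0 := by
      by_contra hbj
      simp only [s, if_pos hbi, if_neg hbj] at hs
      exact absurd hs (by simp)
    have haj : A (p j) ≠ 0 := fun haj => hp j _ (hAB _ haj hbj)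
    refine ⟨A (p i) / A (p j), ?_, ?_⟩
    · rw [hAlin, div_mul_cancel₀ _ haj, sub_self]
    · rw [hBlin, hbi, hbj, mul_zero, sub_zero]
  · have hbj : B (p j) ≠ 0 := by
      intro hbj
      simp only [s, if_neg hbi, if_pos hbj] at hs
      exact absurd hs (by simp)
    simp only [s, if_neg hbi, if_neg hbj, Option.some.injEq] at hs
    refine ⟨B (p i) / B (p j), ?_, ?_⟩
    · rw [hAlin]
      have h2 : A (p i) = A (p j) / B (p j) * B (p i) := by
        rw [← hs, div_mul_cancel₀ _ hbi]
      rw [h2]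
      field_simp
      ring
    · rw [hBlin, div_mul_cancel₀ _ hbj, sub_self]

end Cfsg.Agent.Lib.Helper23.U3
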