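import Cfsg.Agent.Lib.Helper27.U3Line3Defs
import Cfsg.Agent.Lib.Helper13.UParab1

set_option autoImplicit false

/-! L3-TRACE (U3-LINE3 sub-hive of helper27, U3 hive S2283): at least `q` trace-zero elements. -/

namespace Cfsg.Agent.Lib.Helper23.U3

open Matrix Cfsg.Agent.Lib.Helper99 Cfsg.Agent.Lib.Helper13 Cfsg.Agent.Lib.Helper90.Psu

variable {F : Type*} [Field F] [Fintype F] {q : ℕ}

local notation "hh" => Cfsg.hermForm 3 F q

/-- L3-TRACE -/
theorem l3_trace (hF : Fintype.card F = q ^ 2) : q ≤ Nat.card {c : F // c + c ^ q = 0} := by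
  have hq2 := Cfsg.Agent.Lib.Helper99.q_ge_two hF
  have h0 : (0 : F) ^ q = 0 := zero_pow (by omega)
  exact (Cfsg.Agent.Lib.Helper13.card_trace_fiber hF 0 h0).ge

end Cfsg.Agent.Lib.Helper23.U3
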