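import Mathlib

set_option autoImplicit false

/-! WE-ARITH (We hive of helper14, S2347). -/

namespace Cfsg.Agent.Lib.Helper14.We

/-- WE-ARITH. -/
theorem arith (q n : ℕ) (hq : Odd q) : q ^ n = 2 * ((q ^ n - 1) / 2) + 1 := by
  obtain ⟨k, hk⟩ := hq.pow (n := n)
  rw [hk]
  omega

end Cfsg.Agent.Lib.Helper14.We
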