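import Cfsg.Agent.Lib.Helper3.CharBasic

set_option autoImplicit false

/-! WE-SPLIT (We hive of helper14, S2347): the `±1`-eigenspaces of the parity operator `P` are
subrepresentations, the trace is additive, the dimensions are `d + 1` and `d`. -/

namespace Cfsg.Agent.Lib.Helper14.We

open Matrix Cfsg
open scoped ComplexConjugate

section Abstract

variable {W : Type*} [AddCommGroup W] [Module ℂ W] [FiniteDimensional ℂ W]

/-- `true ↦ ker (P - 1)`, `false ↦ ker (P + 1)` -/
def split_N (P : Module.End ℂ W) : Bool → Submodule ℂ W :=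
  fun b => cond b (LinearMap.ker (P - 1)) (LinearMap.ker (P + 1))

omit [FiniteDimensional ℂ W] in
theorem split_mem_true (P : Module.End ℂ W) (x : W) : x ∈ split_N P true ↔ P x = x := by
  show x ∈ LinearMap.ker (P - 1) ↔ _
  rw [LinearMap.mem_ker, LinearMap.sub_apply, Module.End.one_apply, sub_eq_zero]

omit [FiniteDimensional ℂ W] in
theorem split_mem_false (P : Module.End ℂ W) (x : W) : x ∈ split_N P false ↔ P x = -x := by
  show x ∈ LinearMap.ker (P + 1) ↔ _
  rw [LinearMap.mem_ker, LinearMap.add_apply, Module.End.one_apply, add_eq_zero_iff_eq_neg]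

omit [FiniteDimensional ℂ W] in
theorem split_isCompl (P : Module.End ℂ W) (hP2 : P * P = 1) :
    IsCompl (split_N P true) (split_N P false) := by
  have hPP : ∀ x, P (P x) = x := fun x => by
    have := LinearMap.congr_fun hP2 x
    simpa using this
  constructor
  · rw [Submodule.disjoint_def]
    intro x hx1 hx2
    rw [split_mem_true] at hx1
    rw [split_mem_false] at hx2
    have h : x = -x := hx1.symm.trans hx2
    have h2 : (2 : ℂ) • x = 0 := by
      rw [two_smul]
      nth_rewrite 1 [h]
      exact neg_add_cancel x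
    exact (smul_eq_zero.1 h2).resolve_left two_ne_zero
  · rw [codisjoint_iff, eq_top_iff]
    intro x _
    rw [Submodule.mem_sup]
    refine ⟨(2⁻¹ : ℂ) • (x + P x), ?_, (2⁻¹ : ℂ) • (x - P x), ?_, ?_⟩
    · rw [split_mem_true, map_smul, map_add, hPP, add_comm]
    · rw [split_mem_false, map_smul, map_sub, hPP, ← smul_neg, neg_sub]
    · rw [← smul_add]
      have : x + P x + (x - P x) = (2 : ℂ) • x := by
        rw [two_smul]; abel
      rw [this, smul_smul]
      norm_num

omit [FiniteDimensional ℂ W] in
theorem split_isInternal (P : Module.End ℂ W) (hP2 : P * P = 1) :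
    DirectSum.IsInternal (split_N P) := by
  refine (DirectSum.isInternal_submodule_iff_isCompl (split_N P) (i := true) (j := false)
    (by decide) ?_).2 (split_isCompl P hP2)
  ext b
  cases b <;> simp

omit [FiniteDimensional ℂ W] in
theorem split_mapsTo (P f : Module.End ℂ W) (hfP : f * P = P * f) (b : Bool) :
    Set.MapsTo f (split_N P b) (split_N P b) := by
  have h : ∀ x, P (f x) = f (P x) := fun x => by
    have := LinearMap.congr_fun hfP x
    simpa using this.symm
  intro x hx
  cases b
  · have hx' : P x = -x := (split_mem_false P x).1 hx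
    show f x ∈ split_N P false
    rw [split_mem_false, h, hx', map_neg]
  · have hx' : P x = x := (split_mem_true P x).1 hx
    show f x ∈ split_N P true
    rw [split_mem_true, h, hx']

theorem split_trace (P f : Module.End ℂ W) (hP2 : P * P = 1) (hfP : f * P = P * f) :
    LinearMap.trace ℂ W f =
      LinearMap.trace ℂ (split_N P true) (f.restrict (split_mapsTo P f hfP true)) +
      LinearMap.trace ℂ (split_N P false) (f.restrict (split_mapsTo P f hfP false)) := by
  rw [LinearMap.trace_eq_sum_trace_restrict (split_isInternal P hP2) (split_mapsTo P f hfP),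
    Fintype.sum_bool]

/-- the eigenspaces as subrepresentations -/
def split_sub {G : Type*} [Group G] (M : Representation ℂ G W) (P : Module.End ℂ W)
    (hMP : ∀ g, M g * P = P * M g) (b : Bool) : Subrepresentation M where
  toSubmodule := split_N P b
  apply_mem_toSubmodule g _ hv := split_mapsTo P (M g) (hMP g) b hv

theorem split_dims (P : Module.End ℂ W) (hP2 : P * P = 1) (d : ℕ)
    (hd : Module.finrank ℂ W = 2 * d + 1) (htr : LinearMap.trace ℂ W P = 1) :
    (Module.finrank ℂ (split_N P true) : ℂ) = (d : ℂ) + 1 ∧
      (Module.finrank ℂ (split_N P false) : ℂ) = (d : ℂ) := by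
  have hsum := Submodule.finrank_add_eq_of_isCompl (split_isCompl P hP2)
  rw [hd] at hsum
  have hsumC : (Module.finrank ℂ (split_N P true) : ℂ) + (Module.finrank ℂ (split_N P false) : ℂ) =
      2 * (d : ℂ) + 1 := by exact_mod_cast hsum
  have ht := split_trace P P hP2 rfl
  rw [htr] at ht
  have h1 : P.restrict (split_mapsTo P P rfl true) = 1 := by
    apply LinearMap.ext
    intro x
    apply Subtype.ext
    exact (split_mem_true P x.1).1 x.2
  have h2 : P.restrict (split_mapsTo P P rfl false) = -1 := by
    apply LinearMap.ext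
    intro x
    apply Subtype.ext
    exact (split_mem_false P x.1).1 x.2
  rw [h1, h2, map_neg, LinearMap.trace_one, LinearMap.trace_one] at ht
  constructor
  · linear_combination (1 / 2 : ℂ) * hsumC - (1 / 2 : ℂ) * ht
  · linear_combination (1 / 2 : ℂ) * hsumC + (1 / 2 : ℂ) * ht

/-- WE-SPLIT (Helper3.CharBasic). The `±1`-eigenspaces of `P` are subrepresentations
(`Subrepresentation.toRepresentation`, `Helper3.isCharacter_character`), complementary, the trace is additive
(`LinearMap.trace_eq_sum_trace_restrict` / `Submodule.prodEquivOfIsCompl`), and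
`dim W₊ + dim W₋ = 2d+1`, `dim W₊ - dim W₋ = tr P = 1`. -/
theorem exists_split {G : Type*} [Group G] (M : Representation ℂ G W) (P : Module.End ℂ W)
    (hP2 : P * P = 1) (hMP : ∀ g, M g * P = P * M g) (d : ℕ)
    (hd : Module.finrank ℂ W = 2 * d + 1) (htr : LinearMap.trace ℂ W P = 1) :
    ∃ ωp ωm : G → ℂ, IsCharacter G ωp ∧ IsCharacter G ωm ∧ ωp 1 = (d : ℂ) + 1 ∧ ωm 1 = (d : ℂ) ∧
      ∀ g, LinearMap.trace ℂ W (M g) = ωp g + ωm g := by
  obtain ⟨hp, hm⟩ := split_dims P hP2 d hd htr
  refine ⟨(split_sub M P hMP true).toRepresentation.character,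
    (split_sub M P hMP false).toRepresentation.character,
    Cfsg.Agent.Lib.Helper3.isCharacter_character _,
    Cfsg.Agent.Lib.Helper3.isCharacter_character _, ?_, ?_, ?_⟩
  · rw [Representation.char_one]
    exact hp
  · rw [Representation.char_one]
    exact hm
  · intro g
    exact split_trace P (M g) hP2 (hMP g)

end Abstract

end Cfsg.Agent.Lib.Helper14.We
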